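/-
Types of non-degenerate even-dimensional subspaces of quadratic spaces.
-/
import Cfsg.Agent.Lib.PrimeIso.AltBlocks
import Cfsg.Agent.Lib.FiniteForms.WittBasis
import Cfsg.Agent.Lib.Lagrangian
import Cfsg.Agent.Lib.StdQuadForms
import Cfsg.Agent.Lib.SympInvolution.OrthForm

set_option autoImplicit false
set_option linter.unusedSectionVars false

namespace CfsgLib.OrthIso

open Module QuadraticMap CfsgLib.FiniteForms CfsgLib.PrimeIso

universe u v w

variable {F : Type u} [Field F] {V : Type v} [AddCommGroup V] [Module F V] [FiniteDimensional F V]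
  {Q : QuadraticForm F V}

/-- Half of the subspace is totally singular. -/
def Plus (Q : QuadraticForm F V) (W : Submodule F V) : Prop :=
  ∃ U ≤ W, (∀ u ∈ U, Q u = 0) ∧ 2 * finrank F U = finrank F W

theorem polar_comp {M : Type w} [AddCommGroup M] [Module F M] (f : M →ₗ[F] V) (x y : M) :
    polar (Q.comp f) x y = polar Q (f x) (f y) := by
  simp [polar, map_add]

theorem q_add (x y : V) : Q (x + y) = Q x + Q y + polar Q x y := QuadraticMap.map_add Q x y

theorem pn_restrict {W : Submodule F V} (hW : ND (polarBilin Q) W) :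
    PolarNondeg (Q.comp W.subtype) := fun x hx => Subtype.ext (hW x x.2 fun y hy => by
  have h := hx ⟨y, hy⟩
  rw [polar_comp] at h
  exact h)

theorem two_mul_plus_le {W U : Submodule F V} (hW : ND (polarBilin Q) W) (hU : U ≤ W) (hts : ∀ u ∈ U, Q u = 0) :
    2 * finrank F U ≤ finrank F W :=
  two_mul_finrank_le hU (fun x hx y hy => by
    show polar Q x y = 0
    simp only [polar, hts x hx, hts y hy, hts _ (add_mem hx hy), sub_zero]) hW

variable [Finite F]

/-- Coordinates on a subspace of plus type. -/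
theorem plus_model {W : Submodule F V} (hW : ND (polarBilin Q) W) {K : ℕ} (hd : finrank F W = 2 * K)
    (hp : Plus Q W) :
    ∃ g : W ≃ₗ[F] (Fin K ⊕ Fin K → F), ∀ v : W, Q (v : V) = Cfsg.quadFormPlus K F (g v) := by
  rcases Nat.eq_zero_or_pos K with rfl | hK
  · refine ⟨LinearEquiv.ofFinrankEq W _ (by simp [hd]), fun v => ?_⟩
    have : (v : V) = 0 := by
      have h0 : W = ⊥ := Submodule.finrank_eq_zero.mp (by omega)
      exact (Submodule.mem_bot F).mp (h0 ▸ v.2)
    rw [this, QuadraticMap.map_zero]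
    simp [Cfsg.quadFormPlus]
  rcases even_dichotomy (pn_restrict hW) hK hd with ⟨e, f, h⟩ | ⟨e, f, x, y, h, hx, hy, hQx, hxy, hnr, hli⟩
  · obtain ⟨g, hg⟩ := isometry_of_hypFam h hd
    exact ⟨g, fun v => hg v⟩
  · exfalso
    obtain ⟨g, hg⟩ := isometry_of_elliptic (k := K - 1) h hx hy hxy hQx hli (by omega)
    obtain ⟨U, hUW, hU, hUd⟩ := hp
    have := minus_totally_singular_le (anisotropic_of_no_root hnr) ((U.comap W.subtype).map g.toLinearMap) (by
      rintro _ ⟨u, hu, rfl⟩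
      show Cfsg.quadFormMinus (K - 1) F 1 _ (g u) = 0
      rw [← hg]
      exact hU u hu)
    rw [LinearEquiv.finrank_map_eq, (Submodule.comapSubtypeEquivOfLe hUW).finrank_eq] at this
    omega

/-- Coordinates on a subspace of minus type. -/
theorem minus_model {W : Submodule F V} (hW : ND (polarBilin Q) W) {k : ℕ} (hd : finrank F W = 2 * (k + 1))
    (hn : ¬ Plus Q W) :
    ∃ (ζ : F) (g : W ≃ₗ[F] ((Fin k ⊕ Fin k) ⊕ Fin 2 → F)), (∀ t : F, t ^ 2 + t + ζ ≠ 0) ∧
      ∀ v : W, Q (v : V) = Cfsg.quadFormMinus k F 1 ζ (g v) := by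
  rcases even_dichotomy (pn_restrict hW) (Nat.succ_pos k) hd with ⟨e, f, h⟩ | ⟨e, f, x, y, h, hx, hy, hQx, hxy, hnr, hli⟩
  · exfalso
    obtain ⟨g, hg⟩ := isometry_of_hypFam h hd
    obtain ⟨U, hU, hUd⟩ := plus_exists_singular (F := F) (k + 1)
    refine hn ⟨(U.map g.symm.toLinearMap).map W.subtype, Submodule.map_subtype_le _ _, ?_, ?_⟩
    · rintro _ ⟨_, ⟨u, hu, rfl⟩, rfl⟩
      show (Q.comp W.subtype) (g.symm u) = 0
      rw [hg, g.apply_symm_apply]
      exact hU u hu
    · rw [Submodule.finrank_map_subtype_eq, LinearEquiv.finrank_map_eq, hUd, hd]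
  · obtain ⟨g, hg⟩ := isometry_of_elliptic (k := k) h hx hy hxy hQx hli (by omega)
    exact ⟨_, g, hnr, fun v => hg v⟩

theorem half_half (h2 : (2 : F) ≠ 0) : (2 : F)⁻¹ * 2 = 1 := inv_mul_cancel₀ h2

theorem neg_disc (h2 : (2 : F) ≠ 0) {ζ : F} (hζ : ∀ t : F, t ^ 2 + t + ζ ≠ 0) : ¬ IsSquare (-(ζ - (2 : F)⁻¹ * (2 : F)⁻¹)) := by
  rintro ⟨r, hr⟩
  have hh := half_half h2
  exact hζ (r - (2 : F)⁻¹) (by linear_combination (-r + (2 : F)⁻¹) * hh - hr)

/-- A value with no roots. -/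
theorem exists_no_root : ∃ ζ : F, ∀ t : F, t ^ 2 + t + ζ ≠ 0 := by
  classical
  have := Fintype.ofFinite F
  by_cases h2 : (2 : F) = 0
  · have : CharP F 2 := CharTwo.of_one_ne_zero_of_two_eq_zero one_ne_zero h2
    obtain ⟨ζ, hζ⟩ := CfsgLib.SympOrth.exists_not_P2 (F := F)
    exact ⟨ζ, fun t ht => hζ ⟨t, CharTwo.add_eq_zero.mp ht⟩⟩
  obtain ⟨ν, hν⟩ := FiniteField.exists_nonsquare (F := F) fun hc => by
    have := ringChar.of_eq hc
    exact h2 (CharP.ofNat_eq_zero F 2)
  have hh := half_half h2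
  exact ⟨(2 : F)⁻¹ * (2 : F)⁻¹ - ν, fun t ht => hν ⟨t + (2 : F)⁻¹, by linear_combination (-t) * hh - ht⟩⟩

/-- Anisotropic binary forms are similar with every multiplier. -/
theorem bin_scale {ζ η c : F} (hζ : ∀ t : F, t ^ 2 + t + ζ ≠ 0) (hη : ∀ t : F, t ^ 2 + t + η ≠ 0) (hc : c ≠ 0) :
    ∃ ψ : (Fin 2 → F) ≃ₗ[F] (Fin 2 → F), ∀ z : Fin 2 → F,
      ψ z 0 ^ 2 + 1 * ψ z 0 * ψ z 1 + η * ψ z 1 ^ 2 = c * (z 0 ^ 2 + 1 * z 0 * z 1 + ζ * z 1 ^ 2) := by
  classical
  have := Fintype.ofFinite F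
  by_cases h2 : (2 : F) = 0
  · have : CharP F 2 := CharTwo.of_one_ne_zero_of_two_eq_zero one_ne_zero h2
    have hP : ∀ {θ : F}, (∀ t : F, t ^ 2 + t + θ ≠ 0) → ¬ CfsgLib.SympOrth.P2 θ := fun h ⟨t, ht⟩ =>
      h t (CharTwo.add_eq_zero.mpr ht)
    obtain ⟨y, hy⟩ := CfsgLib.SympOrth.P2_add_iff.mpr (iff_of_false (hP hζ) (hP hη))
    obtain ⟨s, hs⟩ := CfsgLib.FiniteForms.sqrt_charTwo h2 c
    let M : (Fin 2 → F) →ₗ[F] (Fin 2 → F) :=
      LinearMap.pi ![s • (LinearMap.proj 0 + y • LinearMap.proj 1), s • LinearMap.proj 1]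
    have hM0 : ∀ z, M z 0 = s * (z 0 + y * z 1) := fun z => by simp [M]; ring
    have hM1 : ∀ z, M z 1 = s * z 1 := fun z => by simp [M]
    have hinj : Function.Injective M := (injective_iff_map_eq_zero M).mpr fun z hz => by
      have hs0 : s ≠ 0 := fun e => hc (by rw [hs, e, mul_zero])
      have e1 : z 1 = 0 := (mul_eq_zero.mp ((hM1 z).symm.trans (congrFun hz 1))).resolve_left hs0
      have e0 := (mul_eq_zero.mp ((hM0 z).symm.trans (congrFun hz 0))).resolve_left hs0
      rw [e1, mul_zero, add_zero] at e0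
      funext j
      fin_cases j
      · exact e0
      · exact e1
    refine ⟨LinearEquiv.ofInjectiveEndo M hinj, fun z => ?_⟩
    show M z 0 ^ 2 + 1 * M z 0 * M z 1 + η * M z 1 ^ 2 = _
    rw [hM0, hM1, hs]
    linear_combination (s * s * z 1 ^ 2) * hy + (s * s * y * z 0 * z 1 + s * s * η * z 1 ^ 2) * h2
  set hf := (2 : F)⁻¹ with hhf
  have hh : hf * 2 = 1 := half_half h2
  set δ := ζ - hf * hf with hδ
  set ε := η - hf * hf with hε
  have h1 : ¬ IsSquare (-δ) := neg_disc h2 hζ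
  have h3 : ¬ IsSquare (-ε) := neg_disc h2 hη
  have hε0 : ε ≠ 0 := fun e => h3 (by rw [e, neg_zero]; exact IsSquare.zero)
  obtain ⟨u, hu⟩ : IsSquare (δ / ε) := by
    have hne : ringChar F ≠ 2 := fun hc' => by
      have := ringChar.of_eq hc'
      exact h2 (CharP.ofNat_eq_zero F 2)
    have hδ0 : δ ≠ 0 := fun e => h1 (by rw [e, neg_zero]; exact IsSquare.zero)
    rw [← quadraticChar_one_iff_isSquare (div_ne_zero hδ0 hε0),
      show δ / ε = (-δ) * (-ε) * ((1 / ε) ^ 2) by field_simp]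
    rw [map_mul, map_mul, map_pow, quadraticChar_sq_one (one_div_ne_zero hε0),
      quadraticChar_neg_one_iff_not_isSquare.mpr h1, quadraticChar_neg_one_iff_not_isSquare.mpr h3]
    norm_num
  have hu' : u * u * ε = δ := by rw [← hu, div_mul_cancel₀ _ hε0]
  obtain ⟨s, t, hst⟩ := exists_rep_one h2 (a := 1 / c) (b := ε / c) (one_div_ne_zero hc) (div_ne_zero hε0 hc)
  have hst' : s * s + ε * (t * t) = c := by
    field_simp at hst
    linear_combination hst
  let M : (Fin 2 → F) →ₗ[F] (Fin 2 → F) :=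
    LinearMap.pi ![
      (s • (LinearMap.proj 0 + hf • LinearMap.proj 1) + (-(u * ε * t)) • LinearMap.proj 1) -
        hf • (t • (LinearMap.proj 0 + hf • LinearMap.proj 1) + (u * s) • LinearMap.proj 1),
      t • (LinearMap.proj 0 + hf • LinearMap.proj 1) + (u * s) • LinearMap.proj 1]
  have hM0 : ∀ z, M z 0 = s * (z 0 + hf * z 1) - u * ε * t * z 1 - hf * (t * (z 0 + hf * z 1) + u * s * z 1) :=
    fun z => by simp [M]; ring
  have hM1 : ∀ z, M z 1 = t * (z 0 + hf * z 1) + u * s * z 1 := fun z => by simp [M]; ring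
  have key : ∀ z : Fin 2 → F,
      M z 0 ^ 2 + 1 * M z 0 * M z 1 + η * M z 1 ^ 2 = c * (z 0 ^ 2 + 1 * z 0 * z 1 + ζ * z 1 ^ 2) := by
    intro z
    set a := z 0
    set b := z 1
    have e1 : M z 0 ^ 2 + 1 * M z 0 * M z 1 + η * M z 1 ^ 2 =
        (M z 0 + hf * M z 1) ^ 2 + ε * M z 1 ^ 2 := by
      rw [hε]; linear_combination -(M z 0 * M z 1) * hh
    have e2 : a ^ 2 + 1 * a * b + ζ * b ^ 2 = (a + hf * b) ^ 2 + δ * b ^ 2 := by
      rw [hδ]; linear_combination -(a * b) * hh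
    rw [e1, e2, hM0, hM1]
    linear_combination ((a + hf * b) ^ 2 + u * u * ε * b ^ 2) * hst' + (c * b ^ 2) * hu'
  have hinj : Function.Injective M := (injective_iff_map_eq_zero M).mpr fun z hz => by
    have h0 := key z
    rw [hz] at h0
    simp only [Pi.zero_apply, mul_zero, zero_pow two_ne_zero, add_zero] at h0
    obtain ⟨e1, e2⟩ := anisotropic_of_no_root hζ _ _ ((mul_eq_zero.mp h0.symm).resolve_left hc)
    funext j
    fin_cases j
    · exact e1
    · exact e2
  exact ⟨LinearEquiv.ofInjectiveEndo M hinj, key⟩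

/-- The model of minus type does not depend on the parameter. -/
theorem minus_model_iso (k : ℕ) {ζ η : F} (hζ : ∀ t : F, t ^ 2 + t + ζ ≠ 0) (hη : ∀ t : F, t ^ 2 + t + η ≠ 0) :
    ∃ φ : ((Fin k ⊕ Fin k) ⊕ Fin 2 → F) ≃ₗ[F] ((Fin k ⊕ Fin k) ⊕ Fin 2 → F),
      ∀ v, Cfsg.quadFormMinus k F 1 η (φ v) = Cfsg.quadFormMinus k F 1 ζ v := by
  obtain ⟨ψ, hψ⟩ := bin_scale hζ hη one_ne_zero
  let e := LinearEquiv.sumArrowLequivProdArrow (Fin k ⊕ Fin k) (Fin 2) F F
  refine ⟨e.trans (((LinearEquiv.refl F _).prodCongr ψ).trans e.symm), fun v => ?_⟩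
  simp only [LinearEquiv.trans_apply, Cfsg.quadFormMinus, e]
  have h := hψ (fun j => v (Sum.inr j))
  rw [one_mul (v (Sum.inr 0) ^ 2 + _ + _)] at h
  simp only [LinearEquiv.sumArrowLequivProdArrow_symm_apply_inl, LinearEquiv.sumArrowLequivProdArrow_symm_apply_inr,
    LinearEquiv.prodCongr_apply, LinearEquiv.refl_apply]
  exact congrArg _ h

/-- Subspaces of the same dimension and type are isometric. -/
theorem exists_iso_of_type {V' : Type w} [AddCommGroup V'] [Module F V'] [FiniteDimensional F V']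
    {Q' : QuadraticForm F V'} {W : Submodule F V} {W' : Submodule F V'} (hW : ND (polarBilin Q) W)
    (hW' : ND (polarBilin Q') W') {K : ℕ} (hd : finrank F W = 2 * K) (hd' : finrank F W' = 2 * K)
    (ht : Plus Q W ↔ Plus Q' W') : ∃ φ : W ≃ₗ[F] W', ∀ w : W, Q' (φ w : V') = Q (w : V) := by
  by_cases hp : Plus Q W
  · obtain ⟨g, hg⟩ := plus_model hW hd hp
    obtain ⟨g', hg'⟩ := plus_model hW' hd' (ht.mp hp)
    exact ⟨g.trans g'.symm, fun w => by rw [hg', LinearEquiv.trans_apply, g'.apply_symm_apply, hg]⟩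
  · rcases K with _ | k
    · exact absurd ⟨⊥, bot_le, fun u hu => by rw [(Submodule.mem_bot F).mp hu, QuadraticMap.map_zero], by
        rw [finrank_bot, hd, mul_zero]⟩ hp
    obtain ⟨ζ, g, hζ, hg⟩ := minus_model hW hd hp
    obtain ⟨η, g', hη, hg'⟩ := minus_model hW' hd' fun h => hp (ht.mpr h)
    obtain ⟨φ, hφ⟩ := minus_model_iso k hζ hη
    refine ⟨(g.trans φ).trans g'.symm, fun w => ?_⟩
    rw [hg', LinearEquiv.trans_apply, g'.apply_symm_apply, LinearEquiv.trans_apply, hφ, hg]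

omit [Finite F] in
theorem sup_dims {Y P : Submodule F V} (hY : ND (polarBilin Q) Y) (hP : ND (polarBilin Q) P)
    (horth : ∀ y ∈ Y, ∀ z ∈ P, polar Q y z = 0) :
    Y ⊓ P = ⊥ ∧ finrank F ↥(Y ⊔ P) = finrank F Y + finrank F P ∧ ND (polarBilin Q) (Y ⊔ P) := by
  have hinf : Y ⊓ P = ⊥ := (Submodule.eq_bot_iff _).mpr fun x hx => hY x hx.1 fun y hy => by
    show polar Q x y = 0
    rw [polar_comm]; exact horth y hy x hx.2
  refine ⟨hinf, ?_, fun x hx hp => ?_⟩
  · have h := Submodule.finrank_sup_add_finrank_inf_eq Y P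
    rw [hinf, finrank_bot, add_zero] at h
    exact h
  obtain ⟨a, ha, b, hb, rfl⟩ := Submodule.mem_sup.mp hx
  have ha0 : a = 0 := hY a ha fun y hy => by
    have h1 : polar Q (a + b) y = 0 := hp y (Submodule.mem_sup_left hy)
    rwa [polar_add_left, polar_comm Q b y, horth y hy b hb, add_zero] at h1
  subst ha0
  rw [zero_add] at hp ⊢
  exact hP b hb fun y hy => hp y (Submodule.mem_sup_right hy)

/-- The type of an orthogonal sum. -/
theorem plus_sup_iff {Y P : Submodule F V} (hY : ND (polarBilin Q) Y) (hP : ND (polarBilin Q) P)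
    (horth : ∀ y ∈ Y, ∀ z ∈ P, polar Q y z = 0) (hYe : Even (finrank F Y)) (hPe : Even (finrank F P)) :
    Plus Q (Y ⊔ P) ↔ (Plus Q Y ↔ Plus Q P) := by
  obtain ⟨hinf, hdim, hND⟩ := sup_dims hY hP horth
  have hq : ∀ a ∈ Y, ∀ b ∈ P, Q (a + b) = Q a + Q b := fun a ha b hb => by rw [q_add, horth a ha b hb, add_zero]
  have hsplit : ∀ a ∈ Y, ∀ b ∈ P, a + b = 0 → a = 0 ∧ b = 0 := fun a ha b hb hab => by
    have ha' : a ∈ Y ⊓ P := ⟨ha, by rw [eq_neg_of_add_eq_zero_left hab]; exact neg_mem hb⟩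
    rw [hinf, Submodule.mem_bot] at ha'
    exact ⟨ha', by rwa [ha', zero_add] at hab⟩
  obtain ⟨K, hK⟩ := hYe
  obtain ⟨L, hL⟩ := hPe
  rw [← two_mul] at hK hL
  -- plus and minus give minus
  have hpm : ∀ {Y P : Submodule F V} {K l : ℕ}, ND (polarBilin Q) Y → ND (polarBilin Q) P →
      (∀ y ∈ Y, ∀ z ∈ P, polar Q y z = 0) → finrank F Y = 2 * K → finrank F P = 2 * (l + 1) →
      Plus Q Y → ¬ Plus Q P → ¬ Plus Q (Y ⊔ P) := by
    intro Y P K l hY hP horth hK hl hYp hPn ⟨U, hU, hUts, hUd⟩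
    obtain ⟨hinf, hdim, -⟩ := sup_dims hY hP horth
    obtain ⟨g, hg⟩ := plus_model hY hK hYp
    obtain ⟨ζ, g', hζ, hg'⟩ := minus_model hP hl hPn
    let L1 : ((Fin (K + l) ⊕ Fin (K + l)) ⊕ Fin 2 → F) →ₗ[F] (Fin K ⊕ Fin K → F) :=
      LinearMap.funLeft F F (fun s => Sum.inl (Sum.map (Fin.castAdd l) (Fin.castAdd l) s))
    let L2 : ((Fin (K + l) ⊕ Fin (K + l)) ⊕ Fin 2 → F) →ₗ[F] ((Fin l ⊕ Fin l) ⊕ Fin 2 → F) :=
      LinearMap.funLeft F F (Sum.map (Sum.map (Fin.natAdd K) (Fin.natAdd K)) id)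
    let M : ((Fin (K + l) ⊕ Fin (K + l)) ⊕ Fin 2 → F) →ₗ[F] V :=
      Y.subtype.comp (g.symm.toLinearMap.comp L1) + P.subtype.comp (g'.symm.toLinearMap.comp L2)
    have hMq : ∀ v, Q (M v) = Cfsg.quadFormMinus (K + l) F 1 ζ v := by
      intro v
      show Q ((g.symm (L1 v) : V) + (g'.symm (L2 v) : V)) = _
      rw [q_add, horth _ (g.symm _).2 _ (g'.symm _).2, add_zero, hg, hg', g.apply_symm_apply, g'.apply_symm_apply]
      simp only [Cfsg.quadFormPlus, Cfsg.quadFormMinus, Fin.sum_univ_add, L1, L2, LinearMap.funLeft_apply,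
        Sum.map_inl, Sum.map_inr, id]
      ring
    have hMinj : Function.Injective M := by
      refine (injective_iff_map_eq_zero M).mpr fun v hv => ?_
      have h1 : (g.symm (L1 v) : V) + (g'.symm (L2 v) : V) = 0 := hv
      have ha : (g.symm (L1 v) : V) ∈ Y ⊓ P :=
        ⟨(g.symm _).2, by rw [eq_neg_of_add_eq_zero_left h1]; exact neg_mem (g'.symm _).2⟩
      rw [hinf, Submodule.mem_bot] at ha
      rw [ha, zero_add] at h1
      have e1 : L1 v = 0 := g.symm.injective (by rw [map_zero]; exact Subtype.ext ha)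
      have e2 : L2 v = 0 := g'.symm.injective (by rw [map_zero]; exact Subtype.ext h1)
      funext s
      rcases s with (s | s) | s
      · refine Fin.addCases (fun j => ?_) (fun j => ?_) s
        · exact congrFun e1 (Sum.inl j)
        · exact congrFun e2 (Sum.inl (Sum.inl j))
      · refine Fin.addCases (fun j => ?_) (fun j => ?_) s
        · exact congrFun e1 (Sum.inr j)
        · exact congrFun e2 (Sum.inl (Sum.inr j))
      · exact congrFun e2 (Sum.inr s)
    have hrange : LinearMap.range M = Y ⊔ P := by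
      refine Submodule.eq_of_le_of_finrank_eq ?_ ?_
      · rintro _ ⟨v, rfl⟩
        exact Submodule.add_mem_sup (g.symm _).2 (g'.symm _).2
      · rw [LinearMap.finrank_range_of_inj hMinj, hdim, hK, hl, Module.finrank_fintype_fun_eq_card,
          Fintype.card_sum, Fintype.card_sum, Fintype.card_fin, Fintype.card_fin]
        omega
    have hb := minus_totally_singular_le (anisotropic_of_no_root hζ) (U.comap M) fun v hv => by
      rw [← hMq]
      exact hUts _ hv
    have hc : finrank F (U.comap M) = finrank F U := by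
      have := (Submodule.equivMapOfInjective M hMinj (U.comap M)).finrank_eq
      rw [this, Submodule.map_comap_eq, inf_eq_right.mpr (hU.trans hrange.ge)]
    rw [hdim, hK, hl] at hUd
    omega
  by_cases hYp : Plus Q Y <;> by_cases hPp : Plus Q P
  · refine iff_of_true ?_ (iff_of_true hYp hPp)
    obtain ⟨U, hU, hUts, hUd⟩ := hYp
    obtain ⟨U', hU', hUts', hUd'⟩ := hPp
    refine ⟨U ⊔ U', sup_le_sup hU hU', fun x hx => ?_, ?_⟩
    · obtain ⟨a, ha, b, hb, rfl⟩ := Submodule.mem_sup.mp hx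
      rw [hq a (hU ha) b (hU' hb), hUts a ha, hUts' b hb, add_zero]
    · have h := Submodule.finrank_sup_add_finrank_inf_eq U U'
      rw [le_bot_iff.mp ((inf_le_inf hU hU').trans hinf.le), finrank_bot, add_zero] at h
      omega
  · obtain ⟨l, rfl⟩ : ∃ l, L = l + 1 := by
      rcases L with _ | l
      · exact absurd ⟨⊥, bot_le, fun u hu => by rw [(Submodule.mem_bot F).mp hu, QuadraticMap.map_zero], by
          rw [finrank_bot, hL, mul_zero]⟩ hPp
      · exact ⟨l, rfl⟩
    exact iff_of_false (hpm hY hP horth hK hL hYp hPp) fun h => hPp (h.mp hYp)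
  · obtain ⟨l, rfl⟩ : ∃ l, K = l + 1 := by
      rcases K with _ | l
      · exact absurd ⟨⊥, bot_le, fun u hu => by rw [(Submodule.mem_bot F).mp hu, QuadraticMap.map_zero], by
          rw [finrank_bot, hK, mul_zero]⟩ hYp
      · exact ⟨l, rfl⟩
    refine iff_of_false ?_ fun h => hYp (h.mpr hPp)
    rw [sup_comm]
    exact hpm hP hY (fun z hz y hy => by rw [polar_comm]; exact horth y hy z hz) hL hK hPp hYp
  · refine iff_of_true ?_ (iff_of_false hYp hPp)
    obtain ⟨k, rfl⟩ : ∃ k, K = k + 1 := by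
      rcases K with _ | l
      · exact absurd ⟨⊥, bot_le, fun u hu => by rw [(Submodule.mem_bot F).mp hu, QuadraticMap.map_zero], by
          rw [finrank_bot, hK, mul_zero]⟩ hYp
      · exact ⟨l, rfl⟩
    obtain ⟨l, rfl⟩ : ∃ l, L = l + 1 := by
      rcases L with _ | l
      · exact absurd ⟨⊥, bot_le, fun u hu => by rw [(Submodule.mem_bot F).mp hu, QuadraticMap.map_zero], by
          rw [finrank_bot, hL, mul_zero]⟩ hPp
      · exact ⟨l, rfl⟩
    obtain ⟨ζ, g, hζ, hg⟩ := minus_model hY hK hYp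
    obtain ⟨η, g', hη, hg'⟩ := minus_model hP hL hPp
    obtain ⟨ψ, hψ⟩ := bin_scale hζ hη (c := -1) (neg_ne_zero.mpr one_ne_zero)
    let A1 : ((Fin k → F) × (Fin l → F) × (Fin 2 → F)) →ₗ[F] ((Fin k ⊕ Fin k) ⊕ Fin 2 → F) :=
      LinearMap.pi (Sum.elim (Sum.elim (fun j => (LinearMap.proj j).comp (LinearMap.fst F _ _)) (fun _ => 0))
        (fun j => (LinearMap.proj j).comp ((LinearMap.snd F _ _).comp (LinearMap.snd F _ _))))
    let A2 : ((Fin k → F) × (Fin l → F) × (Fin 2 → F)) →ₗ[F] ((Fin l ⊕ Fin l) ⊕ Fin 2 → F) :=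
      LinearMap.pi (Sum.elim (Sum.elim (fun j => (LinearMap.proj j).comp ((LinearMap.fst F _ _).comp (LinearMap.snd F _ _)))
        (fun _ => 0))
        (fun j => (LinearMap.proj j).comp (ψ.toLinearMap.comp ((LinearMap.snd F _ _).comp (LinearMap.snd F _ _)))))
    let M : ((Fin k → F) × (Fin l → F) × (Fin 2 → F)) →ₗ[F] V :=
      Y.subtype.comp (g.symm.toLinearMap.comp A1) + P.subtype.comp (g'.symm.toLinearMap.comp A2)
    have hMinj : Function.Injective M := by
      refine (injective_iff_map_eq_zero M).mpr fun v hv => ?_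
      obtain ⟨e1, e2⟩ := hsplit _ (g.symm (A1 v)).2 _ (g'.symm (A2 v)).2 hv
      have f1 : A1 v = 0 := g.symm.injective (by rw [map_zero]; exact Subtype.ext e1)
      have f2 : A2 v = 0 := g'.symm.injective (by rw [map_zero]; exact Subtype.ext e2)
      exact Prod.ext (funext fun j => congrFun f1 (Sum.inl (Sum.inl j)))
        (Prod.ext (funext fun j => congrFun f2 (Sum.inl (Sum.inl j))) (funext fun j => congrFun f1 (Sum.inr j)))
    refine ⟨LinearMap.range M, ?_, ?_, ?_⟩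
    · rintro _ ⟨v, rfl⟩
      exact Submodule.add_mem_sup (g.symm _).2 (g'.symm _).2
    · rintro _ ⟨v, rfl⟩
      show Q ((g.symm (A1 v) : V) + (g'.symm (A2 v) : V)) = 0
      rw [q_add, horth _ (g.symm _).2 _ (g'.symm _).2, add_zero, hg, hg', g.apply_symm_apply, g'.apply_symm_apply]
      have h := hψ v.2.2
      simp only [one_mul] at h
      simp only [Cfsg.quadFormMinus, A1, A2, LinearMap.pi_apply, Sum.elim_inl, Sum.elim_inr, LinearMap.zero_apply,
        mul_zero, Finset.sum_const_zero, zero_add, LinearMap.comp_apply, LinearMap.proj_apply, LinearMap.snd_apply,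
        LinearEquiv.coe_coe, one_mul]
      linear_combination h
    · rw [LinearMap.finrank_range_of_inj hMinj, hdim, hK, hL, Module.finrank_prod, Module.finrank_prod,
        Module.finrank_fin_fun, Module.finrank_fin_fun, Module.finrank_fin_fun]
      omega

/-- A non-zero non-degenerate space has an anisotropic vector. -/
theorem exists_aniso {U : Submodule F V} (hU : ND (polarBilin Q) U) (hne : U ≠ ⊥) : ∃ g ∈ U, Q g ≠ 0 := by
  by_contra hall
  push Not at hall
  obtain ⟨x, hx, hx0⟩ := Submodule.exists_mem_ne_zero_of_ne_bot hne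
  refine hx0 (hU x hx fun y hy => ?_)
  show polar Q x y = 0
  simp [polar, hall x hx, hall y hy, hall _ (add_mem hx hy)]

/-- Proper subspaces of both types. -/
theorem exists_type {U : Submodule F V} (hU : ND (polarBilin Q) U) {K : ℕ} (hK : 0 < K)
    (hf : 2 * K < finrank F U) (P : Prop) :
    ∃ W ≤ U, ND (polarBilin Q) W ∧ finrank F W = 2 * K ∧ (Plus Q W ↔ P) := by
  obtain ⟨e, f, h⟩ := exists_hypFam K U (Q.comp U.subtype) (pn_restrict hU) hf
  let L : (Fin K ⊕ Fin K → F) →ₗ[F] V :=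
    U.subtype.comp ((∑ j : Fin K, (LinearMap.proj (Sum.inl j)).smulRight (e j)) +
      ∑ j : Fin K, (LinearMap.proj (Sum.inr j)).smulRight (f j))
  have hL : ∀ v, Q (L v) = Cfsg.quadFormPlus K F v := fun v => by
    have := h.quad_comb (fun j => v (Sum.inl j)) (fun j => v (Sum.inr j))
    simpa [L, Cfsg.quadFormPlus, LinearMap.sum_apply] using this
  have hpol : ∀ u v, polar Q (L u) (L v) = polar (Cfsg.quadFormPlus K F) u v := fun u v => by
    simp only [polar, ← map_add, hL]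
  have hpd : ∀ u, (∀ v, polar (Cfsg.quadFormPlus K F) u v = 0) → u = 0 := fun u hu =>
    CfsgLib.Lagrangian.Qp_nondeg.1 u fun v => by
      show polar (⇑(CfsgLib.Lagrangian.Qp K F)) u v = 0
      simp only [polar, CfsgLib.Lagrangian.Qp_apply]
      exact hu v
  have hLinj : Function.Injective L := (injective_iff_map_eq_zero L).mpr fun u hu => hpd u fun v => by
    rw [← hpol, hu, polar_zero_left]
  set W₀ := LinearMap.range L with hW₀
  have hW₀le : W₀ ≤ U := by
    rintro _ ⟨v, rfl⟩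
    exact ((((∑ j : Fin K, (LinearMap.proj (Sum.inl j)).smulRight (e j)) +
      ∑ j : Fin K, (LinearMap.proj (Sum.inr j)).smulRight (f j)) : (Fin K ⊕ Fin K → F) →ₗ[F] U) v).2
  have hW₀n : ND (polarBilin Q) W₀ := by
    rintro _ ⟨u, rfl⟩ hu
    rw [hpd u fun v => by rw [← hpol]; exact hu _ ⟨v, rfl⟩, map_zero]
  have hW₀d : finrank F W₀ = 2 * K := by
    rw [LinearMap.finrank_range_of_inj hLinj, Module.finrank_fintype_fun_eq_card, Fintype.card_sum, Fintype.card_fin]
    omega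
  have hW₀p : Plus Q W₀ := by
    obtain ⟨S, hS, hSd⟩ := plus_exists_singular (F := F) K
    refine ⟨S.map L, LinearMap.map_le_range, ?_, ?_⟩
    · rintro _ ⟨u, hu, rfl⟩; rw [hL]; exact hS u hu
    · rw [← (Submodule.equivMapOfInjective L hLinj S).finrank_eq, hSd, hW₀d]
  by_cases hP : P
  · exact ⟨W₀, hW₀le, hW₀n, hW₀d, iff_of_true hW₀p hP⟩
  obtain ⟨k, rfl⟩ : ∃ k, K = k + 1 := ⟨K - 1, by omega⟩
  obtain ⟨hRn, -, -, hRd⟩ := split_perpIn (B := polarBilin Q) (fun x y hxy => by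
    show polar Q y x = 0
    rw [polar_comm]; exact hxy) hW₀le hW₀n hU
  obtain ⟨g, hgR, hg⟩ := exists_aniso hRn (fun hb => by rw [hb, finrank_bot] at hRd; omega)
  obtain ⟨ζ, hζ⟩ := exists_no_root (F := F)
  obtain ⟨α, β, b, hαβ, hab'⟩ : ∃ α β b : F, α + β = 1 ∧ α * β + Q g * (b * b) = ζ := by
    have := Fintype.ofFinite F
    by_cases h2 : (2 : F) = 0
    · obtain ⟨b, hb⟩ := CfsgLib.FiniteForms.sqrt_charTwo h2 (ζ / Q g)
      exact ⟨0, 1, b, zero_add 1, by rw [zero_mul, zero_add, ← hb, mul_div_cancel₀ _ hg]⟩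
    · set δ := ζ - (2 : F)⁻¹ * (2 : F)⁻¹ with hδ
      have hδ0 : δ ≠ 0 := fun e0 => neg_disc h2 hζ (by rw [← hδ, e0, neg_zero]; exact IsSquare.zero)
      obtain ⟨a, b, hab⟩ := exists_rep_one h2 (a := -1 / δ) (b := Q g / δ)
        (div_ne_zero (neg_ne_zero.mpr one_ne_zero) hδ0) (div_ne_zero hg hδ0)
      refine ⟨(2 : F)⁻¹ + a, (2 : F)⁻¹ - a, b, by linear_combination half_half h2, ?_⟩
      field_simp at hab
      linear_combination hab + hδ
  let Z : ((Fin k ⊕ Fin k) ⊕ Fin 2 → F) →ₗ[F] (Fin (k + 1) ⊕ Fin (k + 1) → F) :=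
    LinearMap.pi (Sum.elim
      (Fin.lastCases (LinearMap.proj (Sum.inr 0) + α • LinearMap.proj (Sum.inr 1))
        (fun j => LinearMap.proj (Sum.inl (Sum.inl j))))
      (Fin.lastCases (LinearMap.proj (Sum.inr 0) + β • LinearMap.proj (Sum.inr 1))
        (fun j => LinearMap.proj (Sum.inl (Sum.inr j)))))
  let M : ((Fin k ⊕ Fin k) ⊕ Fin 2 → F) →ₗ[F] V :=
    L.comp Z + (b • LinearMap.proj (Sum.inr 1) : ((Fin k ⊕ Fin k) ⊕ Fin 2 → F) →ₗ[F] F).smulRight g
  have hM : ∀ v, Q (M v) = Cfsg.quadFormMinus k F 1 ζ v := by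
    intro v
    show Q (L (Z v) + (b * v (Sum.inr 1)) • g) = _
    rw [q_add, hL, QuadraticMap.map_smul, polar_smul_right, smul_eq_mul, smul_eq_mul,
      show polar Q (L (Z v)) g = 0 from hgR.2 _ ⟨_, rfl⟩, mul_zero, add_zero]
    simp only [Cfsg.quadFormPlus, Cfsg.quadFormMinus, Fin.sum_univ_castSucc, Z, LinearMap.pi_apply, Sum.elim_inl,
      Sum.elim_inr, Fin.lastCases_castSucc, Fin.lastCases_last, LinearMap.proj_apply, LinearMap.add_apply,
      LinearMap.smul_apply, smul_eq_mul, one_mul]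
    linear_combination (v (Sum.inr 0) * v (Sum.inr 1)) * hαβ + (v (Sum.inr 1) ^ 2) * hab'
  have hMp : ∀ u v, polar Q (M u) (M v) = polar (Cfsg.quadFormMinus k F 1 ζ) u v := fun u v => by
    simp only [polar, ← map_add, hM]
  have hMd : ∀ u, (∀ v, polar (Cfsg.quadFormMinus k F 1 ζ) u v = 0) → u = 0 := fun u hu => by
    have := Fintype.ofFinite F
    refine (CfsgLib.StdQuadForms.Qm_nondeg k (anisotropic_of_no_root hζ)).1 u fun v => ?_
    show polar (⇑(CfsgLib.StdQuadForms.Qm k 1 ζ)) u v = 0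
    simp only [polar, CfsgLib.StdQuadForms.Qm_apply]
    exact hu v
  have hMinj : Function.Injective M := (injective_iff_map_eq_zero M).mpr fun u hu => hMd u fun v => by
    rw [← hMp, hu, polar_zero_left]
  refine ⟨LinearMap.range M, ?_, ?_, ?_, iff_of_false ?_ hP⟩
  · rintro _ ⟨v, rfl⟩
    exact add_mem (hW₀le ⟨_, rfl⟩) (U.smul_mem _ hgR.1)
  · rintro _ ⟨u, rfl⟩ hu
    rw [hMd u fun v => by rw [← hMp]; exact hu _ ⟨v, rfl⟩, map_zero]
  · rw [LinearMap.finrank_range_of_inj hMinj, Module.finrank_fintype_fun_eq_card, Fintype.card_sum, Fintype.card_sum,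
      Fintype.card_fin, Fintype.card_fin]
    omega
  · rintro ⟨S, hS, hSts, hSd⟩
    have hb := minus_totally_singular_le (anisotropic_of_no_root hζ) (S.comap M) fun v hv => by
      rw [← hM]
      exact hSts _ hv
    have hc : finrank F (S.comap M) = finrank F S := by
      rw [(Submodule.equivMapOfInjective M hMinj (S.comap M)).finrank_eq, Submodule.map_comap_eq,
        inf_eq_right.mpr hS]
    rw [LinearMap.finrank_range_of_inj hMinj, Module.finrank_fintype_fun_eq_card, Fintype.card_sum, Fintype.card_sum,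
      Fintype.card_fin, Fintype.card_fin] at hSd
    omega

end CfsgLib.OrthIso
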