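/-
Isometries of odd prime order of quadratic spaces: the moved part, its blocks and its type.
-/
import Cfsg.Agent.Lib.OrthIso.Type
import Cfsg.Agent.Lib.PrimeIso.Rev
import Cfsg.Agent.Lib.QuadCount

set_option autoImplicit false
set_option linter.unusedSectionVars false

namespace CfsgLib.OrthIso

open Module Polynomial QuadraticMap CfsgLib.PrimeIso CfsgLib.MaxSub.Elusive

universe u v

variable {F : Type u} [Field F] [Fintype F] {V : Type v} [AddCommGroup V] [Module F V] [FiniteDimensional F V]
  {Q : QuadraticForm F V} {T : Module.End F V} {p r : ℕ} [Fact p.Prime] [CharP F p] [Fact r.Prime]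

theorem perIso_of (hrp : r ≠ p) (hiso : ∀ v, Q (T v) = Q v) (hper : T ^ r = 1) : PerIso (polarBilin Q) T r where
  refl := fun x y hxy => by
    show polar Q y x = 0
    rw [polar_comm]; exact hxy
  iso := fun x y => by
    show polar Q (T x) (T y) = polar Q x y
    simp only [polar, ← map_add, hiso]
  per := hper
  unit := CfsgLib.GLClassNumber.natCast_ne_zero_of_prime_ne (p := p) (Fact.out : r.Prime) hrp

theorem polar_symm_bilin (x y : V) : polarBilin Q y x = polarBilin Q x y := polar_comm Q y x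

/-- Both parts of a non-degenerate invariant subspace are non-degenerate. -/
theorem nd_parts (h : PerIso (polarBilin Q) T r) {U : Submodule F V} (hU : Inv T U) (hUn : ND (polarBilin Q) U) :
    ND (polarBilin Q) (U ⊓ LinearMap.ker (aeval T (X - C (1 : F)))) ∧
      ND (polarBilin Q) (U ⊓ LinearMap.ker (aeval T (geom F r))) ∧
      (U ⊓ LinearMap.ker (aeval T (X - C (1 : F)))) ⊔ (U ⊓ LinearMap.ker (aeval T (geom F r))) = U := by
  set A := U ⊓ LinearMap.ker (aeval T (X - C (1 : F)))
  set R := U ⊓ LinearMap.ker (aeval T (geom F r))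
  have hinf : A ⊓ R = ⊥ := (Submodule.eq_bot_iff _).mpr fun x hx => (fix_perp h hx.1.2 hx.2.2).2 rfl
  have hs := finrank_split h hU
  have h1 := Submodule.finrank_sup_add_finrank_inf_eq A R
  rw [hinf, finrank_bot, add_zero] at h1
  have hsup : A ⊔ R = U := Submodule.eq_of_le_of_finrank_eq (sup_le inf_le_left inf_le_left) (h1.trans hs)
  refine ⟨fun x hx hp => hUn x hx.1 fun y hy => ?_, fun x hx hp => hUn x hx.1 fun y hy => ?_, hsup⟩ <;>
    obtain ⟨a, ha, b, hb, rfl⟩ := Submodule.mem_sup.mp (hsup.ge hy) <;> rw [map_add]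
  · rw [hp a ha, (fix_perp h hx.2 hb.2).1, add_zero]
  · rw [hp b hb, polar_symm_bilin a x, (fix_perp h ha.2 hx.2).1, add_zero]

theorem root_facts (hrp : r ≠ p) {g : F[X]} (hg : g ∣ geom F r) (hgi : Irreducible g) :
    (AdjoinRoot.root g) ^ r = 1 ∧ AdjoinRoot.root g ≠ 1 := by
  have : Fact (Irreducible g) := ⟨hgi⟩
  obtain ⟨R, hR⟩ := hg
  have h0 : aeval (AdjoinRoot.root g) (geom F r) = 0 := by
    rw [hR, map_mul, AdjoinRoot.aeval_eq, AdjoinRoot.mk_self, zero_mul]
  refine ⟨?_, fun e => ?_⟩
  · have h1 := congrArg (aeval (AdjoinRoot.root g)) (show geom F r * (X - 1) = X ^ r - 1 from geom_sum_mul _ _)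
    rw [map_mul, h0, zero_mul] at h1
    simpa [sub_eq_zero] using h1.symm
  · rw [e] at h0
    refine CfsgLib.GLClassNumber.natCast_ne_zero_of_prime_ne (F := F) (p := p) (Fact.out : r.Prime) hrp
      ((algebraMap F (AdjoinRoot g)).injective ?_)
    simpa [geom] using h0

/-- Factors of odd degree are not self-reciprocal. -/
theorem not_dvd_reverse (hrp : r ≠ p) (hr2 : r ≠ 2) {g : F[X]} (hgi : Irreducible g) (_hgm : g.Monic)
    (hg : g ∣ geom F r) (ho : Odd g.natDegree) : ¬ g ∣ g.reverse := by
  classical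
  intro hrev
  have : Fact (Irreducible g) := ⟨hgi⟩
  set a := AdjoinRoot.root g with ha
  obtain ⟨har, ha1⟩ := root_facts (p := p) hrp hg hgi
  have ha0 : a ≠ 0 := fun e => by
    rw [← ha, e, zero_pow (Fact.out : r.Prime).ne_zero] at har
    exact zero_ne_one har
  have : FiniteDimensional F (AdjoinRoot g) := (AdjoinRoot.powerBasis hgi.ne_zero).finite
  have : Finite (AdjoinRoot g) := Module.finite_of_finite F
  have hb : aeval a⁻¹ g = 0 := by
    let hinv : Invertible a⁻¹ := ⟨a, mul_inv_cancel₀ ha0, inv_mul_cancel₀ ha0⟩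
    refine (Polynomial.eval₂_reverse_eq_zero_iff (algebraMap F (AdjoinRoot g)) a⁻¹ g).mp ?_
    show aeval a g.reverse = 0
    rw [AdjoinRoot.aeval_eq, AdjoinRoot.mk_eq_zero]
    exact hrev
  let φ : AdjoinRoot g →ₐ[F] AdjoinRoot g :=
    AdjoinRoot.liftAlgHom g (Algebra.ofId F (AdjoinRoot g)) a⁻¹ hb
  have hφ : φ a = a⁻¹ := AdjoinRoot.liftAlgHom_root g _ _ hb
  let e : AdjoinRoot g ≃ₐ[F] AdjoinRoot g := AlgEquiv.ofBijective φ φ.bijective
  have he2 : e ^ 2 = 1 := by
    refine AlgEquiv.ext fun z => ?_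
    have h3 : φ.comp φ = AlgHom.id F (AdjoinRoot g) := AdjoinRoot.algHom_ext (by
      show φ (φ a) = a
      rw [hφ, map_inv₀, hφ, inv_inv])
    show (e ^ 2) z = z
    rw [pow_two, AlgEquiv.mul_apply]
    exact DFunLike.congr_fun h3 z
  have hcard : Nat.card (AdjoinRoot g ≃ₐ[F] AdjoinRoot g) = g.natDegree := by
    rw [IsGalois.card_aut_eq_finrank]
    rw [(AdjoinRoot.powerBasis hgi.ne_zero).finrank, AdjoinRoot.powerBasis_dim]
  have he1 : e = 1 := by
    have h4 : e ^ g.natDegree = 1 := by rw [← hcard]; exact pow_card_eq_one'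
    have h5 := pow_gcd_eq_one.mpr ⟨he2, h4⟩
    rwa [(Nat.coprime_two_left.mpr ho).gcd_eq_one, pow_one] at h5
  have hfix : a⁻¹ = a := by rw [← hφ]; exact DFunLike.congr_fun he1 a
  have haa : a * a = 1 := by nth_rewrite 1 [← hfix]; exact inv_mul_cancel₀ ha0
  obtain ⟨k, hk⟩ := (Fact.out : r.Prime).odd_of_ne_two hr2
  refine ha1 ?_
  calc a = (a * a) ^ k * a := by rw [haa, one_pow, one_mul]
    _ = a ^ r := by rw [← pow_two, ← pow_mul, hk, pow_succ]
    _ = 1 := har

/-- The kernel of a factor of odd degree is totally isotropic. -/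
theorem ker_ts_odd (h : PerIso (polarBilin Q) T r) {g : F[X]} (hgi : Irreducible g) (hrev : ¬ g ∣ g.reverse)
    {x y : V} (hx : aeval T g x = 0) (hy : aeval T g y = 0) : polarBilin Q x y = 0 := by
  obtain ⟨u, w, huw⟩ := hgi.coprime_iff_not_dvd.mpr hrev
  set z := aeval T w x
  have hz : aeval T g.reverse z = x := by
    have h1 := congrArg (fun P => aeval T P x) huw
    simp only [map_add, map_mul, map_one, LinearMap.add_apply, Module.End.mul_apply, Module.End.one_apply, hx,
      map_zero, zero_add] at h1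
    rw [show aeval T g.reverse z = aeval T (w * g.reverse) x by rw [mul_comm, map_mul, Module.End.mul_apply]]
    rw [map_mul, Module.End.mul_apply]
    exact h1
  set i := g.natDegree with hi
  set y' := (T ^ (i * (r - 1))) y
  have hy' : aeval T g y' = 0 := LinearMap.mem_ker.mp ((inv_ker g).pow _ y (LinearMap.mem_ker.mpr hy))
  have hyy : (T ^ i) y' = y := by
    rw [← Module.End.mul_apply, ← pow_add, show i + i * (r - 1) = r * i by
      obtain ⟨k, hk⟩ : ∃ k, r = k + 1 := ⟨r - 1, by have := (Fact.out : r.Prime).pos; omega⟩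
      rw [hk, Nat.add_sub_cancel]; ring, pow_mul, h.per, one_pow, Module.End.one_apply]
  clear_value y'
  rw [← hz, ← hyy, aeval_eq_sum_range' (Nat.lt_succ_of_le (hi ▸ reverse_natDegree_le g)), LinearMap.sum_apply,
    map_sum, LinearMap.sum_apply]
  calc ∑ l ∈ Finset.range (i + 1), polarBilin Q ((g.reverse.coeff l • T ^ l) z) ((T ^ i) y')
      = ∑ l ∈ Finset.range (i + 1), g.coeff (i - l) * polarBilin Q z ((T ^ (i - l)) y') := by
        refine Finset.sum_congr rfl fun l hl => ?_
        have hl' : l ≤ i := Nat.le_of_lt_succ (Finset.mem_range.mp hl)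
        rw [LinearMap.smul_apply, map_smul, LinearMap.smul_apply, smul_eq_mul, Polynomial.coeff_reverse, ← hi,
          Polynomial.revAt_le hl']
        conv_lhs => rw [show (T ^ i) y' = (T ^ l) ((T ^ (i - l)) y') by
          rw [← Module.End.mul_apply, ← pow_add, Nat.add_sub_cancel' hl'], h.pow]
    _ = ∑ j ∈ Finset.range (i + 1), g.coeff j * polarBilin Q z ((T ^ j) y') := by
        rw [← Finset.sum_range_reflect (fun j => g.coeff j * polarBilin Q z ((T ^ j) y')) (i + 1)]
        refine Finset.sum_congr rfl fun l hl => ?_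
        rw [Nat.add_sub_cancel]
    _ = polarBilin Q z (aeval T g y') := by
        rw [aeval_eq_sum_range, LinearMap.sum_apply, map_sum]
        simp [hi]
    _ = 0 := by rw [hy', map_zero]

theorem two_ne (hp2 : p ≠ 2) : (2 : F) ≠ 0 := by
  intro h
  have h2 : ((2 : ℕ) : F) = 0 := by exact_mod_cast h
  rw [CharP.cast_eq_zero_iff F p] at h2
  exact hp2 ((Nat.prime_dvd_prime_iff_eq Fact.out Nat.prime_two).mp h2)

/-- The alternating form attached to an isometry. -/
noncomputable def twist (Q : QuadraticForm F V) (T : Module.End F V) (r : ℕ) : V →ₗ[F] V →ₗ[F] F :=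
  (polarBilin Q).comp (T - T ^ (r - 1) : Module.End F V)

theorem twist_alt (h : PerIso (polarBilin Q) T r) (x : V) : twist Q T r x x = 0 := by
  show polarBilin Q (T x - (T ^ (r - 1)) x) x = 0
  have e : T ((T ^ (r - 1)) x) = x := by
    rw [← Module.End.mul_apply, ← pow_succ', Nat.sub_add_cancel (Fact.out : r.Prime).one_le, h.per,
      Module.End.one_apply]
  have h1 := h.iso ((T ^ (r - 1)) x) x
  rw [e] at h1
  rw [map_sub, LinearMap.sub_apply, ← h1, polar_symm_bilin (T x) x, sub_self]

theorem perIso_twist (h : PerIso (polarBilin Q) T r) : PerIso (twist Q T r) T r where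
  refl := alt_refl (twist_alt h)
  iso := fun x y => by
    show polarBilin Q (T (T x) - (T ^ (r - 1)) (T x)) (T y) = polarBilin Q (T x - (T ^ (r - 1)) x) y
    have e : (T ^ (r - 1)) (T x) = T ((T ^ (r - 1)) x) := by
      rw [← Module.End.mul_apply, ← pow_succ, pow_succ', Module.End.mul_apply]
    rw [e, ← map_sub, h.iso]
  per := h.per
  unit := h.unit

variable (hrp : r ≠ p) (hr2 : r ≠ 2) (hiso : ∀ v, Q (T v) = Q v)

include hrp hr2 hiso

theorem twist_bij (hper : T ^ r = 1) {X : Submodule F V} (hX : Inv T X)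
    (hker : X ≤ LinearMap.ker (aeval T (geom F r))) {y : V} (hy : y ∈ X) :
    (∃ x ∈ X, T x - (T ^ (r - 1)) x = y) ∧ (∃ x ∈ X, T x - x = y) ∧
      (T y - (T ^ (r - 1)) y = 0 → y = 0) := by
  have h := perIso_of hrp hiso hper
  have hfix : ∀ x ∈ X, T x = x → x = 0 := fun x hx e =>
    (fix_perp h (x := x) (y := x) (by rw [LinearMap.mem_ker]; simp [e]) (hker hx)).2 rfl
  have hS : ∀ x ∈ X, T x - (T ^ (r - 1)) x = 0 → x = 0 := fun x hx e => by
    have h2 : (T ^ 2) x = x := by
      have := congrArg T e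
      rw [map_sub, map_zero, sub_eq_zero, ← Module.End.mul_apply, ← Module.End.mul_apply, ← pow_succ',
        Nat.sub_add_cancel (Fact.out : r.Prime).one_le, hper, Module.End.one_apply, ← pow_two] at this
      exact this
    obtain ⟨k, hk⟩ := (Fact.out : r.Prime).odd_of_ne_two hr2
    have hk2 : ∀ n, (T ^ (2 * n)) x = x := fun n => by
      induction n with
      | zero => rfl
      | succ n ih => rw [mul_add, mul_one, pow_add, Module.End.mul_apply, h2, ih]
    refine hfix x hx ?_
    have h3 : (T ^ r) x = x := by rw [hper, Module.End.one_apply]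
    rwa [hk, pow_succ', Module.End.mul_apply, hk2] at h3
  refine ⟨?_, ?_, hS y hy⟩
  · let S : X →ₗ[F] X := (T - T ^ (r - 1) : Module.End F V).restrict fun x hx => sub_mem (hX x hx) (hX.pow _ x hx)
    have hinj : Function.Injective S := (injective_iff_map_eq_zero S).mpr fun x hx =>
      Subtype.ext (hS x x.2 (congrArg Subtype.val hx))
    obtain ⟨x, hx⟩ := (LinearMap.injective_iff_surjective.mp hinj) ⟨y, hy⟩
    exact ⟨x, x.2, congrArg Subtype.val hx⟩
  · let S : X →ₗ[F] X := (T - 1 : Module.End F V).restrict fun x hx => sub_mem (hX x hx) hx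
    have hinj : Function.Injective S := (injective_iff_map_eq_zero S).mpr fun x hx =>
      Subtype.ext (hfix x x.2 (sub_eq_zero.mp (congrArg Subtype.val hx)))
    obtain ⟨x, hx⟩ := (LinearMap.injective_iff_surjective.mp hinj) ⟨y, hy⟩
    exact ⟨x, x.2, congrArg Subtype.val hx⟩

theorem twist_nd_iff (hper : T ^ r = 1) {X : Submodule F V} (hX : Inv T X)
    (hker : X ≤ LinearMap.ker (aeval T (geom F r))) : ND (twist Q T r) X ↔ ND (polarBilin Q) X := by
  constructor
  · intro hn x hx hp
    obtain ⟨⟨z, hz, rfl⟩, -, -⟩ := twist_bij hrp hr2 hiso hper hX hker hx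
    rw [hn z hz hp]
    simp
  · intro hn x hx hp
    exact (twist_bij hrp hr2 hiso hper hX hker hx).2.2 (hn _ (sub_mem (hX x hx) (hX.pow _ x hx)) hp)

/-- Moved invariant subspaces that are isotropic for the alternating form are totally singular. -/
theorem twist_ts_iff (hper : T ^ r = 1) {X : Submodule F V} (hX : Inv T X)
    (hker : X ≤ LinearMap.ker (aeval T (geom F r))) :
    (∀ x ∈ X, ∀ y ∈ X, twist Q T r x y = 0) ↔ ∀ x ∈ X, Q x = 0 := by
  constructor
  · intro h0 y hy
    have hpol : ∀ x ∈ X, ∀ y ∈ X, polar Q x y = 0 := fun x hx y hy => by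
      obtain ⟨⟨z, hz, rfl⟩, -, -⟩ := twist_bij hrp hr2 hiso hper hX hker hx
      exact h0 z hz y hy
    obtain ⟨-, ⟨x, hx, rfl⟩, -⟩ := twist_bij hrp hr2 hiso hper hX hker hy
    have h1 := q_add (Q := Q) (T x - x) x
    rw [sub_add_cancel, hiso, hpol _ (sub_mem (hX x hx) hx) x hx, add_zero] at h1
    linear_combination -h1
  · intro h0 x hx y hy
    show polar Q (T x - (T ^ (r - 1)) x) y = 0
    have hm := sub_mem (hX x hx) (hX.pow (r - 1) x hx)
    simp [polar, h0 _ hm, h0 y hy, h0 _ (add_mem hm hy)]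

/-- Totally singular invariant subspaces of a moved piece. -/
theorem exists_ts_moved (hper : T ^ r = 1) {i : ℕ} (hi : i = orderOf (Fintype.card F : ZMod r))
    {Y : Submodule F V} (hY : Inv T Y) (hker : Y ≤ LinearMap.ker (aeval T (geom F r))) {k : ℕ}
    (hk : k = 0 ∨ 2 * (k * i) + slack (geom F r) i < finrank F Y + 2 * i) :
    ∃ W ≤ Y, Inv T W ∧ (∀ w ∈ W, Q w = 0) ∧ finrank F W = k * i := by
  have h := perIso_of hrp hiso hper
  obtain ⟨W, hW, hWT, hWts, hWd⟩ := exists_ts (twist_alt h) (perIso_twist h) (geom_monic (Fact.out : r.Prime).pos)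
    (fun g h1 h2 h3 => hi ▸ geom_degree (p := p) (Fact.out : r.Prime) hrp h1 h2 h3) hY hker hk
  exact ⟨W, hW, hWT, (twist_ts_iff hrp hr2 hiso hper hWT (hW.trans hker)).mp hWts, hWd⟩

/-- Moved invariant non-degenerate subspaces of all dimensions. -/
theorem exists_moved_dim (hper : T ^ r = 1) {c : ℕ}
    (hc : c = if Even (orderOf (Fintype.card F : ZMod r)) then orderOf (Fintype.card F : ZMod r)
      else 2 * orderOf (Fintype.card F : ZMod r))
    {U : Submodule F V} (hUT : Inv T U) (hker : U ≤ LinearMap.ker (aeval T (geom F r)))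
    (hU : ND (polarBilin Q) U) :
    c ∣ finrank F U ∧ ∀ k, k * c ≤ finrank F U →
      ∃ Y ≤ U, Inv T Y ∧ ND (polarBilin Q) Y ∧ finrank F Y = k * c := by
  have h := perIso_of hrp hiso hper
  obtain ⟨hdvd, hex⟩ := exists_nd_dim (twist_alt h) (perIso_twist h) (geom_monic (Fact.out : r.Prime).pos)
    (order_pos (F := F) (p := p) (r := r) hrp) hc
    (fun g h1 h2 h3 => geom_degree (p := p) (Fact.out : r.Prime) hrp h1 h2 h3)
    (fun he g h1 h2 h3 => dvd_reverse (p := p) hrp he h1 h3) hUT hker
    ((twist_nd_iff hrp hr2 hiso hper hUT hker).mpr hU)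
  refine ⟨hdvd, fun k hk => ?_⟩
  obtain ⟨Y, hY, hYT, hYn, hYd⟩ := hex k hk
  exact ⟨Y, hY, hYT, (twist_nd_iff hrp hr2 hiso hper hYT (hY.trans hker)).mp hYn, hYd⟩

/-- Half of an invariant moved subspace is totally singular when the degree is odd. -/
theorem plus_odd (hper : T ^ r = 1) (ho : Odd (orderOf (Fintype.card F : ZMod r))) {Y : Submodule F V}
    (hY : Inv T Y) (hker : Y ≤ LinearMap.ker (aeval T (geom F r))) (hYn : ND (polarBilin Q) Y) :
    ∃ W ≤ Y, Inv T W ∧ (∀ w ∈ W, Q w = 0) ∧ 2 * finrank F W = finrank F Y := by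
  have hipos : 0 < orderOf (Fintype.card F : ZMod r) := order_pos (F := F) (p := p) (r := r) hrp
  obtain ⟨⟨e, he⟩, -⟩ := exists_moved_dim hrp hr2 hiso hper
    (c := 2 * orderOf (Fintype.card F : ZMod r)) (by rw [if_neg (Nat.not_even_iff_odd.mpr ho)]) hY hker hYn
  obtain ⟨W, hW, hWT, hWts, hWd⟩ := exists_ts_moved hrp hr2 hiso hper rfl hY hker (k := e) (Or.inr (by
    rw [slack, if_neg (Nat.not_even_iff_odd.mpr ho), he]
    have : 2 * orderOf (Fintype.card F : ZMod r) * e = 2 * (e * orderOf (Fintype.card F : ZMod r)) := by ring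
    omega))
  exact ⟨W, hW, hWT, hWts, by rw [hWd, he]; ring⟩

/-- The type of a moved subspace when the degree is even. -/
theorem plus_even (hper : T ^ r = 1) {h j : ℕ} (hi : orderOf (Fintype.card F : ZMod r) = 2 * h) {Y : Submodule F V}
    (hY : Inv T Y) (hker : Y ≤ LinearMap.ker (aeval T (geom F r))) (hYn : ND (polarBilin Q) Y)
    (hd : finrank F Y = j * (2 * h)) : Plus Q Y ↔ Even j := by
  classical
  have hP := perIso_of hrp hiso hper
  rcases Nat.eq_zero_or_pos j with rfl | hj
  · refine iff_of_true ⟨⊥, bot_le, fun u hu => by rw [(Submodule.mem_bot F).mp hu, QuadraticMap.map_zero], ?_⟩ Even.zero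
    rw [finrank_bot, hd, zero_mul, mul_zero]
  have hh : 0 < h := by have := order_pos (F := F) (p := p) (r := r) hrp; omega
  set K := j * h with hKdef
  have hK : 0 < K := Nat.mul_pos hj hh
  have hd' : finrank F Y = 2 * K := by rw [hd, hKdef]; ring
  set q := Fintype.card F with hq
  -- the number of singular vectors
  have : Finite Y := Module.finite_of_finite F
  set N := Nat.card {v : Y // Q (v : V) = 0} with hN
  have hNmod : (N : ZMod r) = 1 := by
    let S := {v : Y // Q (v : V) = 0}
    let σ : Equiv.Perm S :=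
      { toFun := fun v => ⟨⟨T v.1.1, hY _ v.1.2⟩, (hiso _).trans v.2⟩
        invFun := fun v => ⟨⟨(T ^ (r - 1)) v.1.1, hY.pow _ _ v.1.2⟩, by
          have hpow : ∀ (n : ℕ) (x : V), Q ((T ^ n) x) = Q x := fun n => by
            induction n with
            | zero => intro x; rfl
            | succ n ih => intro x; rw [pow_succ, Module.End.mul_apply, ih, hiso]
          exact (hpow _ _).trans v.2⟩
        left_inv := fun v => Subtype.ext (Subtype.ext (by
          show (T ^ (r - 1)) (T v.1.1) = v.1.1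
          rw [← Module.End.mul_apply, ← pow_succ, Nat.sub_add_cancel (Fact.out : r.Prime).one_le, hper,
            Module.End.one_apply]))
        right_inv := fun v => Subtype.ext (Subtype.ext (by
          show T ((T ^ (r - 1)) v.1.1) = v.1.1
          rw [← Module.End.mul_apply, ← pow_succ', Nat.sub_add_cancel (Fact.out : r.Prime).one_le, hper,
            Module.End.one_apply])) }
    have hσ : σ ^ (r ^ 1) = 1 := by
      refine Equiv.ext fun v => Subtype.ext (Subtype.ext ?_)
      have key : ∀ n : ℕ, (((σ ^ n) v).1 : V) = (T ^ n) v.1.1 := fun n => by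
        induction n with
        | zero => rfl
        | succ n ih =>
          rw [pow_succ', pow_succ', Equiv.Perm.mul_apply, Module.End.mul_apply, ← ih]
          rfl
      rw [key, pow_one, hper]
      rfl
    have : Fintype S := Fintype.ofFinite S
    have hfix := Equiv.Perm.card_compl_support_modEq (p := r) hσ
    have hone : σ.supportᶜ.card = 1 := by
      refine Finset.card_eq_one.mpr ⟨⟨0, by simp⟩, Finset.ext fun v => ?_⟩
      rw [Finset.mem_compl, Equiv.Perm.mem_support, not_not, Finset.mem_singleton]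
      constructor
      · intro hv
        have hTv : T v.1.1 = v.1.1 := congrArg (fun s : S => (s.1 : V)) hv
        refine Subtype.ext (Subtype.ext ((fix_perp hP (x := v.1.1) (y := v.1.1) ?_ (hker v.1.2)).2 rfl))
        rw [LinearMap.mem_ker]
        simp [hTv]
      · rintro rfl
        exact Subtype.ext (Subtype.ext (map_zero T))
    rw [hone, ← ZMod.natCast_eq_natCast_iff, Nat.cast_one] at hfix
    rw [hN, Nat.card_eq_fintype_card]
    exact hfix.symm
  -- the two possible values
  set a : ZMod r := (q : ZMod r) with ha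
  set s : ZMod r := (-1) ^ j with hs
  have hah : a ^ h = -1 := by
    obtain ⟨e, he⟩ := half_pow (F := F) (p := p) (r := r) hrp hi
    have : ((q ^ h + 1 : ℕ) : ZMod r) = 0 := by rw [he, Nat.cast_mul, ZMod.natCast_self, zero_mul]
    push_cast at this
    linear_combination this
  have haK : a ^ K = s := by rw [hKdef, mul_comm, pow_mul, hah]
  set b := a ^ (K - 1) with hb
  have hab : b * a = s := by rw [hb, ← pow_succ, Nat.sub_add_cancel hK, haK]
  have hs1 : s = 1 ∨ s = -1 := by
    rcases Nat.even_or_odd j with e | e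
    · exact Or.inl e.neg_one_pow
    · exact Or.inr e.neg_one_pow
  have h2r : (2 : ZMod r) ≠ 0 := by
    intro e
    have : ((2 : ℕ) : ZMod r) = 0 := by exact_mod_cast e
    rw [ZMod.natCast_eq_zero_iff] at this
    exact hr2 ((Nat.prime_dvd_prime_iff_eq Fact.out Nat.prime_two).mp this)
  have hne1 : a ≠ 1 := fun e => by
    rw [e, orderOf_one] at hi
    omega
  have hcount : ∀ ε : ZMod r, (ε = 1 ∨ ε = -1) → b * s + ε * (s - b) = 1 → s = ε := by
    intro ε hε h0
    by_contra hse
    have h1 : (s - ε) * (b + ε) = 0 := by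
      rcases hε with rfl | rfl <;> linear_combination h0
    have hbe : b = -ε := by
      rcases mul_eq_zero.mp h1 with h1 | h1
      · exact absurd (sub_eq_zero.mp h1) hse
      · exact eq_neg_of_add_eq_zero_left h1
    have haa : a = 1 ∨ a = -1 := by
      rw [hbe] at hab
      rcases hε with rfl | rfl <;> rcases hs1 with hs' | hs' <;> rw [hs'] at hab
      · right; linear_combination -hab
      · left; linear_combination -hab
      · left; linear_combination hab
      · right; linear_combination hab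
    rcases haa with e | e
    · exact hne1 e
    · have hh1 : h = 1 := by
        have h3 := orderOf_dvd_of_pow_eq_one (show a ^ 2 = 1 by rw [e]; ring)
        rw [hi] at h3
        have := Nat.le_of_dvd two_pos h3
        omega
      have h4 : b = -s := by rw [← hab, e]; ring
      exact hse (by linear_combination -hbe + h4)
  have hqpos : 0 < q := Fintype.card_pos
  have hbs : a ^ (2 * K - 1) = b * s := by
    rw [← haK, hb, ← pow_add]
    congr 1
    omega
  constructor
  · intro hp
    obtain ⟨g, hg⟩ := plus_model hYn hd' hp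
    have hcard : N = q ^ (2 * K - 1) + q ^ K - q ^ (K - 1) := by
      rw [hN, hq, ← CfsgLib.QuadCount.card_plus (F := F) K hK]
      exact Nat.card_congr (g.toEquiv.subtypeEquiv fun v => by rw [hg v]; rfl)
    have hle : q ^ (K - 1) ≤ q ^ (2 * K - 1) + q ^ K :=
      (Nat.pow_le_pow_right hqpos (Nat.sub_le K 1)).trans (Nat.le_add_left _ _)
    rw [hcard, Nat.cast_sub hle] at hNmod
    push_cast at hNmod
    have := hcount 1 (Or.inl rfl) (by rw [← ha, hbs, haK, ← hb] at hNmod; linear_combination hNmod)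
    by_contra ho
    rw [hs, (Nat.not_even_iff_odd.mp ho).neg_one_pow] at this
    exact h2r (by linear_combination -this)
  · intro he
    by_contra hn
    obtain ⟨k, hk⟩ : ∃ k, K = k + 1 := ⟨K - 1, by omega⟩
    obtain ⟨ζ, g, hζ, hg⟩ := minus_model hYn (k := k) (by omega) hn
    have hcard : N = q ^ (2 * K - 1) + q ^ (K - 1) - q ^ K := by
      have h0 := CfsgLib.QuadCount.card_minus (F := F) (k + 1) (Nat.succ_pos k) 1 ζ
        (CfsgLib.FiniteForms.anisotropic_of_no_root hζ)
      simp only [Nat.add_sub_cancel] at h0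
      rw [hN, hq, hk, Nat.add_sub_cancel, ← h0]
      exact Nat.card_congr (g.toEquiv.subtypeEquiv fun v => by rw [hg v]; rfl)
    have hle : q ^ K ≤ q ^ (2 * K - 1) + q ^ (K - 1) :=
      (Nat.pow_le_pow_right hqpos (by omega)).trans (Nat.le_add_right _ _)
    rw [hcard, Nat.cast_sub hle] at hNmod
    push_cast at hNmod
    have := hcount (-1) (Or.inr rfl) (by rw [← ha, hbs, haK, ← hb] at hNmod; linear_combination hNmod)
    rw [hs, he.neg_one_pow] at this
    exact h2r (by linear_combination this)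

/-- The type of a moved subspace. -/
theorem type_moved (hper : T ^ r = 1) {i c j : ℕ} (hi : i = orderOf (Fintype.card F : ZMod r))
    (hc : c = if Even i then i else 2 * i) {Y : Submodule F V} (hY : Inv T Y)
    (hker : Y ≤ LinearMap.ker (aeval T (geom F r))) (hYn : ND (polarBilin Q) Y) (hd : finrank F Y = j * c) :
    Plus Q Y ↔ (Odd i ∨ Even j) := by
  subst hi
  rcases Nat.even_or_odd (orderOf (Fintype.card F : ZMod r)) with he | ho
  · obtain ⟨h, hh⟩ := he
    rw [if_pos ⟨h, hh⟩] at hc
    rw [plus_even hrp hr2 hiso hper (h := h) (j := j) (by omega) hY hker hYn (by rw [hd, hc, hh]; ring)]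
    refine ⟨Or.inr, fun h' => h'.resolve_left (Nat.not_odd_iff_even.mpr ⟨h, hh⟩)⟩
  · obtain ⟨W, hW, -, hWts, hWd⟩ := plus_odd hrp hr2 hiso hper ho hY hker hYn
    exact iff_of_true ⟨W, hW, hWts, hWd⟩ (Or.inl ho)

end CfsgLib.OrthIso
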