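/-
A prime dividing the number of non-degenerate subspaces of a given dimension and type.
-/
import Cfsg.Agent.Lib.OrthIso.Moved
import Cfsg.Agent.Lib.WittExtension

set_option autoImplicit false
set_option linter.unusedSectionVars false

namespace CfsgLib.OrthIso

open Module Polynomial QuadraticMap CfsgLib.PrimeIso CfsgLib.MaxSub.Elusive

universe u v

variable {F : Type u} [Field F] [Fintype F] {V : Type v} [AddCommGroup V] [Module F V] [FiniteDimensional F V]
  {Q : QuadraticForm F V} {T : Module.End F V} {p r : ℕ} [Fact p.Prime] [CharP F p] [Fact r.Prime]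

/-- An isometry of subspaces extends, fixing an orthogonal subspace pointwise. -/
theorem exists_extend (hQ : ND (polarBilin Q) (⊤ : Submodule F V)) {W W' R : Submodule F V}
    (hW : ND (polarBilin Q) W) (hW' : ND (polarBilin Q) W') (hR : ND (polarBilin Q) R)
    (hWR : ∀ w ∈ W, ∀ z ∈ R, polar Q w z = 0) (hWR' : ∀ w ∈ W', ∀ z ∈ R, polar Q w z = 0) {K : ℕ}
    (hd : finrank F W = 2 * K) (hd' : finrank F W' = 2 * K) (ht : Plus Q W ↔ Plus Q W') :
    ∃ g : V ≃ₗ[F] V, (∀ v, Q (g v) = Q v) ∧ (∀ z ∈ R, g z = z) ∧ W.map (g : V →ₗ[F] V) = W' := by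
  obtain ⟨φ, hφ⟩ := exists_iso_of_type hW hW' hd hd' ht
  have hnd : (polarBilin Q).Nondegenerate :=
    ⟨fun x hx => hQ x trivial fun y _ => hx y, fun y hy => hQ y trivial fun x _ => by
      show polar Q y x = 0
      rw [polar_comm]; exact hy x⟩
  let a : W × R →ₗ[F] V := W.subtype.coprod R.subtype
  let b : W × R →ₗ[F] V := (W'.subtype.comp φ.toLinearMap).coprod R.subtype
  have hinj : ∀ {A : Submodule F V}, ND (polarBilin Q) A → (∀ w ∈ A, ∀ z ∈ R, polar Q w z = 0) →
      ∀ w ∈ A, ∀ z ∈ R, w + z = 0 → w = 0 ∧ z = 0 := fun {A} hA hAR w hw z hz he => by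
    obtain ⟨hinf, -, -⟩ := sup_dims hA hR hAR
    have hw' : w ∈ A ⊓ R := ⟨hw, by rw [eq_neg_of_add_eq_zero_left he]; exact neg_mem hz⟩
    rw [hinf, Submodule.mem_bot] at hw'
    exact ⟨hw', by rwa [hw', zero_add] at he⟩
  have hainj : Function.Injective a := (injective_iff_map_eq_zero a).mpr fun x hx => by
    obtain ⟨e1, e2⟩ := hinj hW hWR x.1 x.1.2 x.2 x.2.2 (by simpa [a] using hx)
    exact Prod.ext (Subtype.ext e1) (Subtype.ext e2)
  have hbinj : Function.Injective b := (injective_iff_map_eq_zero b).mpr fun x hx => by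
    obtain ⟨e1, e2⟩ := hinj hW' hWR' (φ x.1) (φ x.1).2 x.2 x.2.2 (by simpa [b] using hx)
    exact Prod.ext (φ.injective (by rw [Prod.fst_zero, map_zero]; exact Subtype.ext e1)) (Subtype.ext e2)
  have hval : ∀ x, Q (b x) = Q (a x) := fun x => by
    show Q ((φ x.1 : V) + (x.2 : V)) = Q ((x.1 : V) + (x.2 : V))
    rw [q_add, q_add, hWR' _ (φ x.1).2 _ x.2.2, hWR _ x.1.2 _ x.2.2, hφ]
  let e := LinearEquiv.ofInjective a hainj
  obtain ⟨g, hg, hgX⟩ := CfsgLib.WittExtension.quad_extend Q hnd (LinearMap.range a) (b.comp e.symm.toLinearMap)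
    (hbinj.comp e.symm.injective) (fun y => by
      show Q (b (e.symm y)) = _
      rw [hval]
      exact congrArg Q (congrArg Subtype.val (e.apply_symm_apply y)))
  have hga : ∀ x, g (a x) = b x := fun x => by
    have := hgX (e x)
    rw [LinearMap.comp_apply, LinearEquiv.coe_coe, e.symm_apply_apply] at this
    exact this
  refine ⟨g, hg, fun z hz => ?_, Submodule.eq_of_le_of_finrank_eq ?_ ?_⟩
  · simpa [a, b] using hga (0, ⟨z, hz⟩)
  · rintro _ ⟨w, hw, rfl⟩
    have := hga (⟨w, hw⟩, 0)
    simp only [a, b, LinearMap.coprod_apply, map_zero, add_zero, Submodule.subtype_apply] at this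
    show g w ∈ W'
    rw [this]
    exact (φ ⟨w, hw⟩).2
  · rw [LinearEquiv.finrank_map_eq, hd, hd']

variable (hrp : r ≠ p) (hr2 : r ≠ 2) (hQ : ND (polarBilin Q) (⊤ : Submodule F V))
include hrp hr2 hQ

/-- The dimensions of the two parts of an isometry of order `r`. -/
theorem split_dim (hiso : ∀ v, Q (T v) = Q v) (hper : T ^ r = 1) {c : ℕ}
    (hc : c = if Even (orderOf (Fintype.card F : ZMod r)) then orderOf (Fintype.card F : ZMod r)
      else 2 * orderOf (Fintype.card F : ZMod r)) {U : Submodule F V} (hU : Inv T U) (hUn : ND (polarBilin Q) U) :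
    ∃ e, finrank F ↥(U ⊓ LinearMap.ker (aeval T (geom F r))) = e * c ∧
      finrank F ↥(U ⊓ LinearMap.ker (aeval T (X - C (1 : F)))) + e * c = finrank F U := by
  have h := perIso_of hrp hiso hper
  obtain ⟨-, hRn, -⟩ := nd_parts h hU hUn
  obtain ⟨⟨e, he⟩, -⟩ := exists_moved_dim hrp hr2 hiso hper hc (hU.inf (inv_ker _)) inf_le_right hRn
  refine ⟨e, by rw [he, mul_comm], ?_⟩
  rw [mul_comm e, ← he]
  exact finrank_split h hU

/-- If the subspaces are smaller than a block, the fixed space is at most as large. -/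
theorem fix_le (hiso : ∀ v, Q (T v) = Q v) (hper : T ^ r = 1) {c m : ℕ}
    (hc : c = if Even (orderOf (Fintype.card F : ZMod r)) then orderOf (Fintype.card F : ZMod r)
      else 2 * orderOf (Fintype.card F : ZMod r)) (hm0 : 0 < m) (hme : Even m) (hmc : m < c)
    (hkc : finrank F (LinearMap.ker (aeval T (X - C (1 : F)))) < c) (P : Prop)
    (hdvd : r ∣ Nat.card {W : Submodule F V // finrank F W = m ∧ ND (polarBilin Q) W ∧ (Plus Q W ↔ P)}) :
    finrank F (LinearMap.ker (aeval T (X - C (1 : F)))) ≤ m := by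
  classical
  by_contra hmk
  push Not at hmk
  have h := perIso_of hrp hiso hper
  have : Finite V := Module.finite_of_finite F
  obtain ⟨K, hK⟩ := hme
  rw [← two_mul] at hK
  set A := LinearMap.ker (aeval T (X - C (1 : F))) with hAdef
  set R := LinearMap.ker (aeval T (geom F r)) with hRdef
  obtain ⟨hAn, hRn, hAR⟩ := nd_parts h (inv_top (T := T)) hQ
  rw [top_inf_eq, top_inf_eq] at hAR
  rw [top_inf_eq] at hAn hRn
  have horth : ∀ a ∈ A, ∀ z ∈ R, polar Q a z = 0 := fun a ha z hz => (fix_perp h ha hz).1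
  set S := {W : Submodule F V // finrank F W = m ∧ ND (polarBilin Q) W ∧ (Plus Q W ↔ P)}
  have hTinj : Function.Injective T := Function.LeftInverse.injective (g := fun v => (T ^ (r - 1)) v) fun v => by
    show (T ^ (r - 1)) (T v) = v
    rw [← Module.End.mul_apply, ← pow_succ, Nat.sub_add_cancel (Fact.out : r.Prime).one_le, hper, Module.End.one_apply]
  have hmapND : ∀ W : Submodule F V, ND (polarBilin Q) W → ND (polarBilin Q) (W.map T) := by
    rintro W hW _ ⟨x, hx, rfl⟩ hp
    rw [hW x hx fun y hy => by rw [← h.iso]; exact hp _ ⟨y, hy, rfl⟩, map_zero]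
  have hmapP : ∀ W : Submodule F V, Plus Q W → Plus Q (W.map T) := by
    rintro W ⟨U, hU, hUts, hUd⟩
    refine ⟨U.map T, Submodule.map_mono hU, ?_, ?_⟩
    · rintro _ ⟨u, hu, rfl⟩; rw [hiso]; exact hUts u hu
    · rw [← (Submodule.equivMapOfInjective T hTinj U).finrank_eq, ← (Submodule.equivMapOfInjective T hTinj W).finrank_eq, hUd]
  let it : ℕ → Submodule F V → Submodule F V := fun n W => W.map (T ^ n)
  have hit : ∀ n W, it (n + 1) W = (it n W).map T := fun n W => by
    show W.map (T ^ (n + 1)) = (W.map (T ^ n)).map T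
    rw [pow_succ', Module.End.mul_eq_comp, Submodule.map_comp]
  have hitr : ∀ W : Submodule F V, it r W = W := fun W => by
    show W.map (T ^ r) = W
    rw [hper, Module.End.one_eq_id, Submodule.map_id]
  have hback : ∀ W : Submodule F V, Plus Q (W.map T) → Plus Q W := by
    intro W hW
    have key : ∀ n, Plus Q (W.map T) → Plus Q (it (n + 1) W) := by
      intro n hW
      induction n with
      | zero => rwa [hit, show it 0 W = W by show W.map (T ^ 0) = W; rw [pow_zero, Module.End.one_eq_id, Submodule.map_id]]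
      | succ n ih => rw [hit]; exact hmapP _ ih
    have := key (r - 1) hW
    rwa [Nat.sub_add_cancel (Fact.out : r.Prime).one_le, hitr] at this
  have hmem : ∀ W : S, finrank F (W.1.map T) = m ∧ ND (polarBilin Q) (W.1.map T) ∧ (Plus Q (W.1.map T) ↔ P) := fun W =>
    ⟨by rw [← (Submodule.equivMapOfInjective T hTinj W.1).finrank_eq, W.2.1], hmapND _ W.2.2.1,
      ⟨fun hp => W.2.2.2.mp (hback _ hp), fun hp => hmapP _ (W.2.2.2.mpr hp)⟩⟩
  let f : S → S := fun W => ⟨W.1.map T, hmem W⟩
  have hfinj : Function.Injective f := fun W W' e =>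
    Subtype.ext (Submodule.map_injective_of_injective hTinj (congrArg Subtype.val e))
  let σ : Equiv.Perm S := Equiv.ofBijective f (Finite.injective_iff_bijective.mp hfinj)
  have hσ : σ ^ (r ^ 1) = 1 := by
    have key : ∀ (n : ℕ) (W : S), ((σ ^ n) W).1 = it n W.1 := fun n => by
      induction n with
      | zero => intro W; show W.1 = W.1.map (T ^ 0); rw [pow_zero, Module.End.one_eq_id, Submodule.map_id]
      | succ n ih => intro W; rw [pow_succ', Equiv.Perm.mul_apply, hit, ← ih]; rfl
    refine Equiv.ext fun W => Subtype.ext ?_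
    rw [key, pow_one, hitr]
    rfl
  have : Fintype S := Fintype.ofFinite S
  have hmod := Equiv.Perm.card_compl_support_modEq (p := r) hσ
  rw [Nat.card_eq_fintype_card] at hdvd
  have hfix : r ∣ σ.supportᶜ.card := (Nat.modEq_zero_iff_dvd).mp (hmod.trans ((Nat.modEq_zero_iff_dvd).mpr hdvd))
  have hfixed : ∀ W : S, σ W = W ↔ W.1 ≤ A := by
    intro W
    constructor
    · intro hW
      have hWT : Inv T W.1 := fun x hx => (congrArg Subtype.val hW).le ⟨x, hx, rfl⟩
      obtain ⟨e, he, hsum⟩ := split_dim hrp hr2 hQ hiso hper hc hWT W.2.2.1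
      rw [W.2.1] at hsum
      change finrank F ↥(W.1 ⊓ A) + e * c = m at hsum
      have he0 : e = 0 := by
        by_contra he0
        have := Nat.le_mul_of_pos_left c (Nat.pos_of_ne_zero he0)
        omega
      have := Submodule.eq_of_le_of_finrank_le (inf_le_left : W.1 ⊓ A ≤ W.1) (by rw [W.2.1]; subst he0; omega)
      exact this ▸ inf_le_right
    · intro hW
      refine Subtype.ext (Submodule.eq_of_le_of_finrank_eq ?_ ?_)
      · rintro _ ⟨x, hx, rfl⟩
        have hTx : T x = x := by simpa [hAdef, sub_eq_zero] using hW hx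
        rwa [hTx]
      · show finrank F (W.1.map T) = _
        rw [← (Submodule.equivMapOfInjective T hTinj W.1).finrank_eq]
  -- the group of isometries fixing the moved part
  let G : Subgroup (V ≃ₗ[F] V) :=
    { carrier := {g | (∀ v, Q (g v) = Q v) ∧ ∀ z ∈ R, g z = z}
      mul_mem' := fun {a b} ha hb => ⟨fun v => by show Q (a (b v)) = _; rw [ha.1, hb.1],
        fun z hz => by show a (b z) = z; rw [hb.2 z hz, ha.2 z hz]⟩
      one_mem' := ⟨fun v => rfl, fun z _ => rfl⟩
      inv_mem' := fun {a} ha => ⟨fun v => by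
          rw [← ha.1 (a⁻¹ v)]; exact congrArg Q (a.apply_symm_apply v),
        fun z hz => (LinearEquiv.symm_apply_eq a).mpr (ha.2 z hz).symm⟩ }
  have : Finite (V ≃ₗ[F] V) := Finite.of_injective (fun g => ((g : V → V))) DFunLike.coe_injective
  let _ : SMul G (Submodule F V) := ⟨fun g W => W.map (g.1 : V →ₗ[F] V)⟩
  let _ : MulAction G (Submodule F V) :=
    { one_smul := fun W => Submodule.map_id W
      mul_smul := fun g g' W => by
        show W.map ((g * g').1 : V →ₗ[F] V) = (W.map (g'.1 : V →ₗ[F] V)).map (g.1 : V →ₗ[F] V)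
        rw [← Submodule.map_comp]
        rfl }
  have hgA : ∀ g : G, ∀ a ∈ A, g.1 a ∈ A := by
    intro g a ha
    obtain ⟨x, hx, z, hz, hxz⟩ := Submodule.mem_sup.mp (hAR.ge (Submodule.mem_top (x := g.1 a)))
    have hz0 : z = 0 := hRn z hz fun y hy => by
      have h1 : polar Q (g.1 a) y = 0 := by
        have e1 : polar Q (g.1 a) (g.1 y) = polar Q a y := by simp only [polar, ← map_add, g.2.1]
        rw [g.2.2 y hy] at e1
        rw [e1]; exact horth a ha y hy
      rw [← hxz, polar_add_left, horth x hx y hy, zero_add] at h1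
      exact h1
    rwa [← hxz, hz0, add_zero]
  obtain ⟨W₀, hW₀A, hW₀n, hW₀d, hW₀p⟩ := exists_type (show ND (polarBilin Q) A from hAn) (K := K) (by omega) (by omega) P
  have horbit : MulAction.orbit G W₀ =
      {W : Submodule F V | finrank F W = m ∧ ND (polarBilin Q) W ∧ (Plus Q W ↔ P) ∧ W ≤ A} := by
    ext W
    constructor
    · rintro ⟨g, rfl⟩
      have hginj : Function.Injective (g.1 : V →ₗ[F] V) := g.1.injective
      refine ⟨?_, ?_, ?_, ?_⟩
      · show finrank F (W₀.map (g.1 : V →ₗ[F] V)) = m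
        rw [LinearEquiv.finrank_map_eq, hW₀d, hK]
      · rintro _ ⟨x, hx, rfl⟩ hp
        rw [hW₀n x hx fun y hy => by
          have := hp _ ⟨y, hy, rfl⟩
          show polar Q x y = 0
          have e1 : polar Q (g.1 x) (g.1 y) = polar Q x y := by simp only [polar, ← map_add, g.2.1]
          rw [← e1]; exact this, map_zero]
      · have key : ∀ (g : G) (W : Submodule F V), Plus Q W → Plus Q (W.map (g.1 : V →ₗ[F] V)) := by
          rintro g W ⟨U, hU, hUts, hUd⟩
          refine ⟨U.map (g.1 : V →ₗ[F] V), Submodule.map_mono hU, ?_, ?_⟩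
          · rintro _ ⟨u, hu, rfl⟩
            show Q (g.1 u) = 0
            rw [g.2.1]; exact hUts u hu
          · rw [LinearEquiv.finrank_map_eq, LinearEquiv.finrank_map_eq, hUd]
        refine ⟨fun hp => hW₀p.mp ?_, fun hp => key g _ (hW₀p.mpr hp)⟩
        have h3 : Plus Q (g⁻¹ • (g • W₀)) := key g⁻¹ _ hp
        rwa [inv_smul_smul] at h3
      · rintro _ ⟨x, hx, rfl⟩
        exact hgA g x (hW₀A hx)
    · rintro ⟨hd, hn, hp, hle⟩
      obtain ⟨g, hg1, hg2, hg3⟩ := exists_extend hQ hW₀n hn hRn (fun w hw z hz => horth w (hW₀A hw) z hz)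
        (fun w hw z hz => horth w (hle hw) z hz) hW₀d (hd.trans hK) (hW₀p.trans hp.symm)
      exact ⟨⟨g, hg1, hg2⟩, hg3⟩
  have hcard : σ.supportᶜ.card = (MulAction.orbit G W₀).ncard := by
    rw [horbit, ← Set.ncard_coe_finset, ← Set.ncard_image_of_injective _ (Subtype.val_injective : Function.Injective
      (fun W : S => W.1))]
    congr 1
    ext W
    simp only [Set.mem_image, Finset.mem_coe, Finset.mem_compl, Equiv.Perm.mem_support, not_not, Set.mem_ofPred_eq]
    constructor
    · rintro ⟨W', hW', rfl⟩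
      exact ⟨W'.2.1, W'.2.2.1, W'.2.2.2, (hfixed W').mp hW'⟩
    · rintro ⟨a, b, d, hle⟩
      exact ⟨⟨W, a, b, d⟩, (hfixed _).mpr hle, rfl⟩
  rw [hcard, ← MulAction.index_stabilizer] at hfix
  obtain ⟨g, hg⟩ := exists_prime_orderOf_dvd_card' (G := G) r (hfix.trans (Subgroup.index_dvd_card _))
  set T' : Module.End F V := (g.1 : V →ₗ[F] V)
  have hT'pow : ∀ n : ℕ, T' ^ n = (((g ^ n : G) : V ≃ₗ[F] V) : V →ₗ[F] V) := fun n => by
    induction n with
    | zero => rfl
    | succ n ih => rw [pow_succ', ih, pow_succ']; rfl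
  have hT'r : T' ^ r = 1 := by
    rw [hT'pow]
    have := pow_orderOf_eq_one g
    rw [hg] at this
    rw [this]; rfl
  obtain ⟨e, he, hsum⟩ := split_dim hrp hr2 hQ (T := T') g.2.1 hT'r hc inv_top hQ
  rw [finrank_top] at hsum
  have hRle : R ≤ (⊤ : Submodule F V) ⊓ LinearMap.ker (aeval T' (X - C (1 : F))) := fun z hz => ⟨trivial, by
    show aeval T' (X - C (1 : F)) z = 0
    simp [T', g.2.2 z hz]⟩
  have hsum0 := finrank_split h (inv_top (T := T))
  rw [top_inf_eq, top_inf_eq, ← hAdef, ← hRdef, finrank_top] at hsum0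
  have h5 := Submodule.finrank_mono hRle
  have he0 : e = 0 := by
    by_contra he0
    have := Nat.le_mul_of_pos_left c (Nat.pos_of_ne_zero he0)
    omega
  rw [he0, zero_mul, add_zero] at hsum
  have hg1 : g = 1 := Subtype.ext (LinearEquiv.ext fun v => by
    have h6 : (⊤ : Submodule F V) ⊓ LinearMap.ker (aeval T' (X - C (1 : F))) = ⊤ :=
      Submodule.eq_top_of_finrank_eq hsum
    have h7 := (h6.ge (Submodule.mem_top (x := v))).2
    simpa [T', sub_eq_zero] using h7)
  rw [hg1, orderOf_one] at hg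
  exact (Fact.out : r.Prime).one_lt.ne hg

end CfsgLib.OrthIso
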