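/-
Elements of prime order of an odd-dimensional orthogonal group and non-degenerate subspaces of even dimension.
-/
import Cfsg.Agent.Lib.OrthIso.Count

set_option autoImplicit false
set_option linter.unusedSectionVars false
set_option maxHeartbeats 1600000

namespace CfsgLib.OrthIso

open Module Polynomial QuadraticMap CfsgLib.PrimeIso CfsgLib.MaxSub.Elusive

universe u v

variable {F : Type u} [Field F] [Fintype F] {V : Type v} [AddCommGroup V] [Module F V] [FiniteDimensional F V]
  {Q : QuadraticForm F V} {p r : ℕ} [Fact p.Prime] [CharP F p] [Fact r.Prime] {d m : ℕ}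

/-- Fixing a subspace of the given dimension and type. -/
def Fixes (Q : QuadraticForm F V) (m : ℕ) (P : Prop) (T : Module.End F V) : Prop :=
  ∃ W : Submodule F V, Inv T W ∧ finrank F W = m ∧ ND (polarBilin Q) W ∧ (Plus Q W ↔ P)

variable (hQ : ND (polarBilin Q) (⊤ : Submodule F V)) (hp2 : p ≠ 2) (hn : finrank F V = 2 * d + 1)
include hQ hp2 hn

omit [Fact r.Prime] in
/-- Involutions fix subspaces of both types. -/
theorem fixes_involution (hd : 2 ≤ d) (hm : 2 ≤ m) (hme : Even m) (hmn : m ≤ 2 * d) (P : Prop) (T : Module.End F V)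
    (hiso : ∀ v, Q (T v) = Q v) (hper : T ^ 2 = 1) : Fixes Q m P T := by
  classical
  have h2 := two_ne (F := F) hp2
  have hrefl : (polarBilin Q).IsRefl := fun x y hxy => by
    show polar Q y x = 0
    rw [polar_comm]; exact hxy
  have hTT : ∀ v, T (T v) = v := fun v => by rw [← Module.End.mul_apply, ← pow_two, hper, Module.End.one_apply]
  have hB : ∀ x y, polar Q (T x) (T y) = polar Q x y := fun x y => by simp only [polar, ← map_add, hiso]
  set A := LinearMap.ker (T - 1) with hA
  set C := LinearMap.ker (T + 1) with hC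
  have memA : ∀ x, x ∈ A ↔ T x = x := fun x => by simp [hA, sub_eq_zero]
  have memC : ∀ x, x ∈ C ↔ T x = -x := fun x => by simp [hC, add_eq_zero_iff_eq_neg]
  have hsplit : ∀ x, ∃ a ∈ A, ∃ b ∈ C, a + b = x := fun x =>
    ⟨(2 : F)⁻¹ • (x + T x), (memA _).mpr (by rw [map_smul, map_add, hTT, add_comm]),
      (2 : F)⁻¹ • (x - T x), (memC _).mpr (by rw [map_smul, map_sub, hTT, ← smul_neg, neg_sub]), by
      rw [← smul_add, show x + T x + (x - T x) = (2 : F) • x by rw [two_smul]; abel, smul_smul,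
        inv_mul_cancel₀ h2, one_smul]⟩
  have horth : ∀ a ∈ A, ∀ b ∈ C, polar Q a b = 0 := fun a ha b hb => by
    have h := hB a b
    rw [(memA a).mp ha, (memC b).mp hb, polar_neg_right] at h
    exact (mul_eq_zero.mp (show (2 : F) * polar Q a b = 0 by linear_combination -h)).resolve_left h2
  have hAn : ND (polarBilin Q) A := fun x hx hp => hQ x trivial fun y _ => by
    obtain ⟨a, ha, b, hb, rfl⟩ := hsplit y
    rw [map_add, hp a ha, show polarBilin Q x b = 0 from horth x hx b hb, add_zero]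
  have hCn : ND (polarBilin Q) C := fun x hx hp => hQ x trivial fun y _ => by
    obtain ⟨a, ha, b, hb, rfl⟩ := hsplit y
    rw [map_add, hp b hb, show polarBilin Q x a = 0 from (polar_comm Q x a).trans (horth a ha x hx), add_zero]
  have hdim : finrank F A + finrank F C = 2 * d + 1 := by
    obtain ⟨-, h', -⟩ := sup_dims hAn hCn horth
    rw [← h', show A ⊔ C = ⊤ from eq_top_iff.mpr fun x _ => by
      obtain ⟨a, ha, b, hb, rfl⟩ := hsplit x
      exact Submodule.add_mem_sup ha hb, finrank_top, hn]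
  have hinvA : ∀ W ≤ A, Inv T W := fun W hW x hx => by rw [(memA x).mp (hW hx)]; exact hx
  have hinvC : ∀ W ≤ C, Inv T W := fun W hW x hx => by rw [(memC x).mp (hW hx)]; exact neg_mem hx
  -- the odd part `X` and the even part `Y`
  obtain ⟨X, Y, hXn, hYn, hXY, hXY', hX, hY, hXo⟩ : ∃ X Y : Submodule F V, ND (polarBilin Q) X ∧ ND (polarBilin Q) Y ∧
      (∀ a ∈ X, ∀ b ∈ Y, polar Q a b = 0) ∧ finrank F X + finrank F Y = 2 * d + 1 ∧
      (∀ W ≤ X, Inv T W) ∧ (∀ W ≤ Y, Inv T W) ∧ Odd (finrank F X) := by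
    rcases Nat.even_or_odd (finrank F A) with he | ho
    · refine ⟨C, A, hCn, hAn, fun a ha b hb => (polar_comm Q a b).trans (horth b hb a ha), by omega, hinvC, hinvA, ?_⟩
      obtain ⟨k, hk⟩ := he
      exact ⟨d - k, by omega⟩
    · exact ⟨A, C, hAn, hCn, horth, hdim, hinvA, hinvC, ho⟩
  obtain ⟨u, hu⟩ := hXo
  obtain ⟨w, hw⟩ := hme
  have glue : ∀ {A B : Submodule F V}, ND (polarBilin Q) A → ND (polarBilin Q) B →
      (∀ a ∈ A, ∀ b ∈ B, polar Q a b = 0) → Inv T A → Inv T B → Even (finrank F A) → Even (finrank F B) →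
      finrank F A + finrank F B = m → (Plus Q A ↔ (P ↔ Plus Q B)) → Fixes Q m P T := by
    intro A B hA hB hAB hAT hBT hAe hBe hsum ht
    obtain ⟨-, hd', hn'⟩ := sup_dims hA hB hAB
    refine ⟨A ⊔ B, hAT.sup hBT, hd'.trans hsum, hn', ?_⟩
    rw [plus_sup_iff hA hB hAB hAe hBe]
    tauto
  rcases Nat.eq_zero_or_pos u with rfl | hu0
  · rcases lt_or_eq_of_le (show m ≤ finrank F Y by omega) with hlt | heq
    · obtain ⟨W, hW, hWn, hWd, hWp⟩ := exists_type hYn (K := w) (by omega) (by omega) P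
      exact ⟨W, hY W hW, by omega, hWn, hWp⟩
    · obtain ⟨v, hv, hQv⟩ := exists_aniso hYn (fun e => by rw [e, finrank_bot] at heq; omega)
      obtain ⟨a, ha, hQa⟩ := exists_aniso hXn (fun e => by rw [e, finrank_bot] at hu; omega)
      have hsing : ∀ z, Q z ≠ 0 → ND (polarBilin Q) (Submodule.span F {z}) := fun z hz x hx hp => by
        obtain ⟨c, rfl⟩ := Submodule.mem_span_singleton.mp hx
        have h' : polar Q (c • z) z = 0 := hp z (Submodule.mem_span_singleton_self z)
        rw [polar_smul_left, polar_self, smul_eq_mul, nsmul_eq_mul] at h'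
        have : c = 0 := (mul_eq_zero.mp h').resolve_right (mul_ne_zero (by exact_mod_cast h2) hz)
        rw [this, zero_smul]
      have hva : ∀ x ∈ Submodule.span F {a}, ∀ y ∈ Submodule.span F {v}, polar Q x y = 0 := fun x hx y hy =>
        hXY x ((Submodule.span_singleton_le_iff_mem a X).mpr ha hx) y
          ((Submodule.span_singleton_le_iff_mem v Y).mpr hv hy)
      obtain ⟨-, hPd, hPn⟩ := sup_dims (hsing a hQa) (hsing v hQv) hva
      have hv0 : v ≠ 0 := fun e => hQv (by rw [e, QuadraticMap.map_zero])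
      have ha0 : a ≠ 0 := fun e => hQa (by rw [e, QuadraticMap.map_zero])
      rw [finrank_span_singleton ha0, finrank_span_singleton hv0] at hPd
      obtain ⟨hRn, -, -, hRd⟩ := split_perpIn hrefl
        ((Submodule.span_singleton_le_iff_mem v Y).mpr hv) (hsing v hQv) hYn
      rw [finrank_span_singleton hv0] at hRd
      set Pl := Submodule.span F {a} ⊔ Submodule.span F {v} with hPl
      obtain ⟨W, hW, hWn, hWd, hWp⟩ := exists_type hRn (K := w - 1) (by omega) (by omega) (P ↔ Plus Q Pl)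
      refine glue hWn hPn (fun x hx y hy => ?_) (hY W (hW.trans perpIn_le)) ?_
        ⟨w - 1, by omega⟩ ⟨1, hPd⟩ (by omega) hWp
      · obtain ⟨y1, hy1, y2, hy2, rfl⟩ := Submodule.mem_sup.mp hy
        rw [polar_add_right, polar_comm Q x y1,
          hXY y1 ((Submodule.span_singleton_le_iff_mem a X).mpr ha hy1) x (hW hx).1, zero_add, polar_comm Q x y2]
        exact (hW hx).2 y2 hy2
      · exact (hX _ ((Submodule.span_singleton_le_iff_mem a X).mpr ha)).sup
          (hY _ ((Submodule.span_singleton_le_iff_mem v Y).mpr hv))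
  -- the odd part has dimension at least three
  set a := min w u with haw
  have ha1 : 1 ≤ a := by omega
  obtain ⟨Y₁, hY₁, hY₁n, hY₁d⟩ : ∃ Y₁ ≤ Y, ND (polarBilin Q) Y₁ ∧ finrank F Y₁ = 2 * (w - a) := by
    rcases Nat.eq_zero_or_pos (w - a) with h0 | h0
    · exact ⟨⊥, bot_le, fun x hx _ => (Submodule.mem_bot F).mp hx, by rw [finrank_bot]; omega⟩
    rcases lt_or_eq_of_le (show 2 * (w - a) ≤ finrank F Y by omega) with hlt | heq
    · obtain ⟨W, hW, hWn, hWd, -⟩ := exists_type hYn (K := w - a) h0 hlt True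
      exact ⟨W, hW, hWn, hWd⟩
    · exact ⟨Y, le_rfl, hYn, heq.symm⟩
  obtain ⟨W, hW, hWn, hWd, hWp⟩ := exists_type hXn (K := a) (by omega) (by omega) (P ↔ Plus Q Y₁)
  exact glue hWn hY₁n (fun x hx y hy => hXY x (hW hx) y (hY₁ hy)) (hX W hW) (hY Y₁ hY₁)
    ⟨a, by omega⟩ ⟨w - a, by omega⟩ (by omega) hWp

omit [Fact r.Prime] in
/-- An element of order `p` with a large singular part only fixes subspaces of plus type. -/
theorem unipotent_plus (T : Module.End F V) (hiso : ∀ v, Q (T v) = Q v)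
    (hS : d ≤ finrank F ↥(LinearMap.range (T - 1) ⊓ LinearMap.ker (T - 1))) {W : Submodule F V} (hW : Inv T W)
    (hWn : ND (polarBilin Q) W) (hWe : Even (finrank F W)) : Plus Q W := by
  have h2 := two_ne (F := F) hp2
  have hrefl : (polarBilin Q).IsRefl := fun x y hxy => by
    show polar Q y x = 0
    rw [polar_comm]; exact hxy
  have hB : ∀ x y, polar Q (T x) (T y) = polar Q x y := fun x y => by simp only [polar, ← map_add, hiso]
  set N := T - 1 with hN
  set S := LinearMap.range N ⊓ LinearMap.ker N with hSdef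
  have hSts : ∀ x ∈ S, Q x = 0 := by
    rintro x ⟨⟨a, rfl⟩, hx⟩
    have hTx : T (N a) = N a := by
      have : N (N a) = 0 := hx
      simpa [hN, sub_eq_zero] using this
    have hTa : T a = a + N a := by simp [hN]
    have h := hB a (N a)
    rw [hTx, hTa, polar_add_left] at h
    have h3 : polar Q (N a) (N a) = 0 := by linear_combination h
    rw [polar_self, nsmul_eq_mul] at h3
    exact (mul_eq_zero.mp h3).resolve_left (by exact_mod_cast h2)
  set W' := perpIn (polarBilin Q) W ⊤ with hW'def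
  obtain ⟨hW'n, hinf, hsup, hd'⟩ := split_perpIn hrefl le_top hWn hQ
  have hsurj : W.map T = W := by
    have hTinj : Function.Injective T := (injective_iff_map_eq_zero T).mpr fun x hx => hQ x trivial fun y _ => by
      show polar Q x y = 0
      rw [← hB, hx, polar_zero_left]
    refine Submodule.eq_of_le_of_finrank_eq ?_ (Submodule.equivMapOfInjective T hTinj W).finrank_eq.symm
    rintro _ ⟨x, hx, rfl⟩; exact hW x hx
  have hW'T : Inv T W' := fun x hx => ⟨trivial, fun y hy => by
    obtain ⟨y', hy', rfl⟩ := hsurj.ge hy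
    show polar Q (T y') (T x) = 0
    rw [hB]; exact hx.2 y' hy'⟩
  have hS' : S ≤ (S ⊓ W) ⊔ (S ⊓ W') := by
    rintro x ⟨⟨v, rfl⟩, hx⟩
    obtain ⟨a, ha, b, hb, rfl⟩ := Submodule.mem_sup.mp (hsup.ge (Submodule.mem_top (x := v)))
    have hNa : N a ∈ W := by
      show T a - a ∈ W
      exact sub_mem (hW a ha) ha
    have hNb : N b ∈ W' := by
      show T b - b ∈ W'
      exact sub_mem (hW'T b hb) hb
    have hNNa : N (N a) ∈ W := by
      show T (N a) - N a ∈ W
      exact sub_mem (hW _ hNa) hNa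
    have hNNb : N (N b) ∈ W' := by
      show T (N b) - N b ∈ W'
      exact sub_mem (hW'T _ hNb) hNb
    have h0 : N (N a) + N (N b) = 0 := by
      rw [← map_add, ← map_add]; exact hx
    have ha' : N (N a) ∈ W ⊓ W' := ⟨hNNa, by rw [eq_neg_of_add_eq_zero_left h0]; exact neg_mem hNNb⟩
    rw [hinf, Submodule.mem_bot] at ha'
    rw [map_add]
    refine Submodule.add_mem_sup ⟨⟨⟨a, rfl⟩, ha'⟩, hNa⟩ ⟨⟨⟨b, rfl⟩, ?_⟩, hNb⟩
    rw [ha', zero_add] at h0
    exact h0
  have h1 := two_mul_plus_le hWn (inf_le_right : S ⊓ W ≤ W) fun x hx => hSts x hx.1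
  have h3 : 2 * finrank F ↥(S ⊓ W') ≤ finrank F W' :=
    two_mul_plus_le hW'n (inf_le_right : S ⊓ W' ≤ W') fun x hx => hSts x hx.1
  have h4 := (Submodule.finrank_mono hS').trans (Submodule.finrank_add_le_finrank_add_finrank _ _)
  rw [finrank_top, hn] at hd'
  change finrank F W + finrank F W' = 2 * d + 1 at hd'
  change d ≤ finrank F S at hS
  obtain ⟨k, hk⟩ := hWe
  exact ⟨S ⊓ W, inf_le_right, fun x hx => hSts x hx.1, by omega⟩

variable {i c : ℕ} (hrp : r ≠ p) (hr2 : r ≠ 2) (hi : i = orderOf (Fintype.card F : ZMod r))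
  (hc : c = if Even i then i else 2 * i)
include hrp hr2 hi hc

omit hQ hp2 hn hr2 in
theorem block_pos : 0 < c ∧ Even c := by
  have := hi ▸ order_pos (F := F) (p := p) (r := r) hrp
  rw [hc]
  split_ifs with h
  · exact ⟨this, h⟩
  · exact ⟨by omega, even_two_mul i⟩

/-- The criterion in odd order prime to the characteristic. -/
theorem fixes_semisimple (hm : 2 ≤ m) (hme : Even m) (hmn : m ≤ 2 * d) (P : Prop)
    (hdvd : r ∣ Nat.card {W : Submodule F V // finrank F W = m ∧ ND (polarBilin Q) W ∧ (Plus Q W ↔ P)})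
    (hmodel : ∀ e k, e * c + k = 2 * d + 1 → ∃ T : Module.End F V, (∀ v, Q (T v) = Q v) ∧ T ^ r = 1 ∧
      finrank F (LinearMap.ker (aeval T (X - C (1 : F)))) = k) :
    (∀ T : Module.End F V, (∀ v, Q (T v) = Q v) → T ^ r = 1 → T ≠ 1 → Fixes Q m P T) ↔
      (c ≤ m ∧ m % c < (2 * d + 1) % c ∧ (0 < m % c ∨ (P ↔ (Odd i ∨ Even (m / c))))) := by
  classical
  have h2 := two_ne (F := F) hp2
  obtain ⟨hcpos, hce⟩ := block_pos (F := F) (p := p) hrp hi hc
  obtain ⟨w, hw⟩ := hme
  set k₀ := (2 * d + 1) % c with hk₀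
  have hk₀c : k₀ < c := Nat.mod_lt _ hcpos
  have hdm := Nat.div_add_mod' m c
  have hdn : (2 * d + 1) / c * c + k₀ = 2 * d + 1 := Nat.div_add_mod' (2 * d + 1) c
  have hc' : c = if Even (orderOf (Fintype.card F : ZMod r)) then orderOf (Fintype.card F : ZMod r)
      else 2 * orderOf (Fintype.card F : ZMod r) := by rw [← hi]; exact hc
  obtain ⟨T₀, hT₀i, hT₀p, hT₀f⟩ := hmodel ((2 * d + 1) / c) k₀ hdn
  have hcm : m % c < k₀ → c ≤ m := by
    intro hlt
    by_contra hmc
    push Not at hmc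
    rw [Nat.mod_eq_of_lt hmc] at hlt
    have := fix_le hrp hr2 hQ hT₀i hT₀p hc' (by omega) ⟨w, hw⟩ hmc (by rw [hT₀f]; exact hk₀c) P hdvd
    omega
  have hcn : c ≤ 2 * d + 1 := by
    by_contra hcn
    push Not at hcn
    rw [Nat.mod_eq_of_lt hcn] at hk₀
    have := hcm (by rw [Nat.mod_eq_of_lt (show m < c by omega)]; omega)
    omega
  have htype : ∀ (T : Module.End F V), (∀ v, Q (T v) = Q v) → T ^ r = 1 → ∀ Y : Submodule F V, Inv T Y →
      Y ≤ LinearMap.ker (aeval T (geom F r)) → ND (polarBilin Q) Y → ∀ j, finrank F Y = j * c →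
      (Plus Q Y ↔ (Odd i ∨ Even j)) := fun T h1 h3 Y hY hk hYn j hj =>
    type_moved hrp hr2 h1 h3 hi hc hY hk hYn hj
  constructor
  · intro H
    have hT1 : T₀ ≠ 1 := fun e => by
      rw [e, show aeval (1 : Module.End F V) (X - C (1 : F)) = 0 by simp, LinearMap.ker_zero, finrank_top, hn] at hT₀f
      omega
    obtain ⟨W, hWT, hWd, hWn, hWp⟩ := H T₀ hT₀i hT₀p hT1
    have h := perIso_of hrp hT₀i hT₀p
    obtain ⟨e, he, hsum⟩ := split_dim hrp hr2 hQ hT₀i hT₀p hc' hWT hWn
    obtain ⟨-, hRn, hsup⟩ := nd_parts h hWT hWn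
    set a := finrank F ↥(W ⊓ LinearMap.ker (aeval T₀ (X - C (1 : F)))) with ha
    have hak : a ≤ k₀ := hT₀f ▸ Submodule.finrank_mono inf_le_right
    rw [hWd] at hsum
    obtain ⟨b, hb⟩ := hce.mul_left e
    have hk₀o : Odd k₀ := by
      obtain ⟨b', hb'⟩ := hce.mul_left ((2 * d + 1) / c)
      exact ⟨d - b', by omega⟩
    obtain ⟨b', hb'⟩ := hk₀o
    have hmod : m % c = a := by
      rw [← hsum, Nat.add_mul_mod_self_right, Nat.mod_eq_of_lt (by omega)]
    have hlt : m % c < k₀ := by omega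
    refine ⟨hcm hlt, hlt, ?_⟩
    rcases Nat.eq_zero_or_pos a with ha0 | ha0
    · right
      have hbot : W ⊓ LinearMap.ker (aeval T₀ (X - C (1 : F))) = ⊥ := Submodule.finrank_eq_zero.mp ha0
      rw [hbot, bot_sup_eq] at hsup
      have hWR : W ≤ LinearMap.ker (aeval T₀ (geom F r)) := hsup ▸ inf_le_right
      have he' : m / c = e := by rw [← hsum, ha0, zero_add, Nat.mul_div_cancel _ hcpos]
      rw [he', ← hWp]
      exact htype T₀ hT₀i hT₀p W hWT hWR hWn e (by omega)
    · exact Or.inl (hmod ▸ ha0)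
  · rintro ⟨-, hlt, htp⟩ T hiso hper -
    have h := perIso_of hrp hiso hper
    obtain ⟨hAn, hRn, -⟩ := nd_parts h (inv_top (T := T)) hQ
    obtain ⟨e, he, hsum⟩ := split_dim hrp hr2 hQ hiso hper hc' inv_top hQ
    rw [finrank_top, hn] at hsum
    set f := finrank F ↥((⊤ : Submodule F V) ⊓ LinearMap.ker (aeval T (X - C (1 : F)))) with hf
    set kk := min (m / c) e with hkk
    have hkc : kk * c ≤ m := le_trans (Nat.mul_le_mul_right c (min_le_left _ _)) (by omega)
    obtain ⟨Y, hY, hYT, hYn, hYd⟩ := (exists_moved_dim hrp hr2 hiso hper hc' (inv_top.inf (inv_ker _))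
      inf_le_right hRn).2 kk (by rw [he]; exact Nat.mul_le_mul_right c (min_le_right _ _))
    have hYker : Y ≤ LinearMap.ker (aeval T (geom F r)) := hY.trans inf_le_right
    set a := m - kk * c with ha
    obtain ⟨b, hb⟩ : Even a := (Nat.even_sub hkc).mpr (iff_of_true ⟨w, hw⟩ (hce.mul_left kk))
    have haf : a < f := by
      rcases le_total (m / c) e with h1 | h1
      · rw [hkk, min_eq_left h1] at ha
        have : k₀ ≤ f := by
          rw [hk₀, ← hsum, Nat.add_mul_mod_self_right]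
          exact Nat.mod_le _ _
        omega
      · rw [hkk, min_eq_right h1] at ha
        obtain ⟨z, hz⟩ := hce.mul_left e
        omega
    rcases Nat.eq_zero_or_pos a with ha0 | ha0
    · refine ⟨Y, hYT, by omega, hYn, ?_⟩
      have hkm : kk * c = m := by omega
      have hmod : m % c = 0 := by rw [← hkm, Nat.mul_mod_left]
      have hdiv : m / c = kk := by rw [← hkm, Nat.mul_div_cancel _ hcpos]
      rw [hmod] at htp
      rw [htype T hiso hper Y hYT hYker hYn kk hYd, ← hdiv]
      exact (htp.resolve_left (lt_irrefl 0)).symm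
    · obtain ⟨W, hW, hWn, hWd, hWp⟩ := exists_type hAn (K := b) (by omega) (by omega) (P ↔ Plus Q Y)
      have hWY : ∀ x ∈ W, ∀ y ∈ Y, polar Q x y = 0 := fun x hx y hy => (fix_perp h (hW hx).2 (hYker hy)).1
      obtain ⟨-, hd', hn'⟩ := sup_dims hWn hYn hWY
      have hWT : Inv T W := fun x hx => by
        have := LinearMap.mem_ker.mp (hW hx).2
        rw [show T x = x by simpa [sub_eq_zero] using this]
        exact hx
      refine ⟨W ⊔ Y, hWT.sup hYT, by omega, hn', ?_⟩
      rw [plus_sup_iff hWn hYn hWY ⟨b, by omega⟩ (by rw [hYd]; exact hce.mul_left kk), hWp]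
      tauto

end CfsgLib.OrthIso
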