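/-
Model isometries of odd prime order of odd-dimensional quadratic spaces, and a unipotent model.
-/
import Cfsg.Agent.Lib.OrthIso.NondegOdd
import Cfsg.Agent.Lib.PrimeIso.Models
import Cfsg.Agent.Lib.OmegaMem

set_option autoImplicit false
set_option linter.unusedSectionVars false

namespace CfsgLib.OrthIso

open Module Polynomial QuadraticMap CfsgLib.PrimeIso CfsgLib.MaxSub.Elusive CfsgLib.StdQuadForms
open scoped Matrix

universe u

variable {F : Type u} [Field F] [Fintype F] {p r d : ℕ} [Fact p.Prime] [CharP F p]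

local notation "Co" => (Unit ⊕ (Fin d ⊕ Fin d) → F)

theorem qo_nd (hp2 : p ≠ 2) : ND (polarBilin (Qo d)) (⊤ : Submodule F Co) :=
  fun x _ hp => (Qo_nondeg (two_ne hp2) d).1 x fun y => hp y trivial

theorem finrank_co : finrank F Co = 2 * d + 1 := by
  rw [Module.finrank_fintype_fun_eq_card, Fintype.card_sum, Fintype.card_sum, Fintype.card_unit, Fintype.card_fin]
  omega

/-- An odd-dimensional non-degenerate space is similar to the standard one. -/
theorem odd_similar (hp2 : p ≠ 2) {M : Type*} [AddCommGroup M] [Module F M] [FiniteDimensional F M]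
    (Q' : QuadraticForm F M) (hQ' : CfsgLib.FiniteForms.PolarNondeg Q') (hd : finrank F M = 2 * d + 1) :
    ∃ (e : M ≃ₗ[F] Co) (c : F), c ≠ 0 ∧ ∀ v, Qo d (e v) = c * Q' v := by
  classical
  have h2 := two_ne (F := F) hp2
  obtain ⟨ev, fv, h⟩ := CfsgLib.FiniteForms.exists_hypFam d M Q' hQ' (by omega)
  have hP := h.finrank_famPerp
  obtain ⟨g, hg, hQg⟩ := exists_aniso (Q := Q') (U := CfsgLib.FiniteForms.famPerp Q' ev fv)
    (fun x hx hp => h.famPerp_nondeg hQ' hx hp) (fun hb => by rw [hb, finrank_bot] at hP; omega)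
  let L : Co →ₗ[F] M := (LinearMap.proj (Sum.inl ())).smulRight g +
    ((∑ j : Fin d, (LinearMap.proj (Sum.inr (Sum.inl j))).smulRight (ev j)) +
      ∑ j : Fin d, (Q' g • LinearMap.proj (Sum.inr (Sum.inr j)) : Co →ₗ[F] F).smulRight (fv j))
  obtain ⟨hge, hgf⟩ := CfsgLib.FiniteForms.mem_famPerp.mp hg
  have hL : ∀ v, Q' (L v) = Q' g * Qo d v := fun v => by
    have e0 : L v = v (Sum.inl ()) • g + (∑ j, v (Sum.inr (Sum.inl j)) • ev j +
        ∑ j, (Q' g * v (Sum.inr (Sum.inr j))) • fv j) := by
      simp [L, LinearMap.sum_apply]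
    rw [e0, q_add, QuadraticMap.map_smul, h.quad_comb]
    have e1 : polar Q' (v (Sum.inl ()) • g) (∑ j, v (Sum.inr (Sum.inl j)) • ev j +
        ∑ j, (Q' g * v (Sum.inr (Sum.inr j))) • fv j) = 0 := by
      show polarBilin Q' _ _ = 0
      have e2 : ∀ j, polar Q' g (ev j) = 0 := fun j => (polar_comm Q' g _).trans (hge j)
      have e3 : ∀ j, polar Q' g (fv j) = 0 := fun j => (polar_comm Q' g _).trans (hgf j)
      simp [map_add, map_sum, polarBilin_apply_apply, e2, e3]
    rw [e1, add_zero, Qo_apply, Cfsg.quadFormOdd, smul_eq_mul, mul_add, Finset.mul_sum]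
    congr 1
    · ring
    · exact Finset.sum_congr rfl fun j _ => by ring
  have hLp : ∀ u v, polar Q' (L u) (L v) = Q' g * polar (Qo d) u v := fun u v => by
    simp only [polar, ← map_add, hL]; ring
  have hLinj : Function.Injective L := (injective_iff_map_eq_zero L).mpr fun u hu =>
    qo_nd hp2 u trivial fun v _ => by
      show polar (Qo d) u v = 0
      have e := hLp u v
      rw [hu, polar_zero_left] at e
      exact (mul_eq_zero.mp e.symm).resolve_left hQg
  let e := (LinearMap.linearEquivOfInjective L hLinj (by rw [finrank_co, hd])).symm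
  refine ⟨e, (Q' g)⁻¹, inv_ne_zero hQg, fun v => ?_⟩
  have h3 : L (e v) = v := (LinearMap.linearEquivOfInjective L hLinj _).apply_symm_apply v
  conv_rhs => rw [← h3, hL]
  rw [← mul_assoc, inv_mul_cancel₀ hQg, one_mul]

variable [Fact r.Prime]

/-- An isometry of order dividing `r` with prescribed fixed space. -/
theorem exists_odd_model (hrp : r ≠ p) (hr2 : r ≠ 2) (hp2 : p ≠ 2) {i c e k : ℕ}
    (hi : i = orderOf (Fintype.card F : ZMod r)) (hc : c = if Even i then i else 2 * i) (hek : e * c + k = 2 * d + 1) :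
    ∃ T : Module.End F Co, (∀ v, Qo d (T v) = Qo d v) ∧ T ^ r = 1 ∧
      finrank F (LinearMap.ker (aeval T (X - C (1 : F)))) = k := by
  classical
  have h2 := two_ne (F := F) hp2
  have hr : r.Prime := Fact.out
  obtain ⟨A, _, _, _, 𝔅, z, hdim, hz, hzr, hz1⟩ : ∃ (A : Type) (_ : CommRing A) (_ : Algebra F A)
      (_ : FiniteDimensional F A) (𝔅 : Block F A) (z : A),
      finrank F A = c ∧ 𝔅.inv z * z = 1 ∧ z ^ r = 1 ∧ IsUnit (z - 1) := by
    by_cases he : Even i
    · obtain ⟨h, hh⟩ := he
      rw [if_pos ⟨h, hh⟩] at hc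
      obtain ⟨A, iA, iAA, iAF, 𝔅, hdim, hroots⟩ := exists_field_block (F := F) (p := p) (r := r) (h := h) hrp (by omega)
      obtain ⟨g, -, hg, -⟩ := exists_factors (F := F) (p := p) (r := r) hrp
      have ht : 0 < (r - 1) / i := Nat.div_pos (Nat.le_of_dvd (by have := hr.two_le; omega)
        (hi ▸ order_dvd_pred (F := F) hrp)) (hi ▸ order_pos (F := F) (p := p) hrp)
      obtain ⟨z, -, hz, hzr, hz1⟩ := hroots (g ⟨0, by rw [← hi]; exact ht⟩) (hg _).1 (hg _).2.1 (hg _).2.2.2
      exact ⟨A, inferInstance, iAA, iAF, 𝔅, z, by omega, hz, hzr, isUnit_iff_ne_zero.mpr (sub_ne_zero.mpr hz1)⟩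
    · rw [if_neg he] at hc
      obtain ⟨A, iA, iAA, iAF, 𝔅, z, hdim, hz⟩ := exists_swap_block (F := F) (p := p) (r := r) hrp hi.symm
      exact ⟨A, iA, iAA, iAF, 𝔅, z, hdim.trans hc.symm, hz⟩
  obtain ⟨k', rfl⟩ : ∃ k', k = 2 * k' + 1 := by
    have hce : Even (e * c) := by
      refine Nat.even_mul.mpr (Or.inr ?_)
      rw [hc]; split_ifs with h
      · exact h
      · exact even_two_mul i
    obtain ⟨b, hb⟩ := hce
    exact ⟨d - b, by omega⟩
  set δ := z - 𝔅.inv z with hδ
  have hz2 : IsUnit (z + 1) := by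
    have h2u : IsUnit ((2 : A)) := by
      rw [show (2 : A) = algebraMap F A 2 by simp [map_ofNat]]
      exact (isUnit_iff_ne_zero.mpr h2).map _
    refine isUnit_of_dvd_unit ?_ h2u
    obtain ⟨l, hl⟩ := hr.odd_of_ne_two hr2
    have : z + 1 ∣ z ^ r + 1 ^ r := (hl ▸ odd_two_mul_add_one l : Odd r).add_dvd_pow_add_pow z 1
    rwa [hzr, one_pow, one_add_one_eq_two] at this
  have hδu : IsUnit δ := by
    have e1 : z * δ = (z - 1) * (z + 1) := by rw [hδ]; linear_combination -hz
    exact isUnit_of_mul_isUnit_right (e1 ▸ hz1.mul hz2)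
  have hδi : 𝔅.inv δ = -δ := by rw [hδ, map_sub, 𝔅.inv_inv, neg_sub]
  let β : A →ₗ[F] A →ₗ[F] F :=
    (((LinearMap.mul F A).comp (LinearMap.mulLeft F δ)).compl₂ 𝔅.inv.toLinearMap).compr₂ 𝔅.fn
  have hβ : ∀ a b, β a b = 𝔅.fn (δ * a * 𝔅.inv b) := fun a b => rfl
  have hβs : ∀ a b, β b a = β a b := fun a b => by
    have h := 𝔅.fn_inv (δ * b * 𝔅.inv a)
    rw [map_mul 𝔅.inv, map_mul 𝔅.inv, hδi, 𝔅.inv_inv, show -δ * 𝔅.inv b * a = -(δ * a * 𝔅.inv b) by ring, map_neg, neg_inj] at h
    rw [hβ, hβ]
    exact h.symm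
  let M := (Fin e → A) × (Unit ⊕ (Fin k' ⊕ Fin k') → F)
  let Q' : QuadraticForm F M :=
    (∑ j : Fin e, (LinearMap.BilinMap.toQuadraticMap β).comp ((LinearMap.proj j).comp (LinearMap.fst F _ _))) +
      (Qo k').comp (LinearMap.snd F _ _)
  have hQ'a : ∀ v : M, Q' v = (∑ j, β (v.1 j) (v.1 j)) + Qo k' v.2 := fun v => by
    simp [Q']
    rfl
  have hpol : ∀ u v : M, polar Q' u v = (∑ j, 2 * β (u.1 j) (v.1 j)) + polar (Qo k') u.2 v.2 := fun u v => by
    have e1 : (u + v).1 = u.1 + v.1 := rfl
    have e2 : (u + v).2 = u.2 + v.2 := rfl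
    simp only [polar, hQ'a, e1, e2, Pi.add_apply, map_add, LinearMap.add_apply,
      Finset.sum_add_distrib, hβs (u.1 _) (v.1 _), ← Finset.mul_sum]
    ring
  have hnd : CfsgLib.FiniteForms.PolarNondeg Q' := fun u hu => by
    refine Prod.ext (funext fun j => ?_) ?_
    · by_contra h0
      have hne : δ * u.1 j ≠ 0 := fun e0 => h0 (hδu.mul_right_eq_zero.mp e0)
      obtain ⟨b, hb⟩ := 𝔅.fn_nondeg _ hne
      have := hu (Pi.single j (𝔅.inv b), 0)
      rw [hpol, Finset.sum_eq_single j (fun l _ hl => by simp [Pi.single_eq_of_ne hl])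
        (fun h => absurd (Finset.mem_univ j) h)] at this
      simp only [Pi.single_eq_same, polar_zero_right, add_zero, hβ, 𝔅.inv_inv] at this
      exact hb ((mul_eq_zero.mp this).resolve_left h2)
    · refine qo_nd (d := k') hp2 _ trivial fun y _ => ?_
      have := hu (0, y)
      rw [hpol] at this
      show polar (Qo k') u.2 y = 0
      simpa using this
  have hrank : finrank F M = 2 * d + 1 := by
    rw [Module.finrank_prod, Module.finrank_pi_fintype, Finset.sum_const, Finset.card_univ, Fintype.card_fin,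
      smul_eq_mul, hdim, finrank_co]
    omega
  obtain ⟨E, s, hs, hE⟩ := odd_similar hp2 Q' hnd hrank
  let Y : Module.End F M := (LinearMap.pi fun j => (LinearMap.mulLeft F z).comp (LinearMap.proj j)).prodMap LinearMap.id
  have hY : ∀ v : M, Y v = (fun j => z * v.1 j, v.2) := fun v => rfl
  have hYQ : ∀ v, Q' (Y v) = Q' v := fun v => by
    rw [hQ'a, hQ'a]
    simp only [hY, hβ, map_mul]
    congr 1
    refine Finset.sum_congr rfl fun j _ => congrArg _ ?_
    linear_combination (δ * v.1 j * 𝔅.inv (v.1 j)) * hz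
  have hYpow : ∀ (n : ℕ) (v : M), (Y ^ n) v = (fun j => z ^ n * v.1 j, v.2) := by
    intro n
    induction n with
    | zero => intro v; simp
    | succ n ih =>
      intro v
      rw [pow_succ, Module.End.mul_apply, ih, hY]
      simp [pow_succ, mul_assoc]
  refine ⟨E.conjAlgEquiv F Y, fun v => ?_, ?_, ?_⟩
  · show Qo d (E (Y (E.symm v))) = Qo d v
    rw [hE, hYQ, ← hE, E.apply_symm_apply]
  · rw [← map_pow, show Y ^ r = 1 from LinearMap.ext fun v => by rw [hYpow]; simp [hzr], map_one]
  · have hker : LinearMap.ker (aeval (E.conjAlgEquiv F Y) (X - C (1 : F))) =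
        (LinearMap.range (LinearMap.inr F (Fin e → A) (Unit ⊕ (Fin k' ⊕ Fin k') → F))).map E.toLinearMap := by
      ext v
      rw [Submodule.mem_map_equiv, LinearMap.mem_ker]
      simp only [map_sub, aeval_X, map_one, LinearMap.sub_apply, Module.End.one_apply, sub_eq_zero,
        LinearEquiv.conjAlgEquiv_apply, LinearMap.comp_apply, LinearEquiv.coe_coe, hY, LinearMap.mem_range]
      set w := E.symm v
      constructor
      · intro hw
        refine ⟨w.2, Prod.ext (funext fun j => ?_) rfl⟩
        have h5 : (fun j => z * w.1 j, w.2) = w := by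
          have := congrArg E.symm hw
          rwa [E.symm_apply_apply] at this
        have h6 : (z - 1) * w.1 j = 0 := by
          rw [sub_mul, one_mul, sub_eq_zero]
          exact congrFun (congrArg Prod.fst h5) j
        exact (hz1.mul_right_eq_zero.mp h6).symm
      · rintro ⟨y, hy⟩
        have h5 : (fun j => z * w.1 j, w.2) = w := by
          rw [← hy]
          exact Prod.ext (funext fun j => mul_zero z) rfl
        rw [h5]
        exact E.apply_symm_apply v
    rw [hker, LinearEquiv.finrank_map_eq, LinearMap.finrank_range_of_inj LinearMap.inr_injective, finrank_co]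

omit [Fact r.Prime] in
/-- A unipotent isometry of order `p` with a large singular part. -/
theorem unipotent_model (hp2 : p ≠ 2) (hd : 1 ≤ d) :
    ∃ T : Module.End F Co, (∀ v, Qo d (T v) = Qo d v) ∧ T ^ p = 1 ∧ (T - 1) ^ 3 = (0 : Module.End F Co) ∧
      (Even d → (T - 1) ^ 2 = 0) ∧
      (Odd d → ∃ z : Co, z ≠ 0 ∧ (∃ x, ((T - 1) ^ 2 : Module.End F Co) x = z) ∧ ∀ v, ∃ t : F, ((T - 1) ^ 2 : Module.End F Co) v = t • z) ∧
      d ≤ finrank F ↥(LinearMap.range (T - 1) ⊓ LinearMap.ker (T - 1)) := by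
  classical
  let S : Fin d → Fin d → F := fun j l =>
    if (j : ℕ) % 2 = 0 ∧ (l : ℕ) = j + 1 then 1 else if (l : ℕ) % 2 = 0 ∧ (j : ℕ) = l + 1 then -1 else 0
  let a : Fin d → F := fun j => if (j : ℕ) + 1 = d ∧ (j : ℕ) % 2 = 0 then 1 else 0
  have hS : ∀ j l, S l j = -S j l := fun j l => by
    simp only [S]
    split_ifs with h1 h2 h3 <;> first | simp | (exfalso; omega)
  let au : Co →ₗ[F] F := ∑ j, a j • LinearMap.proj (Sum.inr (Sum.inr j))
  have hau : ∀ v, au v = ∑ j, a j * v (Sum.inr (Sum.inr j)) := fun v => by simp [au, LinearMap.sum_apply]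
  let Sy : Fin d → (Co →ₗ[F] F) := fun j => ∑ l, S j l • LinearMap.proj (Sum.inr (Sum.inr l))
  have hSy : ∀ j v, Sy j v = ∑ l, S j l * v (Sum.inr (Sum.inr l)) := fun j v => by simp [Sy, LinearMap.sum_apply]
  let N : Module.End F Co := LinearMap.pi (Sum.elim (fun _ => au)
    (Sum.elim (fun j => ((-2 : F) * a j) • LinearMap.proj (Sum.inl ()) + Sy j - a j • au) (fun _ => 0)))
  have hN0 : ∀ v, N v (Sum.inl ()) = au v := fun v => rfl
  have hN1 : ∀ v j, N v (Sum.inr (Sum.inl j)) = -2 * a j * v (Sum.inl ()) + Sy j v - a j * au v := fun v j => by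
    simp [N]
  have hN2 : ∀ v j, N v (Sum.inr (Sum.inr j)) = 0 := fun v j => rfl
  have hskew : ∀ v : Co, ∑ j, Sy j v * v (Sum.inr (Sum.inr j)) = 0 := fun v => by
    have h := Finset.sum_comm (γ := Fin d) (s := Finset.univ) (t := Finset.univ)
      (f := fun j l => S j l * v (Sum.inr (Sum.inr l)) * v (Sum.inr (Sum.inr j)))
    simp only [hSy, Finset.sum_mul]
    have h' : ∀ j l, S j l * v (Sum.inr (Sum.inr l)) * v (Sum.inr (Sum.inr j)) =
        -(S l j * v (Sum.inr (Sum.inr j)) * v (Sum.inr (Sum.inr l))) := fun j l => by rw [hS j l]; ring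
    rw [Finset.sum_congr rfl fun j _ => Finset.sum_congr rfl fun l _ => h' j l] at h ⊢
    simp only [Finset.sum_neg_distrib] at h ⊢
    have h2 := two_ne (F := F) hp2
    set x := ∑ j : Fin d, ∑ l : Fin d, S l j * v (Sum.inr (Sum.inr j)) * v (Sum.inr (Sum.inr l)) with hx
    have hx' : x = -x := by
      conv_lhs => rw [hx]
      rw [Finset.sum_comm, Finset.sum_congr rfl fun j _ => Finset.sum_congr rfl fun l _ => h' j l]
      simp [hx, Finset.sum_neg_distrib]
    rw [(mul_eq_zero.mp (show (2 : F) * x = 0 by linear_combination hx')).resolve_left h2, neg_zero]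
  have hiso : ∀ v, Qo d (v + N v) = Qo d v := fun v => by
    rw [Qo_apply, Qo_apply, Cfsg.quadFormOdd, Cfsg.quadFormOdd]
    simp only [Pi.add_apply, hN0, hN1, hN2, add_zero]
    have e : ∀ j, (v (Sum.inr (Sum.inl j)) + (-2 * a j * v (Sum.inl ()) + Sy j v - a j * au v)) * v (Sum.inr (Sum.inr j)) =
        v (Sum.inr (Sum.inl j)) * v (Sum.inr (Sum.inr j)) + Sy j v * v (Sum.inr (Sum.inr j)) +
          (-2 * v (Sum.inl ()) - au v) * (a j * v (Sum.inr (Sum.inr j))) := fun j => by ring
    rw [Finset.sum_congr rfl fun j _ => e j, Finset.sum_add_distrib, Finset.sum_add_distrib, hskew, ← Finset.mul_sum,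
      ← hau]
    ring
  have hN3 : N ^ 3 = 0 := by
    refine LinearMap.ext fun v => funext fun s => ?_
    show N (N (N v)) s = 0
    have ha0 : ∀ w, au (N w) = 0 := fun w => by simp [hau, hN2]
    have hS0 : ∀ j w, Sy j (N w) = 0 := fun j w => by simp [hSy, hN2]
    rcases s with s | s | s
    · exact ha0 _
    · rw [hN1, ha0, hS0, hN0, ha0]; simp
    · exact hN2 _ _
  have hp3 : 3 ≤ p := by have := (Fact.out : p.Prime).two_le; omega
  have : Nontrivial (Module.End F Co) := by
    refine ⟨⟨0, 1, fun e => ?_⟩⟩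
    have := LinearMap.congr_fun e (fun _ => 1)
    have := congrFun this (Sum.inl ())
    simp at this
  have : CharP (Module.End F Co) p := charP_of_injective_algebraMap (algebraMap F (Module.End F Co)).injective p
  have hN20 : ∀ v, N (N v) (Sum.inl ()) = 0 := fun v => by rw [hN0, hau]; simp [hN2]
  have hN21 : ∀ v j, N (N v) (Sum.inr (Sum.inl j)) = -2 * a j * au v := fun v j => by
    rw [hN1, hN0, show au (N v) = 0 by simp [hau, hN2], show Sy j (N v) = 0 by simp [hSy, hN2]]
    ring
  refine ⟨1 + N, fun v => hiso v, ?_, ?_, fun hev => ?_, fun hod => ?_, ?_⟩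
  · rw [add_pow_expChar_of_commute p (Commute.one_left N), one_pow, pow_eq_zero_of_le hp3 hN3, add_zero]
  · rwa [add_sub_cancel_left]
  · rw [add_sub_cancel_left]
    have ha0 : ∀ j, a j = 0 := fun j => if_neg fun e => by
      obtain ⟨k, hk⟩ := hev
      omega
    refine LinearMap.ext fun v => funext fun s => ?_
    rw [pow_two, Module.End.mul_apply]
    rcases s with s | s | s
    · exact hN20 v
    · rw [hN21, ha0]; simp
    · rw [hN2]; rfl
  · rw [add_sub_cancel_left]
    let z : Co := Sum.elim (fun _ => 0) (Sum.elim a (fun _ => 0))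
    have hz : ∀ v, (N ^ 2) v = (-2 * au v) • z := fun v => funext fun s => by
      rw [pow_two, Module.End.mul_apply]
      rcases s with s | s | s
      · rw [hN20]; simp [z]
      · rw [hN21]; simp [z]; ring
      · rw [hN2]; simp [z]
    obtain ⟨k, hk⟩ := hod
    have hlast : a ⟨d - 1, by omega⟩ = 1 := if_pos ⟨by show d - 1 + 1 = d; omega, by show (d - 1) % 2 = 0; omega⟩
    refine ⟨z, fun e => ?_, ⟨Pi.single (Sum.inr (Sum.inr (⟨d - 1, by omega⟩ : Fin d))) (-(2 : F)⁻¹), ?_⟩,
      fun v => ⟨_, hz v⟩⟩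
    · have := congrFun e (Sum.inr (Sum.inl (⟨d - 1, by omega⟩ : Fin d)))
      simp [z, hlast] at this
    · rw [hz, hau, Finset.sum_eq_single (⟨d - 1, by omega⟩ : Fin d) (fun l _ hl => by simp [hl])
        (fun h => absurd (Finset.mem_univ _) h), hlast, one_mul, Pi.single_eq_same]
      have h2 := two_ne (F := F) hp2
      rw [show -2 * -(2 : F)⁻¹ = 1 by field_simp, one_smul]
  · rw [add_sub_cancel_left]
    let J : (Fin d → F) →ₗ[F] Co := LinearMap.pi (Sum.elim (fun _ => 0) (Sum.elim (fun j => LinearMap.proj j) (fun _ => 0)))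
    have hJ : Function.Injective J := fun x y e => funext fun j => congrFun e (Sum.inr (Sum.inl j))
    have hsingle : ∀ j : Fin d, J (Pi.single j 1) ∈ LinearMap.range N := by
      intro j
      have hd2 := two_ne (F := F) hp2
      rcases Nat.even_or_odd (j : ℕ) with ⟨l, hl⟩ | ⟨l, hl⟩
      · by_cases hlast : (j : ℕ) + 1 = d
        · refine ⟨Pi.single (Sum.inl ()) (-(2 : F)⁻¹), funext fun s => ?_⟩
          rcases s with s | s | s
          · rw [hN0, hau]; simp [J]
          · rw [hN1, hSy, hau]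
            by_cases hsj : s = j
            · subst hsj
              simp [J, a, hlast, show (s : ℕ) % 2 = 0 by omega]
              field_simp
            · have : ¬((s : ℕ) + 1 = d) := fun e => hsj (Fin.ext (by omega))
              simp [J, a, hsj, this]
          · rw [hN2]; simp [J]
        · refine ⟨Pi.single (Sum.inr (Sum.inr (⟨j + 1, by omega⟩ : Fin d))) 1, funext fun s => ?_⟩
          have hau0 : au (Pi.single (Sum.inr (Sum.inr (⟨j + 1, by omega⟩ : Fin d))) (1 : F)) = 0 := by
            rw [hau, Finset.sum_eq_single (⟨j + 1, by omega⟩ : Fin d) (fun t _ ht => by simp [ht])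
              (fun h => absurd (Finset.mem_univ _) h)]
            simp [a, show ((j : ℕ) + 1) % 2 ≠ 0 by omega]
          rcases s with s | s | s
          · rw [hN0, hau0]; simp [J]
          · rw [hN1, hau0, hSy, Finset.sum_eq_single (⟨j + 1, by omega⟩ : Fin d)
              (fun t _ ht => by simp [ht]) (fun h => absurd (Finset.mem_univ _) h)]
            by_cases hsj : s = j
            · subst hsj
              simp [J, S, show (s : ℕ) % 2 = 0 by omega]
            · have h1 : ¬((s : ℕ) % 2 = 0 ∧ (j : ℕ) + 1 = s + 1) := fun e => hsj (Fin.ext (by omega))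
              have h3 : ¬(((j : ℕ) + 1) % 2 = 0 ∧ (s : ℕ) = j + 1 + 1) := fun e => by omega
              have hS1 : S s ⟨j + 1, by omega⟩ = 0 := by
                simp only [S]
                rw [if_neg h1, if_neg h3]
              simp [J, hsj, hS1]
          · rw [hN2]; simp [J]
      · refine ⟨Pi.single (Sum.inr (Sum.inr (⟨j - 1, by omega⟩ : Fin d))) (-1), funext fun s => ?_⟩
        have hau0 : au (Pi.single (Sum.inr (Sum.inr (⟨j - 1, by omega⟩ : Fin d))) (-1 : F)) = 0 := by
          rw [hau, Finset.sum_eq_single (⟨j - 1, by omega⟩ : Fin d) (fun t _ ht => by simp [ht])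
            (fun h => absurd (Finset.mem_univ _) h)]
          simp [a, show ¬((j : ℕ) - 1 + 1 = d) by omega]
        rcases s with s | s | s
        · rw [hN0, hau0]; simp [J]
        · rw [hN1, hau0, hSy, Finset.sum_eq_single (⟨j - 1, by omega⟩ : Fin d)
            (fun t _ ht => by simp [ht]) (fun h => absurd (Finset.mem_univ _) h)]
          by_cases hsj : s = j
          · subst hsj
            have hS1 : S s ⟨s - 1, by omega⟩ = -1 := by
              simp only [S]
              rw [if_neg (by omega), if_pos (by omega)]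
            simp [J, hS1]
          · have h1 : ¬((s : ℕ) % 2 = 0 ∧ (j : ℕ) - 1 = s + 1) := fun e => by omega
            have h3 : ¬(((j : ℕ) - 1) % 2 = 0 ∧ (s : ℕ) = j - 1 + 1) := fun e => hsj (Fin.ext (by omega))
            have hS1 : S s ⟨j - 1, by omega⟩ = 0 := by
              simp only [S]
              rw [if_neg h1, if_neg h3]
            simp [J, hsj, hS1]
        · rw [hN2]; simp [J]
    have hsub : LinearMap.range J ≤ LinearMap.range N ⊓ LinearMap.ker N := by
      rintro _ ⟨x, rfl⟩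
      refine ⟨?_, LinearMap.mem_ker.mpr (funext fun s => ?_)⟩
      · rw [pi_eq_sum_univ x, map_sum]
        refine Submodule.sum_mem _ fun j _ => ?_
        rw [map_smul]
        refine Submodule.smul_mem _ _ ?_
        convert hsingle j using 2
        funext l
        simp [Pi.single_apply, eq_comm]
      · rcases s with s | s | s
        · rw [hN0, hau]; simp [J]
        · rw [hN1, hSy, hau]; simp [J]
        · rw [hN2]; rfl
    have := Submodule.finrank_mono hsub
    rwa [LinearMap.finrank_range_of_inj hJ, Module.finrank_fin_fun] at this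

omit [Fact r.Prime] in
/-- A unipotent isometry of order `p` moving something, with a large singular part. -/
theorem exists_unipotent (hp2 : p ≠ 2) (hd : 2 ≤ d) :
    ∃ T : Module.End F Co, (∀ v, Qo d (T v) = Qo d v) ∧ T ^ p = 1 ∧ T ≠ 1 ∧
      d ≤ finrank F ↥(LinearMap.range (T - 1) ⊓ LinearMap.ker (T - 1)) := by
  obtain ⟨T, h1, h2, -, -, -, h3⟩ := unipotent_model (F := F) (p := p) (d := d) hp2 (by omega)
  refine ⟨T, h1, h2, fun e => ?_, h3⟩
  rw [e, sub_self, LinearMap.range_zero, bot_inf_eq, finrank_bot] at h3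
  omega

end CfsgLib.OrthIso
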