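/-
From linear isometries to matrices of the derived orthogonal group.
-/
import Cfsg.Agent.Lib.OrthIso.OddModels
import Cfsg.Prelude.Def_ClassicalGeometry

set_option autoImplicit false
set_option linter.unusedSectionVars false

namespace CfsgLib.OrthIso

open Module Polynomial QuadraticMap CfsgLib.PrimeIso CfsgLib.StdQuadForms
open scoped Matrix MatrixGroups

universe u

variable {F : Type u} [Field F] [Fintype F] {ι : Type} [Fintype ι] [DecidableEq ι]

/-- Isometries of odd order lie in the derived group. -/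
theorem mem_omega_of_odd_order (h2 : (2 : F) ≠ 0) (hn : 2 ≤ Fintype.card ι) (Q : QuadraticForm F (ι → F))
    (hQ : (polarBilin Q).Nondegenerate) {g : GL ι F} (hg : g ∈ Cfsg.isometryGroup F ⇑Q) {r : ℕ} (hr : Odd r)
    (hgr : g ^ r = 1) : g ∈ Cfsg.Geo.omegaGL ⇑Q := by
  classical
  refine ⟨⟨g, hg⟩, ?_, rfl⟩
  refine (CfsgLib.OmegaMem.omega_iff Q h2 hn hQ ⟨g, hg⟩).mpr ?_
  have hG : (⟨g, hg⟩ : Cfsg.isometryGroup F ⇑Q) ^ r = 1 := Subtype.ext hgr
  generalize hu : CfsgLib.SpinorMatrix.phi Q hQ _ (CfsgLib.SpinorMatrix.isoEquiv Q ⟨g, hg⟩) = u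
  have h1 : u ^ r = 1 := by rw [← hu, ← map_pow, ← map_pow, hG, map_one, map_one]
  have h3 : u ^ 2 = 1 := by
    obtain ⟨a, b⟩ := u
    exact Prod.ext (Int.units_sq a) (Int.units_sq b)
  have h4 := pow_gcd_eq_one.mpr ⟨h1, h3⟩
  rwa [(Nat.coprime_two_right.mpr hr).gcd_eq_one, pow_one] at h4

theorem omegaGL_le {Q : (ι → F) → F} {x : GL ι F} (hx : x ∈ Cfsg.Geo.omegaGL Q) (v : ι → F) :
    Q ((x : Matrix ι ι F) *ᵥ v) = Q v := by
  obtain ⟨g, -, rfl⟩ := hx
  exact g.2 v v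

/-- The matrix of an invertible linear map of finite order. -/
theorem exists_gl (T : Module.End F (ι → F)) {r : ℕ} (hr : 0 < r) (hT : T ^ r = 1) :
    ∃ x : GL ι F, Matrix.toLin' (x : Matrix ι ι F) = T ∧ x ^ r = 1 := by
  let e : Module.End F (ι → F) ≃ₐ[F] Matrix ι ι F := LinearMap.toMatrixAlgEquiv'
  have hu : IsUnit (e T) := IsUnit.map e (IsUnit.of_pow_eq_one hT hr.ne')
  refine ⟨hu.unit, ?_, Units.ext ?_⟩
  · rw [IsUnit.unit_spec]
    exact Matrix.toLin'_toMatrix' T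
  · rw [Units.val_pow_eq_pow_val, IsUnit.unit_spec, ← map_pow, hT, map_one, Units.val_one]

theorem toLin'_pow_eq {x : GL ι F} {r : ℕ} (hx : x ^ r = 1) :
    (Matrix.toLin' (x : Matrix ι ι F) : Module.End F (ι → F)) ^ r = 1 := by
  have : Matrix.toLinAlgEquiv' ((x : Matrix ι ι F) ^ r) = 1 := by
    rw [← Units.val_pow_eq_pow_val, hx, Units.val_one, map_one]
  rwa [map_pow] at this

section Odd

variable {p r d : ℕ} [Fact p.Prime] [CharP F p]

local notation "Co" => (Unit ⊕ (Fin d ⊕ Fin d) → F)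

theorem quadFormOdd_eq : Cfsg.quadFormOdd d F = ⇑(Qo (F := F) d) := funext fun v => (Qo_apply d v).symm

/-- The statement about a class of subspaces in terms of linear isometries. -/
theorem odd_forall_iff [Fact r.Prime] (hp2 : p ≠ 2) (hd : 1 ≤ d) (hr2 : r ≠ 2) (P : Module.End F Co → Prop) :
    (∀ x : GL (Unit ⊕ (Fin d ⊕ Fin d)) F, x ∈ Cfsg.Geo.omegaGL (Cfsg.quadFormOdd d F) → orderOf x = r →
      P (Matrix.toLin' (x : Matrix (Unit ⊕ (Fin d ⊕ Fin d)) (Unit ⊕ (Fin d ⊕ Fin d)) F))) ↔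
      ∀ T : Module.End F Co, (∀ v, Qo d (T v) = Qo d v) → T ^ r = 1 → T ≠ 1 → P T := by
  have hr : r.Prime := Fact.out
  constructor
  · intro H T hiso hper hT1
    obtain ⟨x, hxT, hxr⟩ := exists_gl T hr.pos hper
    subst hxT
    refine H x ?_ (orderOf_eq_prime hxr fun e => hT1 ?_)
    · rw [quadFormOdd_eq]
      refine mem_omega_of_odd_order (two_ne hp2) (by simp; omega) _ (Qo_nondeg (two_ne hp2) d)
        (fun u _ => ?_) (hr.odd_of_ne_two hr2) hxr
      have := hiso u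
      rwa [Matrix.toLin'_apply] at this
    · rw [e, Units.val_one, Matrix.toLin'_one]
      rfl
  · intro H x hx hxr
    rw [quadFormOdd_eq] at hx
    refine H _ (fun v => by rw [Matrix.toLin'_apply]; exact omegaGL_le hx v)
      (toLin'_pow_eq (by rw [← hxr]; exact pow_orderOf_eq_one x)) fun e => hr.one_lt.ne' ?_
    have h1 : (x : Matrix (Unit ⊕ (Fin d ⊕ Fin d)) (Unit ⊕ (Fin d ⊕ Fin d)) F) = 1 :=
      Matrix.toLin'.injective (by rw [Matrix.toLin'_one]; exact e)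
    rw [← hxr, show x = 1 from Units.ext h1, orderOf_one]

theorem nondegenerateOn_iff (W : Submodule F Co) :
    Cfsg.Geo.IsNondegenerateOn (QuadraticMap.polar (Cfsg.quadFormOdd d F)) W ↔ ND (polarBilin (Qo d)) W := by
  rw [quadFormOdd_eq]
  constructor
  · intro h x hx hp
    by_contra h0
    obtain ⟨-, y, hy, hne⟩ := h x hx h0
    exact hne (hp y hy)
  · intro h w hw hw0
    obtain ⟨y, hy, hne⟩ : ∃ y ∈ W, QuadraticMap.polar (⇑(Qo d)) w y ≠ 0 := by
      by_contra hc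
      push Not at hc
      exact hw0 (h w hw hc)
    exact ⟨⟨y, hy, by rwa [polar_comm]⟩, y, hy, hne⟩

theorem plusTypeOn_iff (W : Submodule F Co) :
    Cfsg.Geo.IsPlusTypeOn (Cfsg.quadFormOdd d F) W ↔ Plus (Qo d) W := by
  rw [quadFormOdd_eq]; rfl

/-- The class of subspaces of the statements. -/
theorem class_iff {m : ℕ} (P : Prop) {P' : Submodule F Co → Prop}
    (hP : ∀ W, P' W ↔ (Cfsg.Geo.IsPlusTypeOn (Cfsg.quadFormOdd d F) W ↔ P)) (W : Submodule F Co) :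
    (finrank F ↥W = m ∧ Cfsg.Geo.IsNondegenerateOn (QuadraticMap.polar (Cfsg.quadFormOdd d F)) W ∧ P' W) ↔
      (finrank F ↥W = m ∧ ND (polarBilin (Qo d)) W ∧ (Plus (Qo d) W ↔ P)) := by
  rw [hP, nondegenerateOn_iff, plusTypeOn_iff]

/-- The criterion for non-degenerate subspaces of even dimension. -/
theorem odd_nondeg [Fact r.Prime] (hp2 : p ≠ 2) (hd : 3 ≤ d) {m i c : ℕ} (hm : 2 ≤ m) (hme : Even m)
    (hmn : m ≤ 2 * d) (hi : i = orderOf (Fintype.card F : ZMod r)) (hc : c = if Even i then i else 2 * i)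
    (P : Prop) {P' : Submodule F Co → Prop}
    (hP : ∀ W, P' W ↔ (Cfsg.Geo.IsPlusTypeOn (Cfsg.quadFormOdd d F) W ↔ P))
    (hdvd : r ∣ Nat.card {W : Submodule F Co // finrank F ↥W = m ∧
      Cfsg.Geo.IsNondegenerateOn (QuadraticMap.polar (Cfsg.quadFormOdd d F)) W ∧ P' W}) :
    (∀ x : GL (Unit ⊕ (Fin d ⊕ Fin d)) F, x ∈ Cfsg.Geo.omegaGL (Cfsg.quadFormOdd d F) → orderOf x = r →
      ∃ W : Submodule F Co, (finrank F ↥W = m ∧
        Cfsg.Geo.IsNondegenerateOn (QuadraticMap.polar (Cfsg.quadFormOdd d F)) W ∧ P' W) ∧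
        W.map (Matrix.toLin' (x : Matrix (Unit ⊕ (Fin d ⊕ Fin d)) (Unit ⊕ (Fin d ⊕ Fin d)) F)) ≤ W) ↔
    (r = 2 ∨ (r = p ∧ 2 < r ∧ P ∧
        (∀ T : Module.End F Co, (∀ v, Qo d (T v) = Qo d v) → T ^ r = 1 → T ≠ 1 → Fixes (Qo d) m P T)) ∨
      (r ≠ p ∧ 2 < r ∧ c ≤ m ∧ m % c < (2 * d + 1) % c ∧ (0 < m % c ∨ (P ↔ (Odd i ∨ Even (m / c)))))) := by
  have hr : r.Prime := Fact.out
  have hcl := class_iff (d := d) (m := m) P hP
  have hfix : ∀ T : Module.End F Co, Fixes (Qo d) m P T ↔ ∃ W : Submodule F Co, (finrank F ↥W = m ∧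
      Cfsg.Geo.IsNondegenerateOn (QuadraticMap.polar (Cfsg.quadFormOdd d F)) W ∧ P' W) ∧ W.map T ≤ W := fun T => by
    constructor
    · rintro ⟨W, hWT, h⟩
      exact ⟨W, (hcl W).mpr h, by rintro _ ⟨x, hx, rfl⟩; exact hWT x hx⟩
    · rintro ⟨W, h, hWT⟩
      exact ⟨W, fun x hx => hWT ⟨x, hx, rfl⟩, (hcl W).mp h⟩
  by_cases hr2 : r = 2
  · refine iff_of_true (fun x hx hxr => ?_) (Or.inl hr2)
    rw [quadFormOdd_eq] at hx
    refine (hfix _).mp (fixes_involution (qo_nd hp2) hp2 finrank_co (by omega) hm hme hmn P _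
      (fun v => by rw [Matrix.toLin'_apply]; exact omegaGL_le hx v) (toLin'_pow_eq ?_))
    rw [← hr2, ← hxr]
    exact pow_orderOf_eq_one x
  rw [odd_forall_iff (p := p) hp2 (by omega) hr2 (fun T => ∃ W : Submodule F Co, (finrank F ↥W = m ∧
      Cfsg.Geo.IsNondegenerateOn (QuadraticMap.polar (Cfsg.quadFormOdd d F)) W ∧ P' W) ∧ W.map T ≤ W)]
  simp only [← hfix]
  have hr3 : 2 < r := by have := hr.two_le; omega
  by_cases hrp : r = p
  · constructor
    · intro H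
      subst hrp
      obtain ⟨T, hiso, hper, hT1, hS⟩ := exists_unipotent (F := F) (p := r) (d := d) hp2 (by omega)
      obtain ⟨W, hWT, hWd, hWn, hWp⟩ := H T hiso hper hT1
      exact Or.inr (Or.inl ⟨rfl, hr3, hWp.mp (unipotent_plus (p := r) (qo_nd hp2) hp2 finrank_co T hiso hS hWT hWn
        (hWd ▸ hme)), H⟩)
    · rintro (h | ⟨-, -, -, H⟩ | ⟨h, -⟩)
      · exact absurd h hr2
      · exact H
      · exact absurd hrp h
  · have hdvd' : r ∣ Nat.card {W : Submodule F Co // finrank F ↥W = m ∧ ND (polarBilin (Qo d)) W ∧ (Plus (Qo d) W ↔ P)} := by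
      rwa [← Nat.card_congr (Equiv.subtypeEquivRight hcl)]
    rw [fixes_semisimple (qo_nd hp2) hp2 finrank_co hrp hr2 hi hc hm hme hmn P hdvd'
      fun e k hek => exists_odd_model hrp hr2 hp2 hi hc hek]
    constructor
    · exact fun h => Or.inr (Or.inr ⟨hrp, hr3, h⟩)
    · rintro (h | ⟨h, -⟩ | ⟨-, -, h⟩)
      · exact absurd h hr2
      · exact absurd h hrp
      · exact h

end Odd

end CfsgLib.OrthIso
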