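/-
Isometry classes of non-degenerate subspaces, and transport of isometries of models.
-/
import Cfsg.Agent.Lib.OrthIso.Count
import Cfsg.Agent.Lib.SpinorMatrix

set_option autoImplicit false
set_option linter.unusedSectionVars false

namespace CfsgLib.OrthIso

open Module Polynomial QuadraticMap CfsgLib.PrimeIso CfsgLib.MaxSub.Elusive

universe u v w

variable {F : Type u} [Field F] [Fintype F] {V : Type v} [AddCommGroup V] [Module F V] [FiniteDimensional F V]
  {Q : QuadraticForm F V}

/-- Isometric subspaces. -/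
def Iso (Q : QuadraticForm F V) (W W' : Submodule F V) : Prop :=
  ∃ e : W ≃ₗ[F] W', ∀ w : W, Q (e w : V) = Q (w : V)

theorem Iso.refl (W : Submodule F V) : Iso Q W W := ⟨LinearEquiv.refl F W, fun _ => rfl⟩

theorem Iso.symm {W W' : Submodule F V} (h : Iso Q W W') : Iso Q W' W := by
  obtain ⟨e, he⟩ := h
  exact ⟨e.symm, fun w => by rw [← he, e.apply_symm_apply]⟩

theorem Iso.trans {A B C : Submodule F V} (h : Iso Q A B) (h' : Iso Q B C) : Iso Q A C := by
  obtain ⟨e, he⟩ := h
  obtain ⟨f, hf⟩ := h'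
  exact ⟨e.trans f, fun w => by rw [LinearEquiv.trans_apply, hf, he]⟩

theorem Iso.finrank_eq {W W' : Submodule F V} (h : Iso Q W W') : finrank F W = finrank F W' := by
  obtain ⟨e, -⟩ := h
  exact LinearEquiv.finrank_eq e

theorem Iso.nd {W W' : Submodule F V} (h : Iso Q W W') (hW : ND (polarBilin Q) W) : ND (polarBilin Q) W' := by
  obtain ⟨e, he⟩ := h
  intro x hx hp
  have h0 : ((e.symm ⟨x, hx⟩ : W) : V) = 0 := hW _ (e.symm _).2 fun y hy => by
    show polar Q (e.symm ⟨x, hx⟩ : V) y = 0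
    have : polar Q (e.symm ⟨x, hx⟩ : V) y = polar Q x (e ⟨y, hy⟩ : V) := by
      have h1 := he (e.symm ⟨x, hx⟩ + ⟨y, hy⟩)
      have h2 := he (e.symm ⟨x, hx⟩)
      have h3 := he ⟨y, hy⟩
      rw [map_add, e.apply_symm_apply] at h1
      rw [e.apply_symm_apply] at h2
      simp only [Submodule.coe_add] at h1
      simp only [polar, h1, h2, h3]
    rw [this]
    exact hp _ (e ⟨y, hy⟩).2
  have : (⟨x, hx⟩ : W') = 0 := by
    rw [← e.apply_symm_apply ⟨x, hx⟩, show e.symm ⟨x, hx⟩ = 0 from Subtype.ext h0, map_zero]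
  exact congrArg Subtype.val this

theorem iso_map {g : V ≃ₗ[F] V} (hg : ∀ v, Q (g v) = Q v) (W : Submodule F V) :
    Iso Q W (W.map (g : V →ₗ[F] V)) :=
  ⟨g.submoduleMap W, fun w => hg w⟩

theorem Iso.plus {W W' : Submodule F V} (h : Iso Q W W') (hp : Plus Q W) : Plus Q W' := by
  obtain ⟨e, he⟩ := h
  obtain ⟨U, hU, hts, hd⟩ := hp
  refine ⟨((U.comap W.subtype).map e.toLinearMap).map W'.subtype, Submodule.map_subtype_le _ _, ?_, ?_⟩
  · rintro _ ⟨_, ⟨u, hu, rfl⟩, rfl⟩
    exact (he u).trans (hts _ hu)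
  · rw [Submodule.finrank_map_subtype_eq, LinearEquiv.finrank_map_eq,
      (Submodule.comapSubtypeEquivOfLe hU).finrank_eq, hd]
    exact LinearEquiv.finrank_eq e

/-- Orthogonal sums of isometric pieces are isometric. -/
theorem iso_sup {A B A' B' : Submodule F V} (hA : ND (polarBilin Q) A) (hB : ND (polarBilin Q) B)
    (hA' : ND (polarBilin Q) A') (hB' : ND (polarBilin Q) B') (h : ∀ a ∈ A, ∀ b ∈ B, polar Q a b = 0)
    (h' : ∀ a ∈ A', ∀ b ∈ B', polar Q a b = 0) (hAA : Iso Q A A') (hBB : Iso Q B B') :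
    Iso Q (A ⊔ B) (A' ⊔ B') := by
  obtain ⟨e, he⟩ := hAA
  obtain ⟨f, hf⟩ := hBB
  have hinf := (sup_dims hA hB h).1
  have hinf' := (sup_dims hA' hB' h').1
  have key : ∀ {X Y : Submodule F V}, X ⊓ Y = ⊥ → ∀ x ∈ X, ∀ y ∈ Y, x + y = 0 → x = 0 ∧ y = 0 := by
    intro X Y hXY x hx y hy hxy
    have hx' : x ∈ X ⊓ Y := ⟨hx, by rw [eq_neg_of_add_eq_zero_left hxy]; exact neg_mem hy⟩
    rw [hXY, Submodule.mem_bot] at hx'
    exact ⟨hx', by rwa [hx', zero_add] at hxy⟩
  let a : A × B →ₗ[F] V := A.subtype.coprod B.subtype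
  let b : A × B →ₗ[F] V := (A'.subtype.comp e.toLinearMap).coprod (B'.subtype.comp f.toLinearMap)
  have hai : Function.Injective a := (injective_iff_map_eq_zero a).mpr fun x hx => by
    obtain ⟨e1, e2⟩ := key hinf x.1 x.1.2 x.2 x.2.2 (by simpa [a] using hx)
    exact Prod.ext (Subtype.ext e1) (Subtype.ext e2)
  have hbi : Function.Injective b := (injective_iff_map_eq_zero b).mpr fun x hx => by
    obtain ⟨e1, e2⟩ := key hinf' (e x.1) (e x.1).2 (f x.2) (f x.2).2 (by simpa [b] using hx)
    exact Prod.ext (e.injective (by rw [Prod.fst_zero, map_zero]; exact Subtype.ext e1))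
      (f.injective (by rw [Prod.snd_zero, map_zero]; exact Subtype.ext e2))
  have hra : LinearMap.range a = A ⊔ B := by
    rw [LinearMap.range_coprod, Submodule.range_subtype, Submodule.range_subtype]
  have hrb : LinearMap.range b = A' ⊔ B' := by
    rw [LinearMap.range_coprod, LinearMap.range_comp, LinearMap.range_comp, LinearEquiv.range, LinearEquiv.range,
      Submodule.map_top, Submodule.map_top, Submodule.range_subtype, Submodule.range_subtype]
  refine ⟨((LinearEquiv.ofEq _ _ hra).symm.trans (LinearEquiv.ofInjective a hai).symm).trans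
    ((LinearEquiv.ofInjective b hbi).trans (LinearEquiv.ofEq _ _ hrb)), fun w => ?_⟩
  set x := (LinearEquiv.ofInjective a hai).symm ((LinearEquiv.ofEq _ _ hra).symm w)
  have hw : (w : V) = a x := by
    have := congrArg Subtype.val ((LinearEquiv.ofInjective a hai).apply_symm_apply ((LinearEquiv.ofEq _ _ hra).symm w))
    exact this.symm
  show Q (b x) = Q (w : V)
  rw [hw]
  show Q ((e x.1 : V) + (f x.2 : V)) = Q ((x.1 : V) + (x.2 : V))
  rw [q_add, q_add, h' _ (e x.1).2 _ (f x.2).2, h _ x.1.2 _ x.2.2, he, hf]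

theorem nondeg_of (hQ : ND (polarBilin Q) (⊤ : Submodule F V)) : (polarBilin Q).Nondegenerate :=
  ⟨fun x hx => hQ x trivial fun y _ => hx y, fun y hy => hQ y trivial fun x _ => by
    show polar Q y x = 0
    rw [polar_comm]; exact hy x⟩

/-- An isometry of subspaces extends, fixing an orthogonal subspace pointwise. -/
theorem extend_iso (hQ : ND (polarBilin Q) (⊤ : Submodule F V)) {W W' R : Submodule F V}
    (hW : ND (polarBilin Q) W) (hW' : ND (polarBilin Q) W') (hR : ND (polarBilin Q) R)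
    (hWR : ∀ w ∈ W, ∀ z ∈ R, polar Q w z = 0) (hWR' : ∀ w ∈ W', ∀ z ∈ R, polar Q w z = 0) (hiso : Iso Q W W') :
    ∃ g : V ≃ₗ[F] V, (∀ v, Q (g v) = Q v) ∧ (∀ z ∈ R, g z = z) ∧ W.map (g : V →ₗ[F] V) = W' := by
  obtain ⟨φ, hφ⟩ := hiso
  let a : W × R →ₗ[F] V := W.subtype.coprod R.subtype
  let b : W × R →ₗ[F] V := (W'.subtype.comp φ.toLinearMap).coprod R.subtype
  have key : ∀ {A : Submodule F V}, ND (polarBilin Q) A → (∀ w ∈ A, ∀ z ∈ R, polar Q w z = 0) →
      ∀ w ∈ A, ∀ z ∈ R, w + z = 0 → w = 0 ∧ z = 0 := fun {A} hA hAR w hw z hz he => by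
    obtain ⟨hinf, -, -⟩ := sup_dims hA hR hAR
    have hw' : w ∈ A ⊓ R := ⟨hw, by rw [eq_neg_of_add_eq_zero_left he]; exact neg_mem hz⟩
    rw [hinf, Submodule.mem_bot] at hw'
    exact ⟨hw', by rwa [hw', zero_add] at he⟩
  have hainj : Function.Injective a := (injective_iff_map_eq_zero a).mpr fun x hx => by
    obtain ⟨e1, e2⟩ := key hW hWR x.1 x.1.2 x.2 x.2.2 (by simpa [a] using hx)
    exact Prod.ext (Subtype.ext e1) (Subtype.ext e2)
  have hbinj : Function.Injective b := (injective_iff_map_eq_zero b).mpr fun x hx => by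
    obtain ⟨e1, e2⟩ := key hW' hWR' (φ x.1) (φ x.1).2 x.2 x.2.2 (by simpa [b] using hx)
    exact Prod.ext (φ.injective (by rw [Prod.fst_zero, map_zero]; exact Subtype.ext e1)) (Subtype.ext e2)
  have hval : ∀ x, Q (b x) = Q (a x) := fun x => by
    show Q ((φ x.1 : V) + (x.2 : V)) = Q ((x.1 : V) + (x.2 : V))
    rw [q_add, q_add, hWR' _ (φ x.1).2 _ x.2.2, hWR _ x.1.2 _ x.2.2, hφ]
  let e := LinearEquiv.ofInjective a hainj
  obtain ⟨g, hg, hgX⟩ := CfsgLib.WittExtension.quad_extend Q (nondeg_of hQ) (LinearMap.range a)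
    (b.comp e.symm.toLinearMap) (hbinj.comp e.symm.injective) (fun y => by
      show Q (b (e.symm y)) = _
      rw [hval]
      exact congrArg Q (congrArg Subtype.val (e.apply_symm_apply y)))
  have hga : ∀ x, g (a x) = b x := fun x => by
    have := hgX (e x)
    rw [LinearMap.comp_apply, LinearEquiv.coe_coe, e.symm_apply_apply] at this
    exact this
  refine ⟨g, hg, fun z hz => ?_, Submodule.eq_of_le_of_finrank_eq ?_ ?_⟩
  · simpa [a, b] using hga (0, ⟨z, hz⟩)
  · rintro _ ⟨w, hw, rfl⟩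
    have := hga (⟨w, hw⟩, 0)
    simp only [a, b, LinearMap.coprod_apply, map_zero, add_zero, Submodule.subtype_apply] at this
    show g w ∈ W'
    rw [this]
    exact (φ ⟨w, hw⟩).2
  · rw [LinearEquiv.finrank_map_eq, LinearEquiv.finrank_eq φ]

section Transport

variable {p : ℕ} [Fact p.Prime] [CharP F p]

/-- An isometry of a model carried to a subspace, extended by the identity. -/
theorem exists_transport (hQ : ND (polarBilin Q) (⊤ : Submodule F V)) {U : Submodule F V}
    (hU : ND (polarBilin Q) U) {M : Type w} [AddCommGroup M] [Module F M] {Q' : QuadraticForm F M}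
    (φ : M ≃ₗ[F] U) (hφ : ∀ m, Q (φ m : V) = Q' m) (Y : Module.End F M) (hY : ∀ m, Q' (Y m) = Q' m) :
    ∃ T : Module.End F V, (∀ v, Q (T v) = Q v) ∧ (∀ n, Y ^ n = 1 → T ^ n = 1) ∧ (∀ m, T (φ m : V) = φ (Y m)) ∧
      ∀ v ∈ perpIn (polarBilin Q) U ⊤, T v = v := by
  obtain ⟨hPn, hinf, hsup, -⟩ := split_perpIn (fun x y hxy => by
    show polar Q y x = 0
    rw [polar_comm]; exact hxy) le_top hU hQ
  set P := perpIn (polarBilin Q) U ⊤
  have hc : IsCompl U P := IsCompl.of_eq hinf hsup
  let e := Submodule.prodEquivOfIsCompl U P hc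
  let Z : Module.End F (U × P) := (φ.conjAlgEquiv F Y).prodMap 1
  let T : Module.End F V := e.conjAlgEquiv F Z
  have hT : ∀ x : U × P, T (e x) = (φ (Y (φ.symm x.1)) : V) + x.2 := fun x => by
    show e (Z (e.symm (e x))) = _
    rw [e.symm_apply_apply]
    rfl
  refine ⟨T, fun v => ?_, fun n hn => ?_, fun m => ?_, fun v hv => ?_⟩
  · obtain ⟨x, rfl⟩ := e.surjective v
    rw [hT, show e x = (x.1 : V) + x.2 from rfl, q_add, q_add, hφ, hY]
    have horth : ∀ u ∈ U, polar Q u (x.2 : V) = 0 := fun u hu => x.2.2.2 u hu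
    rw [horth _ (φ _).2, horth _ x.1.2, ← hφ, φ.apply_symm_apply]
  · show (e.conjAlgEquiv F Z) ^ n = 1
    have hZ : Z ^ n = 1 := by
      have hp : ∀ k, Z ^ k = ((φ.conjAlgEquiv F Y) ^ k).prodMap (1 : Module.End F P) := fun k => by
        induction k with
        | zero => exact (LinearMap.prodMap_one).symm
        | succ k ih =>
          rw [pow_succ, ih, pow_succ]
          exact LinearMap.ext fun x => rfl
      rw [hp, ← map_pow, hn, map_one]
      exact LinearMap.prodMap_one
    rw [← map_pow, hZ, map_one]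
  · have := hT (φ m, 0)
    rw [show (e (φ m, 0) : V) = φ m by simp [e]] at this
    rw [this, φ.symm_apply_apply]
    simp
  · have := hT (0, ⟨v, hv⟩)
    rw [show (e (0, ⟨v, hv⟩) : V) = v by simp [e]] at this
    rw [this]
    simp

/-- Subspaces of a given odd-dimensional class inside a larger space. -/
theorem exists_odd_in (hp2 : p ≠ 2) {U Z : Submodule F V} (hU : ND (polarBilin Q) U) (hZ : ND (polarBilin Q) Z)
    {a : ℕ} (hZd : finrank F Z = 2 * a + 1) (hlt : 2 * a + 1 < finrank F U) :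
    ∃ W ≤ U, ND (polarBilin Q) W ∧ Iso Q W Z := by
  classical
  have h2 := two_ne (F := F) hp2
  obtain ⟨e, f, h⟩ := CfsgLib.FiniteForms.exists_hypFam a Z (Q.comp Z.subtype) (pn_restrict hZ) (by omega)
  have hP := h.finrank_famPerp
  obtain ⟨g, hg, hQg⟩ := exists_aniso (Q := Q.comp Z.subtype)
    (U := CfsgLib.FiniteForms.famPerp (Q.comp Z.subtype) e f)
    (fun x hx hp => h.famPerp_nondeg (pn_restrict hZ) hx hp) (fun hb => by rw [hb, finrank_bot] at hP; omega)
  obtain ⟨e', f', h'⟩ := CfsgLib.FiniteForms.exists_hypFam a U (Q.comp U.subtype) (pn_restrict hU) (by omega)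
  have hP' := h'.finrank_famPerp
  set R := CfsgLib.FiniteForms.famPerp (Q.comp U.subtype) e' f'
  obtain ⟨g', hg'⟩ := CfsgLib.SpinorMatrix.universal ((Q.comp U.subtype).comp R.subtype) h2
    (nondeg_of (Q := (Q.comp U.subtype).comp R.subtype) fun x _ hx => Subtype.ext
      (h'.famPerp_nondeg (pn_restrict hU) x.2 fun y hy => by
        have h9 := hx ⟨y, hy⟩ trivial
        change polar ((Q.comp U.subtype).comp R.subtype) x ⟨y, hy⟩ = 0 at h9
        rwa [polar_comp] at h9))
    (by omega) hQg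
  have hZi : ∀ {S : Submodule F V} {e f : Fin a → S} {g : S}, CfsgLib.FiniteForms.HypFam (Q.comp S.subtype) e f →
      g ∈ CfsgLib.FiniteForms.famPerp (Q.comp S.subtype) e f → ∀ v : (Fin a → F) × (Fin a → F) × F,
      Q (((∑ j, v.1 j • e j + ∑ j, v.2.1 j • f j) + v.2.2 • g : S) : V) =
        (∑ j, v.1 j * v.2.1 j) + v.2.2 * v.2.2 * Q (g : V) := by
    intro S e f g h hg v
    show (Q.comp S.subtype) ((∑ j, v.1 j • e j + ∑ j, v.2.1 j • f j) + v.2.2 • g) = _
    rw [q_add, h.quad_comb, QuadraticMap.map_smul]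
    obtain ⟨hge, hgf⟩ := CfsgLib.FiniteForms.mem_famPerp.mp hg
    have e1 : polar (Q.comp S.subtype) (∑ j, v.1 j • e j + ∑ j, v.2.1 j • f j) (v.2.2 • g) = 0 := by
      show polarBilin (Q.comp S.subtype) _ _ = 0
      simp only [map_add, map_sum, LinearMap.add_apply, LinearMap.sum_apply, LinearMap.smul_apply, map_smul,
        polarBilin_apply_apply, hge, hgf, smul_zero, Finset.sum_const_zero, add_zero]
    rw [e1, add_zero]
    rfl
  let mk : ∀ {S : Submodule F V}, (Fin a → S) → (Fin a → S) → S → ((Fin a → F) × (Fin a → F) × F) →ₗ[F] S :=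
    fun e f g => ((∑ j, ((LinearMap.proj j).comp (LinearMap.fst F _ _)).smulRight (e j)) +
      ∑ j, ((LinearMap.proj j).comp ((LinearMap.fst F _ _).comp (LinearMap.snd F _ _))).smulRight (f j)) +
      ((LinearMap.snd F _ _).comp (LinearMap.snd F _ _)).smulRight g
  have hmk : ∀ {S : Submodule F V} (e f : Fin a → S) (g : S) (v : (Fin a → F) × (Fin a → F) × F),
      mk e f g v = (∑ j, v.1 j • e j + ∑ j, v.2.1 j • f j) + v.2.2 • g := fun e f g v => by
    simp [mk, LinearMap.sum_apply]
  have hval : Q ((g' : U) : V) = Q (g : V) := hg'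
  let L : ((Fin a → F) × (Fin a → F) × F) →ₗ[F] V := U.subtype.comp (mk e' f' g')
  let M : ((Fin a → F) × (Fin a → F) × F) →ₗ[F] V := Z.subtype.comp (mk e f g)
  have hLM : ∀ v, Q (L v) = Q (M v) := fun v => by
    show Q ((mk e' f' g' v : U) : V) = Q ((mk e f g v : Z) : V)
    rw [hmk, hmk, hZi h' g'.2, hZi h hg, hval]
  have hMinj : Function.Injective M := by
    refine (injective_iff_map_eq_zero M).mpr fun v hv => ?_
    have hv' : mk e f g v = 0 := Subtype.ext hv
    rw [hmk] at hv'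
    obtain ⟨hge, hgf⟩ := CfsgLib.FiniteForms.mem_famPerp.mp hg
    have hA : ∀ j, v.2.1 j = 0 := fun j => by
      have h1 : polar (Q.comp Z.subtype) (e j) ((∑ j, v.1 j • e j + ∑ j, v.2.1 j • f j) + v.2.2 • g) = 0 := by
        rw [hv', polar_zero_right]
      rwa [polar_add_right, (h.polar_comb v.1 v.2.1 j).1, polar_smul_right, hge j, smul_zero, add_zero] at h1
    have hB : ∀ j, v.1 j = 0 := fun j => by
      have h1 : polar (Q.comp Z.subtype) (f j) ((∑ j, v.1 j • e j + ∑ j, v.2.1 j • f j) + v.2.2 • g) = 0 := by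
        rw [hv', polar_zero_right]
      rwa [polar_add_right, (h.polar_comb v.1 v.2.1 j).2, polar_smul_right, hgf j, smul_zero, add_zero] at h1
    have hC : v.2.2 = 0 := by
      simp only [hA, hB, zero_smul, Finset.sum_const_zero, zero_add] at hv'
      rcases smul_eq_zero.mp hv' with h9 | h9
      · exact h9
      · exact absurd (by rw [h9, map_zero]) hQg
    exact Prod.ext (funext hB) (Prod.ext (funext hA) hC)
  have hrM : LinearMap.range M = Z := Submodule.eq_of_le_of_finrank_eq (by rintro _ ⟨v, rfl⟩; exact (mk e f g v).2) (by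
    rw [LinearMap.finrank_range_of_inj hMinj, hZd, Module.finrank_prod, Module.finrank_prod, Module.finrank_fin_fun,
      Module.finrank_self]
    omega)
  have hLM' : ∀ u v, polar Q (L u) (L v) = polar Q (M u) (M v) := fun u v => by
    simp only [polar, ← map_add, hLM]
  have hLinj : Function.Injective L := (injective_iff_map_eq_zero L).mpr fun v hv => hMinj (by
    rw [map_zero]
    refine hZ _ (hrM.le ⟨v, rfl⟩) fun y hy => ?_
    obtain ⟨u, rfl⟩ := hrM.ge hy
    show polar Q (M v) (M u) = 0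
    rw [← hLM', hv, polar_zero_left])
  have hiso : Iso Q Z (LinearMap.range L) :=
    ⟨((LinearEquiv.ofEq _ _ hrM).symm.trans (LinearEquiv.ofInjective M hMinj).symm).trans
      (LinearEquiv.ofInjective L hLinj), fun w => by
      set v := (LinearEquiv.ofInjective M hMinj).symm ((LinearEquiv.ofEq _ _ hrM).symm w) with hv
      have hw : (w : V) = M v := (congrArg Subtype.val
        ((LinearEquiv.ofInjective M hMinj).apply_symm_apply ((LinearEquiv.ofEq _ _ hrM).symm w))).symm
      show Q (L v) = Q (w : V)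
      rw [hw, hLM]⟩
  exact ⟨LinearMap.range L, by rintro _ ⟨v, rfl⟩; exact (mk e' f' g' v).2, hiso.nd hZ, hiso.symm⟩

end Transport

section Count

variable {T : Module.End F V} {p r : ℕ} [Fact p.Prime] [CharP F p] [Fact r.Prime]
  (hrp : r ≠ p) (hr2 : r ≠ 2) (hp2 : p ≠ 2) (hQ : ND (polarBilin Q) (⊤ : Submodule F V))
include hrp hr2 hp2 hQ

/-- A prime dividing the size of a class of subspaces smaller than a block. -/
theorem class_meets_moved (hiso : ∀ v, Q (T v) = Q v) (hper : T ^ r = 1) {c : ℕ}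
    (hc : c = if Even (orderOf (Fintype.card F : ZMod r)) then orderOf (Fintype.card F : ZMod r)
      else 2 * orderOf (Fintype.card F : ZMod r)) {Z : Submodule F V} (hZ : ND (polarBilin Q) Z)
    (hmc : finrank F Z < c) (hkc : finrank F (LinearMap.ker (aeval T (X - C (1 : F)))) < c)
    (hdvd : r ∣ Nat.card {W : Submodule F V // Iso Q W Z}) :
    ¬ ∃ W ≤ LinearMap.ker (aeval T (X - C (1 : F))), Iso Q W Z := by
  classical
  rintro ⟨W₀, hW₀A, hW₀⟩
  have h := perIso_of hrp hiso hper
  have : Finite V := Module.finite_of_finite F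
  set A := LinearMap.ker (aeval T (X - C (1 : F))) with hAdef
  set R := LinearMap.ker (aeval T (geom F r)) with hRdef
  obtain ⟨hAn, hRn, hAR⟩ := nd_parts h (inv_top (T := T)) hQ
  rw [top_inf_eq, top_inf_eq] at hAR
  rw [top_inf_eq] at hAn hRn
  have horth : ∀ a ∈ A, ∀ z ∈ R, polar Q a z = 0 := fun a ha z hz => (fix_perp h ha hz).1
  have hTu : IsUnit T := IsUnit.of_pow_eq_one hper (Fact.out : r.Prime).ne_zero
  let t : V ≃ₗ[F] V := LinearEquiv.ofBijective T ((Module.End.isUnit_iff T).mp hTu)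
  have ht : ∀ v, Q (t v) = Q v := hiso
  set S := {W : Submodule F V // Iso Q W Z}
  let f : S → S := fun W => ⟨W.1.map (t : V →ₗ[F] V), (iso_map ht W.1).symm.trans W.2⟩
  have hfinj : Function.Injective f := fun W W' e =>
    Subtype.ext (Submodule.map_injective_of_injective t.injective (congrArg Subtype.val e))
  let σ : Equiv.Perm S := Equiv.ofBijective f (Finite.injective_iff_bijective.mp hfinj)
  have hσ : σ ^ (r ^ 1) = 1 := by
    have key : ∀ (n : ℕ) (W : S), ((σ ^ n) W).1 = W.1.map (T ^ n) := fun n => by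
      induction n with
      | zero => intro W; show W.1 = W.1.map (T ^ 0); rw [pow_zero, Module.End.one_eq_id, Submodule.map_id]
      | succ n ih =>
        intro W
        rw [pow_succ', Equiv.Perm.mul_apply, pow_succ', Module.End.mul_eq_comp, Submodule.map_comp, ← ih]
        rfl
    refine Equiv.ext fun W => Subtype.ext ?_
    rw [key, pow_one, hper, Module.End.one_eq_id, Submodule.map_id]
    rfl
  have : Fintype S := Fintype.ofFinite S
  have hmod := Equiv.Perm.card_compl_support_modEq (p := r) hσ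
  rw [Nat.card_eq_fintype_card] at hdvd
  have hfix : r ∣ σ.supportᶜ.card := (Nat.modEq_zero_iff_dvd).mp (hmod.trans ((Nat.modEq_zero_iff_dvd).mpr hdvd))
  have hfixed : ∀ W : S, σ W = W ↔ W.1 ≤ A := by
    intro W
    constructor
    · intro hW
      have hWT : Inv T W.1 := fun x hx => (congrArg Subtype.val hW).le ⟨x, hx, rfl⟩
      have hWn := W.2.symm.nd hZ
      obtain ⟨e, he, hsum⟩ := split_dim hrp hr2 hQ hiso hper hc hWT hWn
      rw [W.2.finrank_eq] at hsum
      change finrank F ↥(W.1 ⊓ A) + e * c = finrank F Z at hsum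
      have he0 : e = 0 := by
        by_contra he0
        have := Nat.le_mul_of_pos_left c (Nat.pos_of_ne_zero he0)
        omega
      have := Submodule.eq_of_le_of_finrank_le (inf_le_left : W.1 ⊓ A ≤ W.1) (by
        rw [W.2.finrank_eq]; subst he0; omega)
      exact this ▸ inf_le_right
    · intro hW
      refine Subtype.ext (Submodule.eq_of_le_of_finrank_eq ?_ ?_)
      · rintro _ ⟨x, hx, rfl⟩
        have hTx : T x = x := by simpa [hAdef, sub_eq_zero] using hW hx
        show T x ∈ W.1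
        rwa [hTx]
      · exact LinearEquiv.finrank_map_eq t W.1
  let G : Subgroup (V ≃ₗ[F] V) :=
    { carrier := {g | (∀ v, Q (g v) = Q v) ∧ ∀ z ∈ R, g z = z}
      mul_mem' := fun {a b} ha hb => ⟨fun v => by show Q (a (b v)) = _; rw [ha.1, hb.1],
        fun z hz => by show a (b z) = z; rw [hb.2 z hz, ha.2 z hz]⟩
      one_mem' := ⟨fun v => rfl, fun z _ => rfl⟩
      inv_mem' := fun {a} ha => ⟨fun v => by
          rw [← ha.1 (a⁻¹ v)]; exact congrArg Q (a.apply_symm_apply v),
        fun z hz => (LinearEquiv.symm_apply_eq a).mpr (ha.2 z hz).symm⟩ }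
  have : Finite (V ≃ₗ[F] V) := Finite.of_injective (fun g => ((g : V → V))) DFunLike.coe_injective
  let _ : SMul G (Submodule F V) := ⟨fun g W => W.map (g.1 : V →ₗ[F] V)⟩
  let _ : MulAction G (Submodule F V) :=
    { one_smul := fun W => Submodule.map_id W
      mul_smul := fun g g' W => by
        show W.map ((g * g').1 : V →ₗ[F] V) = (W.map (g'.1 : V →ₗ[F] V)).map (g.1 : V →ₗ[F] V)
        rw [← Submodule.map_comp]
        rfl }
  have hgA : ∀ g : G, ∀ a ∈ A, g.1 a ∈ A := by
    intro g a ha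
    obtain ⟨x, hx, z, hz, hxz⟩ := Submodule.mem_sup.mp (hAR.ge (Submodule.mem_top (x := g.1 a)))
    have hz0 : z = 0 := hRn z hz fun y hy => by
      have h1 : polar Q (g.1 a) y = 0 := by
        have e1 : polar Q (g.1 a) (g.1 y) = polar Q a y := by simp only [polar, ← map_add, g.2.1]
        rw [g.2.2 y hy] at e1
        rw [e1]; exact horth a ha y hy
      rw [← hxz, polar_add_left, horth x hx y hy, zero_add] at h1
      exact h1
    rwa [← hxz, hz0, add_zero]
  have horbit : MulAction.orbit G W₀ = {W : Submodule F V | Iso Q W Z ∧ W ≤ A} := by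
    ext W
    constructor
    · rintro ⟨g, rfl⟩
      refine ⟨(iso_map g.2.1 W₀).symm.trans hW₀, ?_⟩
      rintro _ ⟨x, hx, rfl⟩
      exact hgA g x (hW₀A hx)
    · rintro ⟨hW, hle⟩
      obtain ⟨g, hg1, hg2, hg3⟩ := extend_iso hQ (hW₀.symm.nd hZ) (hW.symm.nd hZ) hRn
        (fun w hw z hz => horth w (hW₀A hw) z hz) (fun w hw z hz => horth w (hle hw) z hz) (hW₀.trans hW.symm)
      exact ⟨⟨g, hg1, hg2⟩, hg3⟩
  have hcard : σ.supportᶜ.card = (MulAction.orbit G W₀).ncard := by
    rw [horbit, ← Set.ncard_coe_finset, ← Set.ncard_image_of_injective _ (Subtype.val_injective : Function.Injective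
      (fun W : S => W.1))]
    congr 1
    ext W
    simp only [Set.mem_image, Finset.mem_coe, Finset.mem_compl, Equiv.Perm.mem_support, not_not, Set.mem_ofPred_eq]
    constructor
    · rintro ⟨W', hW', rfl⟩
      exact ⟨W'.2, (hfixed W').mp hW'⟩
    · rintro ⟨a, hle⟩
      exact ⟨⟨W, a⟩, (hfixed _).mpr hle, rfl⟩
  rw [hcard, ← MulAction.index_stabilizer] at hfix
  obtain ⟨g, hg⟩ := exists_prime_orderOf_dvd_card' (G := G) r (hfix.trans (Subgroup.index_dvd_card _))
  set T' : Module.End F V := (g.1 : V →ₗ[F] V)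
  have hT'pow : ∀ n : ℕ, T' ^ n = (((g ^ n : G) : V ≃ₗ[F] V) : V →ₗ[F] V) := fun n => by
    induction n with
    | zero => rfl
    | succ n ih => rw [pow_succ', ih, pow_succ']; rfl
  have hT'r : T' ^ r = 1 := by
    rw [hT'pow]
    have := pow_orderOf_eq_one g
    rw [hg] at this
    rw [this]; rfl
  obtain ⟨e, he, hsum⟩ := split_dim hrp hr2 hQ (T := T') g.2.1 hT'r hc inv_top hQ
  rw [finrank_top] at hsum
  have hRle : R ≤ (⊤ : Submodule F V) ⊓ LinearMap.ker (aeval T' (X - C (1 : F))) := fun z hz => ⟨trivial, by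
    show aeval T' (X - C (1 : F)) z = 0
    simp [T', g.2.2 z hz]⟩
  have hsum0 := finrank_split h (inv_top (T := T))
  rw [top_inf_eq, top_inf_eq, ← hAdef, ← hRdef, finrank_top] at hsum0
  have h5 := Submodule.finrank_mono hRle
  have he0 : e = 0 := by
    by_contra he0
    have := Nat.le_mul_of_pos_left c (Nat.pos_of_ne_zero he0)
    omega
  rw [he0, zero_mul, add_zero] at hsum
  have hg1 : g = 1 := Subtype.ext (LinearEquiv.ext fun v => by
    have h6 : (⊤ : Submodule F V) ⊓ LinearMap.ker (aeval T' (X - C (1 : F))) = ⊤ :=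
      Submodule.eq_top_of_finrank_eq hsum
    have h7 := (h6.ge (Submodule.mem_top (x := v))).2
    simpa [T', sub_eq_zero] using h7)
  rw [hg1, orderOf_one] at hg
  exact (Fact.out : r.Prime).one_lt.ne hg

end Count

end CfsgLib.OrthIso
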