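/-
Isometries with square `-1`: the type of the space and the product of reflections.
-/
import Cfsg.Agent.Lib.OrthIso.Class
import Cfsg.Agent.Lib.OrthIso.Bridge

set_option autoImplicit false
set_option linter.unusedSectionVars false
set_option maxHeartbeats 1000000

namespace CfsgLib.OrthIso

open Module Polynomial QuadraticMap CfsgLib.PrimeIso
open scoped Matrix MatrixGroups

universe u v

variable {F : Type u} [Field F] [Fintype F] {V : Type v} [AddCommGroup V] [Module F V] [FiniteDimensional F V]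
  {Q : QuadraticForm F V}

/-- The reflection along a vector. -/
noncomputable def reflMap (Q : QuadraticForm F V) (v : V) : Module.End F V :=
  LinearMap.id - (polarBilin Q v).smulRight ((Q v)⁻¹ • v)

theorem reflMap_apply (v u : V) : reflMap Q v u = u - (polar Q v u / Q v) • v := by
  simp [reflMap, smul_smul, div_eq_mul_inv, mul_comm]

theorem reflMap_fix {v u : V} (h : polar Q v u = 0) : reflMap Q v u = u := by
  rw [reflMap_apply, h, zero_div, zero_smul, sub_zero]

theorem prod_fix : ∀ (vs : List V) (u : V), (∀ v ∈ vs, polar Q v u = 0) → (vs.map (reflMap Q)).prod u = u := by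
  intro vs
  induction vs with
  | nil => intro u _; rfl
  | cons a t ih =>
    intro u h
    rw [List.map_cons, List.prod_cons, Module.End.mul_apply, ih u fun v hv => h v (List.mem_cons_of_mem _ hv),
      reflMap_fix (h a List.mem_cons_self)]

/-- A plane spanned by an anisotropic vector and its image. -/
theorem quarter_plane (h2 : (2 : F) ≠ 0) {T : Module.End F V} (hiso : ∀ v, Q (T v) = Q v)
    (hT : ∀ v, T (T v) = -v) {v : V} (hv : Q v ≠ 0) :
    polar Q v (T v) = 0 ∧ ND (polarBilin Q) (Submodule.span F {v, T v}) ∧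
      finrank F (Submodule.span F {v, T v}) = 2 ∧ (Plus Q (Submodule.span F {v, T v}) ↔ IsSquare (-1 : F)) := by
  have hp : polar Q v (T v) = 0 := by
    have h : polar Q (T v) (T (T v)) = polar Q v (T v) := by simp only [polar, ← map_add, hiso]
    rw [hT, polar_neg_right, polar_comm Q (T v) v] at h
    exact (mul_eq_zero.mp (show (2 : F) * polar Q v (T v) = 0 by linear_combination -h)).resolve_left h2
  have hQT : Q (T v) = Q v := hiso v
  have hval : ∀ a b : F, Q (a • v + b • T v) = (a * a + b * b) * Q v := fun a b => by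
    rw [q_add, QuadraticMap.map_smul, QuadraticMap.map_smul, polar_smul_left, polar_smul_right, hp, hQT]
    simp only [smul_eq_mul]; ring
  have hindep : ∀ a b : F, a • v + b • T v = 0 → a = 0 ∧ b = 0 := fun a b h => by
    have e1 := congrArg (polar Q v) h
    have e2 := congrArg (polar Q (T v)) h
    rw [polar_add_right, polar_smul_right, polar_smul_right, polar_self, hp, polar_zero_right] at e1
    rw [polar_add_right, polar_smul_right, polar_smul_right, polar_self, polar_comm Q (T v) v, hp, hQT,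
      polar_zero_right] at e2
    simp only [nsmul_eq_mul, smul_eq_mul, mul_zero, add_zero, zero_add, mul_eq_zero, Nat.cast_ofNat] at e1 e2
    exact ⟨e1.resolve_right (not_or_intro h2 hv), e2.resolve_right (not_or_intro h2 hv)⟩
  have hnd : ND (polarBilin Q) (Submodule.span F {v, T v}) := fun x hx h => by
    obtain ⟨a, b, rfl⟩ := Submodule.mem_span_pair.mp hx
    have e1 : polar Q (a • v + b • T v) v = 0 := h v (Submodule.subset_span (by simp))
    have e2 : polar Q (a • v + b • T v) (T v) = 0 := h (T v) (Submodule.subset_span (by simp))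
    rw [polar_add_left, polar_smul_left, polar_smul_left, polar_self, polar_comm Q (T v) v, hp] at e1
    rw [polar_add_left, polar_smul_left, polar_smul_left, polar_self, hp, hQT] at e2
    simp only [nsmul_eq_mul, smul_eq_mul, mul_zero, add_zero, zero_add, mul_eq_zero, Nat.cast_ofNat] at e1 e2
    rw [e1.resolve_right (not_or_intro h2 hv), e2.resolve_right (not_or_intro h2 hv), zero_smul, zero_smul, add_zero]
  have hd : finrank F (Submodule.span F {v, T v}) = 2 := by
    have hli : LinearIndependent F ![v, T v] := LinearIndependent.pair_iff.mpr hindep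
    have := finrank_span_eq_card hli
    rwa [Matrix.range_cons, Matrix.range_cons, Matrix.range_empty, Set.union_empty, Set.singleton_union,
      Fintype.card_fin] at this
  refine ⟨hp, hnd, hd, ?_⟩
  constructor
  · rintro ⟨U, hU, hts, hUd⟩
    obtain ⟨x, hx, hx0⟩ := Submodule.exists_mem_ne_zero_of_ne_bot (p := U) fun e => by
      rw [e, finrank_bot, hd] at hUd; omega
    obtain ⟨a, b, rfl⟩ := Submodule.mem_span_pair.mp (hU hx)
    have h0 := hts _ hx
    rw [hval, mul_eq_zero, or_iff_left hv] at h0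
    have hb : b ≠ 0 := fun e => hx0 (by
      subst e
      rw [mul_zero, add_zero, mul_self_eq_zero] at h0
      rw [h0, zero_smul, zero_smul, add_zero])
    exact ⟨a / b, by field_simp; linear_combination -h0⟩
  · rintro ⟨s, hs⟩
    refine ⟨Submodule.span F {s • v + (1 : F) • T v}, (Submodule.span_singleton_le_iff_mem _ _).mpr
      (Submodule.mem_span_pair.mpr ⟨s, 1, rfl⟩), fun x hx => ?_, ?_⟩
    · obtain ⟨c, rfl⟩ := Submodule.mem_span_singleton.mp hx
      rw [QuadraticMap.map_smul, hval, ← hs]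
      simp
    · rw [finrank_span_singleton fun e => one_ne_zero (hindep _ _ e).2, hd]

/-- Orthogonal planes and the product of reflections. -/
theorem quarter_decomp (h2 : (2 : F) ≠ 0) {T : Module.End F V} (hiso : ∀ v, Q (T v) = Q v)
    (hT : ∀ v, T (T v) = -v) (e : ℕ) : ∀ U : Submodule F V, Inv T U → ND (polarBilin Q) U → finrank F U = 2 * e →
      (Plus Q U ↔ (IsSquare (-1 : F) ∨ Even e)) ∧
      ∃ vs : List V, (∀ v ∈ vs, Q v ≠ 0 ∧ v ∈ U) ∧ vs.length = 2 * e ∧
        (∃ s : F, s ≠ 0 ∧ (vs.map fun v => Q v).prod = 2 ^ e * (s * s)) ∧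
        ∀ u ∈ U, (vs.map (reflMap Q)).prod u = T u := by
  induction e with
  | zero =>
    intro U _ _ hd
    have hU : U = ⊥ := Submodule.finrank_eq_zero.mp (by omega)
    refine ⟨iff_of_true ⟨⊥, bot_le, fun u hu => by rw [(Submodule.mem_bot F).mp hu, QuadraticMap.map_zero], by
      rw [finrank_bot, hd]⟩ (Or.inr Even.zero), [], by simp, rfl, ⟨1, one_ne_zero, by simp⟩, fun u hu => ?_⟩
    rw [hU, Submodule.mem_bot] at hu
    rw [hu, map_zero, map_zero]
  | succ e ih =>
    intro U hUT hUn hUd
    obtain ⟨v, hvU, hv⟩ := exists_aniso hUn fun h => by rw [h, finrank_bot] at hUd; omega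
    obtain ⟨hp, hPn, hPd, hPp⟩ := quarter_plane h2 hiso hT hv
    set P := Submodule.span F {v, T v} with hP
    have hPU : P ≤ U := Submodule.span_le.mpr (by
      rintro x (rfl | rfl)
      · exact hvU
      · exact hUT v hvU)
    have hPT : Inv T P := fun x hx => by
      obtain ⟨a, b, rfl⟩ := Submodule.mem_span_pair.mp hx
      rw [map_add, map_smul, map_smul, hT]
      exact Submodule.mem_span_pair.mpr ⟨-b, a, by rw [neg_smul, smul_neg]; abel⟩
    have hrefl : (polarBilin Q).IsRefl := fun x y hxy => by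
      show polar Q y x = 0
      rw [polar_comm]; exact hxy
    obtain ⟨hRn, -, hsup, hRd⟩ := split_perpIn hrefl hPU hPn hUn
    set R := perpIn (polarBilin Q) P U
    have hRT : Inv T R := fun x hx => ⟨hUT x hx.1, fun y hy => by
      show polar Q y (T x) = 0
      have h : polar Q (T (T y)) (T x) = polar Q (T y) x := by simp only [polar, ← map_add, hiso]
      rw [hT, polar_neg_left, show polar Q (T y) x = 0 from hx.2 _ (hPT y hy), neg_eq_zero] at h
      exact h⟩
    obtain ⟨hRp, vs, hvs, hlen, ⟨s, hs, hprod⟩, hmap⟩ := ih R hRT hRn (by omega)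
    refine ⟨?_, (v + T v) :: v :: vs, ?_, by simp [hlen]; ring, ⟨s * Q v, mul_ne_zero hs hv, ?_⟩, fun u hu => ?_⟩
    · rw [← hsup, plus_sup_iff hPn hRn (fun y hy z hz => hz.2 y hy) ⟨1, hPd⟩ ⟨e, by omega⟩, hPp, hRp,
        Nat.even_add_one]
      by_cases h1 : IsSquare (-1 : F) <;> simp [h1]
    · intro w hw
      rcases List.mem_cons.mp hw with rfl | hw
      · refine ⟨?_, add_mem hvU (hUT v hvU)⟩
        rw [q_add, hiso, hp, add_zero, ← two_mul]
        exact mul_ne_zero h2 hv
      rcases List.mem_cons.mp hw with rfl | hw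
      · exact ⟨hv, hvU⟩
      · exact ⟨(hvs w hw).1, (hvs w hw).2.1⟩
    · rw [List.map_cons, List.map_cons, List.prod_cons, List.prod_cons, hprod, q_add, hiso, hp]
      ring
    · obtain ⟨a, ha, b, hb, rfl⟩ := Submodule.mem_sup.mp (hsup.ge hu)
      rw [List.map_cons, List.map_cons, List.prod_cons, List.prod_cons, Module.End.mul_apply, Module.End.mul_apply,
        map_add, prod_fix vs a (fun w hw => by rw [polar_comm]; exact (hvs w hw).2.2 a ha), hmap b hb, map_add,
        map_add]
      have hvP : v ∈ P := Submodule.subset_span (by simp)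
      have hwP : v + T v ∈ P := add_mem hvP (Submodule.subset_span (by simp))
      rw [reflMap_fix ((hRT b hb).2 v hvP), reflMap_fix ((hRT b hb).2 _ hwP), map_add]
      congr 1
      obtain ⟨x, y, rfl⟩ := Submodule.mem_span_pair.mp ha
      have e1 : reflMap Q v v = -v := by
        rw [reflMap_apply, polar_self, nsmul_eq_mul, Nat.cast_ofNat, mul_div_assoc, div_self hv, mul_one, two_smul]
        abel
      have e2 : reflMap Q v (T v) = T v := reflMap_fix hp
      have hw2 : Q (v + T v) = 2 * Q v := by rw [q_add, hiso, hp, add_zero, two_mul]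
      have e3 : reflMap Q (v + T v) v = -T v := by
        rw [reflMap_apply, hw2, polar_add_left, polar_self, polar_comm Q (T v) v, hp, add_zero, nsmul_eq_mul,
          Nat.cast_ofNat, div_self (mul_ne_zero h2 hv), one_smul]
        abel
      have e4 : reflMap Q (v + T v) (T v) = -v := by
        rw [reflMap_apply, hw2, polar_add_left, hp, polar_self, hiso, zero_add, nsmul_eq_mul,
          Nat.cast_ofNat, div_self (mul_ne_zero h2 hv), one_smul]
        abel
      simp only [map_add, map_smul, e1, e2, map_neg, e3, e4, neg_neg, hT]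

/-- The model with square `-1`. -/
theorem exists_quarter (h2 : (2 : F) ≠ 0) (hQ : ND (polarBilin Q) (⊤ : Submodule F V)) {d : ℕ}
    (hn : finrank F V = 2 * d) (ht : Plus Q (⊤ : Submodule F V) ↔ (IsSquare (-1 : F) ∨ Even d)) :
    ∃ T : Module.End F V, (∀ v, Q (T v) = Q v) ∧ ∀ v, T (T v) = -v := by
  classical
  let Q₁ : QuadraticForm F (Fin d → F) := ∑ j, QuadraticMap.proj j j
  let Q' : QuadraticForm F ((Fin d → F) × (Fin d → F)) := Q₁.prod Q₁
  have hQ₁ : ∀ a, Q₁ a = ∑ j, a j * a j := fun a => by simp [Q₁]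
  let J : Module.End F ((Fin d → F) × (Fin d → F)) := (-(LinearMap.snd F _ _)).prod (LinearMap.fst F _ _)
  have hJ : ∀ v, J v = (-v.2, v.1) := fun v => rfl
  have hJi : ∀ v, Q' (J v) = Q' v := fun v => by
    simp only [Q', hJ, QuadraticMap.prod_apply, QuadraticMap.map_neg]
    ring
  have hJJ : ∀ v, J (J v) = -v := fun v => by simp [hJ, Prod.ext_iff]
  have hpol : ∀ u v : Fin d → F, polar Q₁ u v = 2 * ∑ j, u j * v j := fun u v => by
    simp only [polar, hQ₁, Pi.add_apply, Finset.mul_sum, ← Finset.sum_sub_distrib]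
    exact Finset.sum_congr rfl fun j _ => by ring
  have hnd : ND (polarBilin Q') (⊤ : Submodule F ((Fin d → F) × (Fin d → F))) := fun u _ hu => by
    have key : ∀ w : (Fin d → F) × (Fin d → F), 2 * (∑ j, u.1 j * w.1 j) + 2 * (∑ j, u.2 j * w.2 j) = 0 := fun w => by
      have e : polar Q' u w = 0 := hu w trivial
      rw [← hpol, ← hpol, ← e]
      simp only [polar, Q', QuadraticMap.prod_apply, Prod.fst_add, Prod.snd_add]
      ring
    refine Prod.ext (funext fun l => ?_) (funext fun l => ?_)
    · have e := key (Pi.single l 1, 0)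
      simpa [Pi.single_apply, h2] using e
    · have e := key (0, Pi.single l 1)
      simpa [Pi.single_apply, h2] using e
  have hd' : finrank F (⊤ : Submodule F ((Fin d → F) × (Fin d → F))) = 2 * d := by
    rw [finrank_top, Module.finrank_prod, Module.finrank_fin_fun]; omega
  obtain ⟨hp, -⟩ := quarter_decomp h2 hJi hJJ d ⊤ inv_top hnd hd'
  obtain ⟨φ, hφ⟩ := exists_iso_of_type hnd hQ hd' (by rw [finrank_top, hn]) (hp.trans ht.symm)
  let E : ((Fin d → F) × (Fin d → F)) ≃ₗ[F] V :=
    ((Submodule.topEquiv.symm).trans φ).trans Submodule.topEquiv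
  have hE : ∀ v, Q (E v) = Q' v := fun v => hφ ⟨v, trivial⟩
  refine ⟨E.conjAlgEquiv F J, fun v => ?_, fun v => ?_⟩
  · show Q (E (J (E.symm v))) = Q v
    rw [hE, hJi, ← hE, E.apply_symm_apply]
  · show E (J (E.symm (E (J (E.symm v))))) = -v
    rw [E.symm_apply_apply, hJJ, map_neg, E.apply_symm_apply]

section Coord

variable {ι : Type} [Fintype ι] [DecidableEq ι]

/-- Membership in the derived group of an element with square `-1`. -/
theorem quarter_omega_iff (h2 : (2 : F) ≠ 0) (Q : QuadraticForm F (ι → F))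
    (hQ : ND (polarBilin Q) (⊤ : Submodule F (ι → F))) {d : ℕ} (hd : 1 ≤ d) (hn : Fintype.card ι = 2 * d)
    {x : GL ι F} (hx : x ∈ Cfsg.isometryGroup F ⇑Q) (hxx : ∀ v, (x : Matrix ι ι F) *ᵥ ((x : Matrix ι ι F) *ᵥ v) = -v) :
    x ∈ Cfsg.Geo.omegaGL ⇑Q ↔ IsSquare ((2 : F) ^ d) := by
  classical
  have hdim : finrank F (⊤ : Submodule F (ι → F)) = 2 * d := by
    rw [finrank_top, Module.finrank_fintype_fun_eq_card, hn]
  obtain ⟨-, vs, hvs, hlen, ⟨s, hs, hprod⟩, hmap⟩ := quarter_decomp h2 (T := Matrix.toLin' (x : Matrix ι ι F))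
    (fun v => by rw [Matrix.toLin'_apply]; exact hx v v)
    (fun v => by rw [Matrix.toLin'_apply, Matrix.toLin'_apply, hxx]) d ⊤ inv_top hQ hdim
  have hrefl : ∀ (l : List (ι → F)) (u : ι → F),
      (l.map fun v => Cfsg.reflectionMatrix (⇑Q) v).prod *ᵥ u = (l.map (reflMap Q)).prod u := by
    intro l
    induction l with
    | nil => intro u; simp
    | cons a t ih =>
      intro u
      rw [List.map_cons, List.map_cons, List.prod_cons, List.prod_cons, ← Matrix.mulVec_mulVec, ih,
        Module.End.mul_apply, CfsgLib.PolarVec.reflection_mulVec, reflMap_apply, div_eq_inv_mul, neg_smul, ← sub_eq_add_neg]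
  have hg : x.1 = (vs.map fun v => Cfsg.reflectionMatrix (⇑Q) v).prod := by
    refine Matrix.toLin'.injective (LinearMap.ext fun u => ?_)
    rw [Matrix.toLin'_apply (vs.map _).prod, hrefl, hmap u trivial]
  have hiff := CfsgLib.OmegaMem.omega_iff_prod Q h2 (by omega) (nondeg_of hQ) ⟨x, hx⟩ vs
    (fun v hv => (hvs v hv).1) hg
  have hsq : IsSquare ((vs.map fun v => Q v).prod) ↔ IsSquare ((2 : F) ^ d) := by
    rw [hprod]
    constructor
    · rintro ⟨t, ht⟩
      exact ⟨t / s, by field_simp; linear_combination ht⟩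
    · rintro ⟨t, ht⟩
      exact ⟨t * s, by linear_combination (s * s) * ht⟩
  constructor
  · rintro ⟨g, hgo, hgx⟩
    exact hsq.mp (hiff.mp (by rwa [show (⟨x, hx⟩ : Cfsg.isometryGroup F ⇑Q) = g from Subtype.ext hgx.symm])).2
  · intro h
    exact ⟨⟨x, hx⟩, hiff.mpr ⟨⟨d, by omega⟩, hsq.mpr h⟩, rfl⟩

/-- When an element of the derived group has square `-1`. -/
theorem exists_omega_quarter_iff (h2 : (2 : F) ≠ 0) (Q : QuadraticForm F (ι → F))
    (hQ : ND (polarBilin Q) (⊤ : Submodule F (ι → F))) {d : ℕ} (hd : 1 ≤ d) (hn : Fintype.card ι = 2 * d) :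
    (∃ x ∈ Cfsg.Geo.omegaGL ⇑Q, ∀ v, (x : Matrix ι ι F) *ᵥ ((x : Matrix ι ι F) *ᵥ v) = -v) ↔
      (IsSquare ((2 : F) ^ d) ∧ (Plus Q (⊤ : Submodule F (ι → F)) ↔ (IsSquare (-1 : F) ∨ Even d))) := by
  have hdim : finrank F (⊤ : Submodule F (ι → F)) = 2 * d := by
    rw [finrank_top, Module.finrank_fintype_fun_eq_card, hn]
  constructor
  · rintro ⟨x, hx, hxx⟩
    have hxi : x ∈ Cfsg.isometryGroup F ⇑Q := fun u _ => omegaGL_le hx u
    obtain ⟨hp, -⟩ := quarter_decomp h2 (T := Matrix.toLin' (x : Matrix ι ι F))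
      (fun v => by rw [Matrix.toLin'_apply]; exact omegaGL_le hx v)
      (fun v => by rw [Matrix.toLin'_apply, Matrix.toLin'_apply, hxx]) d ⊤ inv_top hQ hdim
    exact ⟨(quarter_omega_iff h2 Q hQ hd hn hxi hxx).mp hx, hp⟩
  · rintro ⟨hsq, ht⟩
    obtain ⟨T, hiso, hTT⟩ := exists_quarter h2 hQ (by rwa [finrank_top] at hdim) ht
    have h4 : T ^ 4 = 1 := LinearMap.ext fun v => by
      show T (T (T (T v))) = v
      rw [hTT, hTT, neg_neg]
    obtain ⟨x, hxT, -⟩ := exists_gl T (by norm_num : 0 < 4) h4
    subst hxT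
    have hxx : ∀ v, (x : Matrix ι ι F) *ᵥ ((x : Matrix ι ι F) *ᵥ v) = -v := fun v => by
      rw [← Matrix.toLin'_apply, ← Matrix.toLin'_apply]; exact hTT v
    have hxi : x ∈ Cfsg.isometryGroup F ⇑Q := fun u _ => by
      have := hiso u
      rwa [Matrix.toLin'_apply] at this
    exact ⟨x, (quarter_omega_iff h2 Q hQ hd hn hxi hxx).mpr hsq, hxx⟩

end Coord

end CfsgLib.OrthIso
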