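/-
Elements of order `p` of even-dimensional quadratic spaces fixing no subspace of a given odd-dimensional class.
-/
import Cfsg.Agent.Lib.OrthIso.Class
import Cfsg.Agent.Lib.OrthIso.OddModels

set_option autoImplicit false
set_option linter.unusedSectionVars false
set_option maxHeartbeats 1000000

namespace CfsgLib.OrthIso

open Module Polynomial QuadraticMap CfsgLib.PrimeIso CfsgLib.MaxSub.Elusive CfsgLib.StdQuadForms
open scoped Matrix

universe u v

variable {F : Type u} [Field F] [Fintype F] {V : Type v} [AddCommGroup V] [Module F V] [FiniteDimensional F V]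
  {Q : QuadraticForm F V} {p : ℕ} [Fact p.Prime] [CharP F p]

theorem refl_bilin : (polarBilin Q).IsRefl := fun x y hxy => by
  show polar Q y x = 0
  rw [polar_comm]; exact hxy

theorem finrank_even_of_alt (h2 : (2 : F) ≠ 0) {U : Type v} [AddCommGroup U] [Module F U] [FiniteDimensional F U]
    (β : U →ₗ[F] U →ₗ[F] F) (halt : ∀ x, β x x = 0) (hnd : ∀ x, (∀ y, β x y = 0) → x = 0) :
    Even (finrank F U) := by
  classical
  by_contra ho
  let b := Module.finBasis F U
  set G := Matrix.of fun i j => β (b i) (b j)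
  have hG : Gᵀ = -G := Matrix.ext fun i j => by
    have h := halt (b i + b j)
    simp only [map_add, LinearMap.add_apply, halt, zero_add, add_zero] at h
    show β (b j) (b i) = -β (b i) (b j)
    linear_combination h
  have hdet : G.det = 0 := by
    have h := Matrix.det_transpose G
    rw [hG, Matrix.det_neg, Fintype.card_fin, (Nat.not_even_iff_odd.mp ho).neg_one_pow] at h
    exact (mul_eq_zero.mp (show (2 : F) * G.det = 0 by linear_combination -h)).resolve_left h2
  obtain ⟨v, hv0, hv⟩ := Matrix.exists_vecMul_eq_zero_iff.mpr hdet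
  refine hv0 (funext fun i => ?_)
  have hx : ∑ j, v j • b j = 0 := hnd _ fun y => by
    have hb : β (∑ j, v j • b j) = 0 := b.ext fun l => by
      have := congrFun hv l
      simp only [Matrix.vecMul, dotProduct, G, Matrix.of_apply, Pi.zero_apply] at this
      simpa [LinearMap.sum_apply] using this
    rw [hb, LinearMap.zero_apply]
  exact Fintype.linearIndependent_iff.mp b.linearIndependent v hx i

/-- A maximal singular subspace and an anisotropic vector orthogonal to it. -/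
theorem exists_frame (hp2 : p ≠ 2) {Z : Submodule F V} (hZ : ND (polarBilin Q) Z) {a : ℕ}
    (hd : finrank F Z = 2 * a + 1) :
    ∃ S ≤ Z, (∀ x ∈ S, Q x = 0) ∧ finrank F S = a ∧ ∃ g ∈ perpIn (polarBilin Q) S Z, Q g ≠ 0 := by
  have h2 := two_ne (F := F) hp2
  obtain ⟨e, f, h⟩ := CfsgLib.FiniteForms.exists_hypFam a Z (Q.comp Z.subtype) (pn_restrict hZ) (by omega)
  have hP := h.finrank_famPerp
  obtain ⟨g, hg, hQg⟩ := exists_aniso (Q := Q.comp Z.subtype)
    (U := CfsgLib.FiniteForms.famPerp (Q.comp Z.subtype) e f)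
    (fun x hx hp => h.famPerp_nondeg (pn_restrict hZ) hx hp) (fun hb => by rw [hb, finrank_bot] at hP; omega)
  refine ⟨(Submodule.span F (Set.range e)).map Z.subtype, Submodule.map_subtype_le _ _, ?_, ?_, (g : V),
    ⟨g.2, ?_⟩, hQg⟩
  · rintro _ ⟨x, hx, rfl⟩
    obtain ⟨c, rfl⟩ := Submodule.mem_span_range_iff_exists_fun F |>.mp hx
    exact CfsgLib.FiniteForms.quad_sum_eq_zero _ c e h.qe h.ee
  · rw [Submodule.finrank_map_subtype_eq,
      finrank_span_eq_card (b := e) (h.linearIndependent.comp Sum.inl Sum.inl_injective), Fintype.card_fin]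
  · rintro _ ⟨x, hx, rfl⟩
    obtain ⟨c, rfl⟩ := Submodule.mem_span_range_iff_exists_fun F |>.mp hx
    show polar Q ((∑ j, c j • e j : Z) : V) (g : V) = 0
    have h' : polarBilin (Q.comp Z.subtype) (∑ j, c j • e j) g = 0 := by
      simp [map_sum, LinearMap.sum_apply, polarBilin_apply_apply, (CfsgLib.FiniteForms.mem_famPerp.mp hg).1]
    rwa [polarBilin_apply_apply, polar_comp] at h'

/-- The value of a frame is determined up to squares. -/
theorem frame_value {Z : Submodule F V} (hZ : ND (polarBilin Q) Z) {a : ℕ} (hd : finrank F Z = 2 * a + 1)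
    {S S' : Submodule F V} (hS : S ≤ Z) (hS' : S' ≤ Z) (hSts : ∀ x ∈ S, Q x = 0) (hSts' : ∀ x ∈ S', Q x = 0)
    (hSd : finrank F S = a) (hSd' : finrank F S' = a) {g g' : V} (hg : g ∈ perpIn (polarBilin Q) S Z)
    (hg' : g' ∈ perpIn (polarBilin Q) S' Z) (hQg : Q g ≠ 0) : ∃ t : F, Q g' = t * t * Q g := by
  classical
  have hnd : (polarBilin (Q.comp Z.subtype)).Nondegenerate :=
    nondeg_of (Q := Q.comp Z.subtype) fun x _ hx => pn_restrict hZ x fun y => hx y trivial
  let X := S.comap Z.subtype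
  let e := LinearEquiv.ofFinrankEq X (S'.comap Z.subtype) (by
    rw [(Submodule.comapSubtypeEquivOfLe hS).finrank_eq, (Submodule.comapSubtypeEquivOfLe hS').finrank_eq, hSd, hSd'])
  obtain ⟨φ, hφ, hφX⟩ := CfsgLib.WittExtension.quad_extend (Q.comp Z.subtype) hnd X
    ((S'.comap Z.subtype).subtype.comp e.toLinearMap) (Subtype.val_injective.comp e.injective) (fun x => by
      show Q ((e x : Z) : V) = Q ((x : Z) : V)
      exact (hSts' _ (e x).2).trans (hSts _ x.2).symm)
  set h := (φ ⟨g, hg.1⟩ : V) with hh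
  have hQh : Q h = Q g := hφ _
  have hperp : ∀ y ∈ S', polar Q y h = 0 := fun y hy => by
    obtain ⟨x, hx⟩ := e.surjective ⟨⟨y, hS' hy⟩, hy⟩
    have h1 : φ (x : Z) = ⟨y, hS' hy⟩ := (hφX x).trans (congrArg Subtype.val hx)
    have h3 : polar (Q.comp Z.subtype) (φ (x : Z)) (φ ⟨g, hg.1⟩) = polar (Q.comp Z.subtype) (x : Z) ⟨g, hg.1⟩ := by
      simp only [polar, ← map_add, hφ]
    rw [h1, polar_comp, polar_comp] at h3
    show polar Q ((⟨y, hS' hy⟩ : Z) : V) ((φ ⟨g, hg.1⟩ : Z) : V) = 0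
    exact h3.trans (hg.2 (x : Z) x.2)
  have hhP : h ∈ perpIn (polarBilin Q) S' Z := ⟨(φ ⟨g, hg.1⟩).2, hperp⟩
  have hS'P : S' ≤ perpIn (polarBilin Q) S' Z := fun x hx => ⟨hS' hx, fun y hy => by
    show polar Q y x = 0
    simp [polar, hSts' x hx, hSts' y hy, hSts' _ (add_mem hy hx)]⟩
  -- the orthogonal has dimension one more
  have hPd : finrank F (perpIn (polarBilin Q) S' Z) = a + 1 := by
    let L : Z →ₗ[F] Module.Dual F S' := ((polarBilin Q).compl₂ Z.subtype).flip.compl₂ S'.subtype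
    have hLs : Function.Surjective L := by
      rw [← LinearMap.range_eq_top]
      refine Submodule.eq_top_of_finrank_eq ?_
      have hinj : Function.Injective ((polarBilin Q).compl₂ Z.subtype ∘ₗ S'.subtype) :=
        (injective_iff_map_eq_zero _).mpr fun x hx => Subtype.ext (hZ x (hS' x.2) fun y hy =>
          LinearMap.congr_fun hx ⟨y, hy⟩)
      have hfl : L = ((polarBilin Q).compl₂ Z.subtype ∘ₗ S'.subtype).flip := LinearMap.ext fun z => LinearMap.ext fun s => rfl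
      rw [hfl]
      have h4 := LinearMap.finrank_range_dualMap_eq_finrank_range ((polarBilin Q).compl₂ Z.subtype ∘ₗ S'.subtype)
      rw [LinearMap.finrank_range_of_inj hinj] at h4
      rw [Subspace.dual_finrank_eq]
      have h5 : ((polarBilin Q).compl₂ Z.subtype ∘ₗ S'.subtype).flip =
          ((polarBilin Q).compl₂ Z.subtype ∘ₗ S'.subtype).dualMap ∘ₗ (Module.Dual.eval F Z) :=
        LinearMap.ext fun z => LinearMap.ext fun s => rfl
      rw [h5, LinearMap.range_comp_of_range_eq_top _ (LinearMap.range_eq_top.mpr (Module.bijective_dual_eval F Z).2), h4]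
    have hk : (LinearMap.ker L).map Z.subtype = perpIn (polarBilin Q) S' Z := by
      ext z
      constructor
      · rintro ⟨x, hx, rfl⟩
        exact ⟨x.2, fun y hy => LinearMap.congr_fun hx ⟨y, hy⟩⟩
      · rintro ⟨hz, hp⟩
        exact ⟨⟨z, hz⟩, LinearMap.ext fun s => hp s.1 s.2, rfl⟩
    have h6 := LinearMap.finrank_range_add_finrank_ker L
    rw [LinearMap.range_eq_top.mpr hLs, finrank_top, Subspace.dual_finrank_eq, hSd', hd] at h6
    rw [← hk, Submodule.finrank_map_subtype_eq]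
    omega
  have hh0 : h ∉ S' := fun h' => hQg (hQh ▸ hSts' h h')
  have hsup : S' ⊔ Submodule.span F {h} = perpIn (polarBilin Q) S' Z := by
    refine Submodule.eq_of_le_of_finrank_le (sup_le hS'P ((Submodule.span_singleton_le_iff_mem _ _).mpr hhP)) ?_
    have h7 : S' < S' ⊔ Submodule.span F {h} := lt_of_le_of_ne le_sup_left fun e' =>
      hh0 (e'.symm ▸ Submodule.mem_sup_right (Submodule.mem_span_singleton_self h))
    have := Submodule.finrank_lt_finrank_of_lt h7
    omega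
  obtain ⟨z, hz, w, hw, hzw⟩ := Submodule.mem_sup.mp (hsup.ge hg')
  obtain ⟨t, rfl⟩ := Submodule.mem_span_singleton.mp hw
  refine ⟨t, ?_⟩
  rw [← hzw, q_add, hSts' z hz, polar_smul_right, hperp z hz, QuadraticMap.map_smul, hQh, smul_zero, add_zero,
    zero_add, smul_eq_mul]

/-- A unipotent isometry supported on an odd-dimensional subspace. -/
theorem unipotent_block (hp2 : p ≠ 2) (hQ : ND (polarBilin Q) (⊤ : Submodule F V)) {X : Submodule F V}
    (hX : ND (polarBilin Q) X) {a : ℕ} (ha : 1 ≤ a) (hd : finrank F X = 2 * a + 1) :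
    ∃ T : Module.End F V, (∀ v, Q (T v) = Q v) ∧ T ^ p = 1 ∧ (∀ x ∈ X, T x ∈ X) ∧
      (∀ v ∈ perpIn (polarBilin Q) X ⊤, T v = v) ∧
      (∃ S ≤ X, finrank F S = a ∧ S ≤ LinearMap.range (T - 1) ⊓ LinearMap.ker (T - 1)) ∧
      (T - 1) ^ 3 = 0 ∧ (Even a → (T - 1) ^ 2 = 0) ∧
      (Odd a → ∃ z : V, z ≠ 0 ∧ (∃ x ∈ X, ((T - 1) ^ 2 : Module.End F V) x = z) ∧ ∀ v, ∃ t : F, ((T - 1) ^ 2 : Module.End F V) v = t • z) := by
  classical
  have h2 := two_ne (F := F) hp2
  obtain ⟨e, c, hc, he⟩ := odd_similar (d := a) (p := p) hp2 (Q.comp X.subtype) (pn_restrict hX) hd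
  obtain ⟨Y, hY, hYp, hN3, hN2, hNz, hJ⟩ : ∃ Y : Module.End F (Unit ⊕ (Fin a ⊕ Fin a) → F),
      (∀ v, Qo a (Y v) = Qo a v) ∧ Y ^ p = 1 ∧ (Y - 1) ^ 3 = 0 ∧ (Even a → (Y - 1) ^ 2 = 0) ∧
      (Odd a → ∃ z : Unit ⊕ (Fin a ⊕ Fin a) → F, z ≠ 0 ∧ (∃ x, ((Y - 1) ^ 2 : Module.End F (Unit ⊕ (Fin a ⊕ Fin a) → F)) x = z) ∧
        ∀ v, ∃ t : F, ((Y - 1) ^ 2 : Module.End F (Unit ⊕ (Fin a ⊕ Fin a) → F)) v = t • z) ∧
      a ≤ finrank F ↥(LinearMap.range (Y - 1) ⊓ LinearMap.ker (Y - 1)) := unipotent_model hp2 ha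
  obtain ⟨T, hT, hTn, hTφ, hTP⟩ := exists_transport hQ hX (Q' := c⁻¹ • Qo a) e.symm
    (fun m => by
      show (Q.comp X.subtype) (e.symm m) = _
      rw [_root_.smul_apply, smul_eq_mul]
      have := he (e.symm m)
      rw [e.apply_symm_apply] at this
      rw [this, ← mul_assoc, inv_mul_cancel₀ hc, one_mul]) Y
    (fun m => by rw [_root_.smul_apply, _root_.smul_apply, hY])
  let j : (Unit ⊕ (Fin a ⊕ Fin a) → F) →ₗ[F] V := X.subtype.comp e.symm.toLinearMap
  have hji : Function.Injective j := Subtype.val_injective.comp e.symm.injective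
  have hjT : ∀ n m, ((T - 1) ^ n : Module.End F V) (j m) =
      j (((Y - 1) ^ n : Module.End F (Unit ⊕ (Fin a ⊕ Fin a) → F)) m) := by
    intro n
    induction n with
    | zero => intro m; rfl
    | succ n ih =>
      intro m
      rw [pow_succ, pow_succ, Module.End.mul_apply, Module.End.mul_apply, ← ih]
      congr 1
      show T (j m) - j m = j (Y m - m)
      rw [map_sub]
      exact congrArg (· - j m) (hTφ m)
  have hmemj : ∀ x ∈ X, ∃ m, j m = x := fun x hx => ⟨e ⟨x, hx⟩, by simp [j]⟩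
  have hsplit : ∀ v : V, ∃ m, ∃ w ∈ perpIn (polarBilin Q) X ⊤, j m + w = v := fun v => by
    obtain ⟨-, -, hsup, -⟩ := split_perpIn refl_bilin le_top hX hQ
    obtain ⟨x, hx, w, hw, hxw⟩ := Submodule.mem_sup.mp (hsup.ge (Submodule.mem_top (x := v)))
    obtain ⟨m, rfl⟩ := hmemj x hx
    exact ⟨m, w, hw, hxw⟩
  have hN : ∀ n, 0 < n → ∀ v, ∃ m, ((T - 1) ^ n : Module.End F V) v =
      j (((Y - 1) ^ n : Module.End F (Unit ⊕ (Fin a ⊕ Fin a) → F)) m) := fun n hn v => by
    obtain ⟨m, w, hw, rfl⟩ := hsplit v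
    refine ⟨m, ?_⟩
    obtain ⟨k, rfl⟩ : ∃ k, n = k + 1 := ⟨n - 1, by omega⟩
    have hw0 : ((T - 1) ^ (k + 1) : Module.End F V) w = 0 := by
      rw [pow_succ, Module.End.mul_apply, show (T - 1) w = 0 from sub_eq_zero.mpr (hTP w hw), map_zero]
    rw [map_add, hjT, hw0, add_zero]
  refine ⟨T, hT, hTn p hYp, fun x hx => ?_, hTP, ?_, ?_, fun hev => ?_, fun hod => ?_⟩
  · obtain ⟨m, rfl⟩ := hmemj x hx
    show T ((e.symm m : V)) ∈ X
    rw [hTφ]
    exact (e.symm _).2
  · obtain ⟨f, hf⟩ := exists_linearIndependent_of_le_finrank (R := F) hJ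
    obtain ⟨S₀, hS₀, hS₀d⟩ : ∃ S₀ ≤ LinearMap.range (Y - 1) ⊓ LinearMap.ker (Y - 1), finrank F S₀ = a :=
      ⟨(Submodule.span F (Set.range f)).map (Submodule.subtype _), Submodule.map_subtype_le _ _, by
        rw [Submodule.finrank_map_subtype_eq, finrank_span_eq_card hf, Fintype.card_fin]⟩
    refine ⟨S₀.map j, ?_, by rw [← (Submodule.equivMapOfInjective j hji S₀).finrank_eq, hS₀d], ?_⟩
    · rintro _ ⟨s, -, rfl⟩; exact (e.symm s).2
    · rintro _ ⟨s, hs, rfl⟩
      obtain ⟨⟨w, hw⟩, hk⟩ := hS₀ hs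
      refine ⟨⟨j w, ?_⟩, ?_⟩
      · have := hjT 1 w
        rw [pow_one, pow_one, hw] at this
        exact this
      · have := hjT 1 s
        rw [pow_one, pow_one, show (Y - 1) s = 0 from hk, map_zero] at this
        exact this
  · refine LinearMap.ext fun v => ?_
    obtain ⟨m, hm⟩ := hN 3 (by norm_num) v
    rw [hm, hN3]
    simp
  · refine LinearMap.ext fun v => ?_
    obtain ⟨m, hm⟩ := hN 2 two_pos v
    rw [hm, hN2 hev]
    simp
  · obtain ⟨z, hz, ⟨x, hx⟩, hall⟩ := hNz hod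
    refine ⟨j z, fun h0 => hz (hji (by rw [h0, map_zero])), ⟨j x, (e.symm x).2, by rw [hjT, hx]⟩, fun v => ?_⟩
    obtain ⟨m, hm⟩ := hN 2 two_pos v
    obtain ⟨t, ht⟩ := hall m
    exact ⟨t, by rw [hm, ht, map_smul]⟩

/-- Invariants of an invariant subspace of odd dimension with a large singular part. -/
theorem sub_invariants (hp2 : p ≠ 2) (hQ : ND (polarBilin Q) (⊤ : Submodule F V)) {d s : ℕ}
    (hn : finrank F V = 2 * d) (hs : s < d) {T : Module.End F V} (hiso : ∀ v, Q (T v) = Q v) (hper : T ^ p = 1)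
    (hN3 : (T - 1) ^ 3 = 0)
    (hS : d - 1 ≤ finrank F ↥(LinearMap.range (T - 1) ⊓ LinearMap.ker (T - 1))) {W : Submodule F V} (hW : Inv T W)
    (hWn : ND (polarBilin Q) W) (hWd : finrank F W = 2 * s + 1) :
    Inv T (perpIn (polarBilin Q) W ⊤) ∧ (Even s → ∀ w ∈ W, ((T - 1) ^ 2 : Module.End F V) w = 0) ∧
      (Odd s → ∀ w ∈ W, ((T - 1) ^ 2 : Module.End F V) w ≠ 0 → ∃ S ≤ W, (∀ x ∈ S, Q x = 0) ∧ finrank F S = s ∧
        (T - 1) w ∈ perpIn (polarBilin Q) S W ∧ Q ((T - 1) w) ≠ 0) ∧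
      (Odd s → ∃ w ∈ W, ((T - 1) ^ 2 : Module.End F V) w ≠ 0) := by
  classical
  have h2 := two_ne (F := F) hp2
  have hB : ∀ x y, polar Q (T x) (T y) = polar Q x y := fun x y => by simp only [polar, ← map_add, hiso]
  have hsurj : W.map T = W := by
    have hTinj : Function.Injective T := (injective_iff_map_eq_zero T).mpr fun x hx => hQ x trivial fun y _ => by
      show polar Q x y = 0
      rw [← hB, hx, polar_zero_left]
    refine Submodule.eq_of_le_of_finrank_eq ?_ (Submodule.equivMapOfInjective T hTinj W).finrank_eq.symm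
    rintro _ ⟨x, hx, rfl⟩; exact hW x hx
  set W' := perpIn (polarBilin Q) W ⊤
  obtain ⟨hW'n, hinf, hsup, hd'⟩ := split_perpIn refl_bilin le_top hWn hQ
  have hW'T : Inv T W' := fun x hx => ⟨trivial, fun y hy => by
    obtain ⟨y', hy', rfl⟩ := hsurj.ge hy
    show polar Q (T y') (T x) = 0
    rw [hB]; exact hx.2 y' hy'⟩
  set N := T - 1 with hN
  have hNW : ∀ U : Submodule F V, Inv T U → ∀ x ∈ U, N x ∈ U := fun U hU x hx => sub_mem (hU x hx) hx
  have hTN : ∀ x, T x = x + N x := fun x => by simp [hN]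
  set S := LinearMap.range N ⊓ LinearMap.ker N with hSdef
  have hperpS : ∀ a z, z ∈ S → polar Q (N a) z = 0 := fun a z hz => by
    have hTz : T z = z := by rw [hTN, show N z = 0 from hz.2, add_zero]
    have h := hB a z
    rw [hTz, hTN a, polar_add_left] at h
    linear_combination h
  have hSts : ∀ x ∈ S, Q x = 0 := by
    rintro x hx
    obtain ⟨a, rfl⟩ := hx.1
    have h3 := hperpS a (N a) hx
    rw [polar_self, nsmul_eq_mul] at h3
    exact (mul_eq_zero.mp h3).resolve_left (by exact_mod_cast h2)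
  have hS' : S ≤ (S ⊓ W) ⊔ (S ⊓ W') := by
    rintro x ⟨⟨v, rfl⟩, hx⟩
    obtain ⟨a, ha, b, hb, rfl⟩ := Submodule.mem_sup.mp (hsup.ge (Submodule.mem_top (x := v)))
    have h0 : N (N a) + N (N b) = 0 := by rw [← map_add, ← map_add]; exact hx
    have hNNa := hNW W hW _ (hNW W hW a ha)
    have hNNb := hNW W' hW'T _ (hNW W' hW'T b hb)
    have ha' : N (N a) ∈ W ⊓ W' := ⟨hNNa, by rw [eq_neg_of_add_eq_zero_left h0]; exact neg_mem hNNb⟩
    rw [hinf, Submodule.mem_bot] at ha'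
    rw [map_add]
    refine Submodule.add_mem_sup ⟨⟨⟨a, rfl⟩, ha'⟩, hNW W hW a ha⟩ ⟨⟨⟨b, rfl⟩, ?_⟩, hNW W' hW'T b hb⟩
    rw [ha', zero_add] at h0
    exact h0
  have h1 := two_mul_plus_le hWn (inf_le_right : S ⊓ W ≤ W) fun x hx => hSts x hx.1
  have h3 : 2 * finrank F ↥(S ⊓ W') ≤ finrank F W' :=
    two_mul_plus_le hW'n (inf_le_right : S ⊓ W' ≤ W') fun x hx => hSts x hx.1
  have h4 := (Submodule.finrank_mono hS').trans (Submodule.finrank_add_le_finrank_add_finrank _ _)
  rw [finrank_top, hn] at hd'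
  change finrank F W + finrank F W' = 2 * d at hd'
  change d - 1 ≤ finrank F S at hS
  have hSW : finrank F ↥(S ⊓ W) = s := by omega
  -- `N` on `W`
  let NW : Module.End F W := N.restrict (hNW W hW)
  have hNWv : ∀ x : W, (NW x : V) = N (x : V) := fun x => rfl
  set Im := W.map N with hIm
  have hImW : Im ≤ W := by rintro _ ⟨x, hx, rfl⟩; exact hNW W hW x hx
  have hImP : Im ≤ perpIn (polarBilin Q) (S ⊓ W) W := fun z hz => ⟨hImW hz, fun y hy => by
    obtain ⟨x, -, rfl⟩ := hz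
    show polar Q y (N x) = 0
    rw [polar_comm]; exact hperpS x y hy.1⟩
  have hker : (LinearMap.ker N ⊓ Im) ≤ S ⊓ W := fun z hz => ⟨⟨by
    obtain ⟨x, -, rfl⟩ := hz.2; exact ⟨x, rfl⟩, hz.1⟩, hImW hz.2⟩
  -- the rank is even
  have hrank : Even (finrank F Im) := by
    let A : Module.End F V := T - T ^ (p - 1)
    have hAW : ∀ x ∈ W, A x ∈ W := fun x hx => sub_mem (hW x hx) (hW.pow _ x hx)
    have hTinv : ∀ x, T ((T ^ (p - 1)) x) = x := fun x => by
      rw [← Module.End.mul_apply, ← pow_succ', Nat.sub_add_cancel (Fact.out : p.Prime).one_le, hper,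
        Module.End.one_apply]
    have hAalt : ∀ x, polar Q (A x) x = 0 := fun x => by
      show polar Q (T x - (T ^ (p - 1)) x) x = 0
      rw [polar_sub_left]
      have e1 := hB ((T ^ (p - 1)) x) x
      rw [hTinv] at e1
      rw [polar_comm Q x (T x)] at e1
      rw [e1, sub_self]
    have hTAN : ∀ x, T (A x) = N (N x) + (2 : F) • N x := fun x => by
      show T (T x - (T ^ (p - 1)) x) = _
      rw [map_sub, hTinv, hTN x, map_add, hTN (N x), hTN x, two_smul]
      abel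
    have hkerA : ∀ x, A x = 0 ↔ N x = 0 := fun x => by
      constructor
      · intro h0
        have e := hTAN x
        rw [h0, map_zero] at e
        have e2 := congrArg N e
        have e3 : N (N (N x)) = 0 := LinearMap.congr_fun hN3 x
        rw [map_zero, map_add, map_smul, e3, zero_add] at e2
        have e4 : N (N x) = 0 := (smul_eq_zero.mp e2.symm).resolve_left h2
        rw [e4, zero_add] at e
        exact (smul_eq_zero.mp e.symm).resolve_left h2
      · intro h0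
        have hTx : T x = x := by rw [hTN, h0, add_zero]
        have hp : ∀ n : ℕ, (T ^ n) x = x := fun n => by
          induction n with
          | zero => rfl
          | succ n ih => rw [pow_succ, Module.End.mul_apply, hTx, ih]
        show T x - (T ^ (p - 1)) x = 0
        rw [hTx, hp, sub_self]
    obtain ⟨C, hC⟩ := (LinearMap.ker (A.restrict hAW)).exists_isCompl
    let β : C →ₗ[F] C →ₗ[F] F :=
      (polarBilin Q).compl₁₂ (A.comp (W.subtype.comp C.subtype)) (W.subtype.comp C.subtype)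
    have hC' : finrank F C = finrank F Im := by
      have e1 := Submodule.finrank_add_eq_of_isCompl hC
      have e2 := LinearMap.finrank_range_add_finrank_ker (N.comp W.subtype)
      have e3 : LinearMap.ker (N.comp W.subtype) = LinearMap.ker (A.restrict hAW) := by
        ext x
        rw [LinearMap.mem_ker, LinearMap.mem_ker]
        exact ⟨fun h0 => Subtype.ext ((hkerA _).mpr h0), fun h0 => (hkerA _).mp (congrArg Subtype.val h0)⟩
      rw [LinearMap.range_comp, Submodule.range_subtype, e3, ← hIm] at e2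
      omega
    rw [← hC']
    refine finrank_even_of_alt h2 β (fun x => hAalt _) fun x hx => ?_
    have hall : ∀ y : W, polar Q (A (x : W)) y = 0 := fun y => by
      obtain ⟨k, hk, c, hc, rfl⟩ := Submodule.mem_sup.mp (hC.sup_eq_top.ge (Submodule.mem_top (x := y)))
      have hk0 : A (k : V) = 0 := congrArg Subtype.val (LinearMap.mem_ker.mp hk)
      have hak : polar Q (A ((x : W) : V)) (k : V) = 0 := by
        have e := hAalt ((x : W) + (k : V))
        rw [map_add, hk0, add_zero, polar_add_right, hAalt, zero_add] at e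
        exact e
      rw [Submodule.coe_add, polar_add_right, hak, zero_add]
      exact hx ⟨c, hc⟩
    have hAx : A ((x : W) : V) = 0 := hWn _ (hAW _ (x : W).2) fun y hy => hall ⟨y, hy⟩
    have : (x : W) ∈ LinearMap.ker (A.restrict hAW) ⊓ C := ⟨LinearMap.mem_ker.mpr (Subtype.ext hAx), x.2⟩
    rw [hC.inf_eq_bot, Submodule.mem_bot] at this
    exact Subtype.ext this
  -- the image lies between the singular part and its orthogonal
  have hPd : finrank F (perpIn (polarBilin Q) (S ⊓ W) W) ≤ s + 1 := by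
    have hX : ∀ x ∈ S ⊓ W, ∀ y ∈ S ⊓ W, polarBilin Q x y = 0 := fun x hx y hy => by
      show polar Q x y = 0
      simp [polar, hSts x hx.1, hSts y hy.1, hSts _ (add_mem hx.1 hy.1)]
    have hinj : Function.Injective (((polarBilin Q).compl₂ W.subtype).comp (S ⊓ W).subtype) :=
      (injective_iff_map_eq_zero _).mpr fun x hx => Subtype.ext (hWn x x.2.2 fun y hy =>
        LinearMap.congr_fun hx ⟨y, hy⟩)
    set P := (perpIn (polarBilin Q) (S ⊓ W) W).comap W.subtype
    have hle : LinearMap.range (((polarBilin Q).compl₂ W.subtype).comp (S ⊓ W).subtype) ≤ P.dualAnnihilator := by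
      rintro _ ⟨x, rfl⟩
      rw [Submodule.mem_dualAnnihilator]
      exact fun y hy => hy.2 x x.2
    have e1 := Submodule.finrank_mono hle
    rw [LinearMap.finrank_range_of_inj hinj, hSW] at e1
    have e2 := Subspace.finrank_add_finrank_dualAnnihilator_eq P
    rw [(Submodule.comapSubtypeEquivOfLe perpIn_le).finrank_eq, hWd] at e2
    have e1' : s ≤ finrank F (Submodule.dualAnnihilator P) := e1
    linarith
  have hImle : finrank F Im ≤ s + 1 := (Submodule.finrank_mono hImP).trans hPd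
  have hSIm : S ⊓ W ≤ Im := by
    rintro z ⟨⟨⟨v, rfl⟩, -⟩, hzW⟩
    obtain ⟨a, ha, b, hb, rfl⟩ := Submodule.mem_sup.mp (hsup.ge (Submodule.mem_top (x := v)))
    have hb0 : N b ∈ W ⊓ W' := ⟨by
      have := sub_mem hzW (hNW W hW a ha)
      rwa [map_add, add_sub_cancel_left] at this, hNW W' hW'T b hb⟩
    rw [hinf, Submodule.mem_bot] at hb0
    exact ⟨a, ha, by rw [map_add, hb0, add_zero]⟩
  have hImge : s ≤ finrank F Im := hSW ▸ Submodule.finrank_mono hSIm
  refine ⟨hW'T, fun hev w hw => ?_, fun hod w hw hne => ?_, fun hod => ?_⟩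
  · have he : Im = S ⊓ W := (Submodule.eq_of_le_of_finrank_le hSIm (by
      obtain ⟨k, hk⟩ := hev
      obtain ⟨l, hl⟩ := hrank
      omega)).symm
    have : N w ∈ S ⊓ W := he.le ⟨w, hw, rfl⟩
    rw [pow_two, Module.End.mul_apply]
    exact this.1.2
  · rw [pow_two, Module.End.mul_apply] at hne
    refine ⟨S ⊓ W, inf_le_right, fun x hx => hSts x hx.1, hSW, hImP ⟨w, hw, rfl⟩, fun h0 => hne ?_⟩
    -- a singular vector of the orthogonal lies in the singular part
    by_contra hc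
    have hnotS : N w ∉ S ⊓ W := fun h' => hc h'.1.2
    set P := perpIn (polarBilin Q) (S ⊓ W) W
    have hX : ∀ x ∈ S ⊓ W, ∀ y ∈ S ⊓ W, polar Q x y = 0 := fun x hx y hy => by
      simp [polar, hSts x hx.1, hSts y hy.1, hSts _ (add_mem hx.1 hy.1)]
    have hts : ∀ x ∈ S ⊓ W ⊔ Submodule.span F {N w}, Q x = 0 := by
      intro x hx
      obtain ⟨y, hy, z, hz, rfl⟩ := Submodule.mem_sup.mp hx
      obtain ⟨t, rfl⟩ := Submodule.mem_span_singleton.mp hz
      rw [q_add, hSts y hy.1, QuadraticMap.map_smul, h0, polar_smul_right, polar_comm, hperpS w y hy.1]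
      simp
    have h8 := two_mul_plus_le hWn (sup_le inf_le_right ((Submodule.span_singleton_le_iff_mem _ _).mpr
      (hNW W hW w hw))) hts
    have h9 : S ⊓ W < S ⊓ W ⊔ Submodule.span F {N w} := lt_of_le_of_ne le_sup_left fun e' =>
      hnotS (e'.symm ▸ Submodule.mem_sup_right (Submodule.mem_span_singleton_self _))
    have := Submodule.finrank_lt_finrank_of_lt h9
    omega
  · by_contra hc
    push Not at hc
    have he : Im ≤ S ⊓ W := by
      rintro _ ⟨w, hw, rfl⟩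
      refine ⟨⟨⟨w, rfl⟩, ?_⟩, hNW W hW w hw⟩
      have := hc w hw
      rwa [pow_two, Module.End.mul_apply] at this
    have := Submodule.finrank_mono he
    obtain ⟨k, hk⟩ := hod
    obtain ⟨l, hl⟩ := hrank
    omega

theorem perp_iso (hQ : ND (polarBilin Q) (⊤ : Submodule F V)) {W Z : Submodule F V} (hW : ND (polarBilin Q) W)
    (hiso : Iso Q W Z) : Iso Q (perpIn (polarBilin Q) W ⊤) (perpIn (polarBilin Q) Z ⊤) := by
  obtain ⟨g, hg, -, hgW⟩ := extend_iso hQ hW (hiso.nd hW) (R := (⊥ : Submodule F V))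
    (fun x hx _ => (Submodule.mem_bot F).mp hx)
    (fun w _ z hz => by rw [(Submodule.mem_bot F).mp hz, polar_zero_right])
    (fun w _ z hz => by rw [(Submodule.mem_bot F).mp hz, polar_zero_right]) hiso
  have hle : (perpIn (polarBilin Q) W ⊤).map (g : V →ₗ[F] V) ≤ perpIn (polarBilin Q) Z ⊤ := by
    rintro _ ⟨x, hx, rfl⟩
    refine ⟨trivial, fun y hy => ?_⟩
    obtain ⟨w, hw, rfl⟩ := hgW.ge hy
    show polar Q (g w) (g x) = 0
    have e : polar Q (g w) (g x) = polar Q w x := by simp only [polar, ← map_add, hg]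
    rw [e]; exact hx.2 w hw
  have hd1 := (split_perpIn refl_bilin le_top hW hQ).2.2.2
  have hd2 := (split_perpIn refl_bilin le_top (hiso.nd hW) hQ).2.2.2
  have h3 := hiso.finrank_eq
  have heq := Submodule.eq_of_le_of_finrank_eq hle (by
    show finrank F ↥((perpIn (polarBilin Q) W ⊤).map (g : V →ₗ[F] V)) = finrank F (perpIn (polarBilin Q) Z ⊤)
    rw [LinearEquiv.finrank_map_eq]; omega)
  exact heq ▸ iso_map hg _

/-- An element of order `p` fixing no subspace of a given odd-dimensional class. -/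
theorem exists_free_unipotent (hp2 : p ≠ 2) (hQ : ND (polarBilin Q) (⊤ : Submodule F V)) {d s : ℕ}
    (hn : finrank F V = 2 * d) (hd : 4 ≤ d) (hs : 2 * s + 1 < d) {W₀ : Submodule F V}
    (hW₀ : ND (polarBilin Q) W₀) (hW₀d : finrank F W₀ = 2 * s + 1) :
    ∃ T : Module.End F V, (∀ v, Q (T v) = Q v) ∧ T ^ p = 1 ∧ T ≠ 1 ∧
      ∀ W : Submodule F V, Inv T W → ¬ Iso Q W W₀ := by
  classical
  have h2 := two_ne (F := F) hp2
  have hsp : (∀ W : Submodule F V, ND (polarBilin Q) W → ∀ v, ∃ a ∈ W, ∃ b ∈ perpIn (polarBilin Q) W ⊤, a + b = v) :=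
    fun W hW v => by
      obtain ⟨-, -, hsup, -⟩ := split_perpIn refl_bilin le_top hW hQ
      obtain ⟨a, ha, b, hb, hab⟩ := Submodule.mem_sup.mp (hsup.ge (Submodule.mem_top (x := v)))
      exact ⟨a, ha, b, hb, hab⟩
  have hperpd : ∀ W : Submodule F V, ND (polarBilin Q) W → ND (polarBilin Q) (perpIn (polarBilin Q) W ⊤) ∧
      finrank F W + finrank F (perpIn (polarBilin Q) W ⊤) = 2 * d := fun W hW => by
    obtain ⟨h1, -, -, h3⟩ := split_perpIn refl_bilin le_top hW hQ
    rw [finrank_top, hn] at h3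
    exact ⟨h1, h3⟩
  obtain ⟨Z, hZn, σ, hZd, hZ⟩ : ∃ Z : Submodule F V, ND (polarBilin Q) Z ∧ ∃ σ, finrank F Z = 2 * σ + 1 ∧
      ((Odd s ∧ Z = W₀) ∨ (Even s ∧ Z = perpIn (polarBilin Q) W₀ ⊤ ∧ σ = d - s - 1)) := by
    obtain ⟨h1, h3⟩ := hperpd W₀ hW₀
    rcases Nat.even_or_odd s with he | ho
    · exact ⟨_, h1, d - s - 1, by omega, Or.inr ⟨he, rfl, rfl⟩⟩
    · exact ⟨W₀, hW₀, s, hW₀d, Or.inl ⟨ho, rfl⟩⟩
  obtain ⟨S₀, hS₀, hS₀ts, hS₀d, g₀, hg₀, hQg₀⟩ := exists_frame (p := p) hp2 hZn hZd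
  obtain ⟨ν, hν⟩ := FiniteField.exists_nonsquare (F := F) fun hc => by
    have := ringChar.of_eq hc
    exact h2 (CharP.ofNat_eq_zero F 2)
  have hν0 : ν ≠ 0 := fun e => hν (e ▸ IsSquare.zero)
  obtain ⟨g, hg⟩ := CfsgLib.SpinorMatrix.universal Q h2 (nondeg_of hQ) (by omega) (mul_ne_zero hν0 hQg₀)
  have hQg : Q g ≠ 0 := hg ▸ mul_ne_zero hν0 hQg₀
  have hg0 : g ≠ 0 := fun e => hQg (by rw [e, QuadraticMap.map_zero])
  set G := Submodule.span F {g} with hG
  have hGn : ND (polarBilin Q) G := fun x hx hp => by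
    obtain ⟨c, rfl⟩ := Submodule.mem_span_singleton.mp hx
    have h' : polar Q (c • g) g = 0 := hp g (Submodule.mem_span_singleton_self g)
    rw [polar_smul_left, polar_self, smul_eq_mul, nsmul_eq_mul] at h'
    rw [(mul_eq_zero.mp h').resolve_right (mul_ne_zero (by exact_mod_cast h2) hQg), zero_smul]
  have hGd : finrank F G = 1 := finrank_span_singleton hg0
  obtain ⟨hYn, hYd⟩ := hperpd G hGn
  -- invariant subspaces give the two halves
  have inv2 : ∀ (T : Module.End F V), (∀ v, Q (T v) = Q v) → T ^ p = 1 → (T - 1) ^ 3 = (0 : Module.End F V) →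
      d - 1 ≤ finrank F ↥(LinearMap.range (T - 1) ⊓ LinearMap.ker (T - 1)) → ∀ W : Submodule F V, Inv T W →
      Iso Q W W₀ →
      (Even s → ∀ w ∈ W, ((T - 1) ^ 2 : Module.End F V) w = 0) ∧
      (Odd s → (∀ w ∈ W, ((T - 1) ^ 2 : Module.End F V) w ≠ 0 → ∃ t, Q ((T - 1) w) = t * t * Q g₀ ∧ Q ((T - 1) w) ≠ 0) ∧
        ∃ w ∈ W, ((T - 1) ^ 2 : Module.End F V) w ≠ 0) ∧
      (Even (d - s - 1) → ∀ w ∈ perpIn (polarBilin Q) W ⊤, ((T - 1) ^ 2 : Module.End F V) w = 0) ∧
      (Even s → Odd (d - s - 1) →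
        (∀ w ∈ perpIn (polarBilin Q) W ⊤, ((T - 1) ^ 2 : Module.End F V) w ≠ 0 →
          ∃ t, Q ((T - 1) w) = t * t * Q g₀ ∧ Q ((T - 1) w) ≠ 0) ∧
        ∃ w ∈ perpIn (polarBilin Q) W ⊤, ((T - 1) ^ 2 : Module.End F V) w ≠ 0) := by
    intro T hiso hper hN3 hS W hW hWW
    have hWn := hWW.symm.nd hW₀
    have hWd := hWW.finrank_eq.trans hW₀d
    obtain ⟨hW'n, hW'd⟩ := hperpd W hWn
    obtain ⟨hW'T, a1, a2, a3⟩ := sub_invariants hp2 hQ hn (by omega) hiso hper hN3 hS hW hWn hWd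
    obtain ⟨-, b1, b2, b3⟩ := sub_invariants (s := d - s - 1) hp2 hQ hn (by omega) hiso hper hN3 hS hW'T hW'n (by omega)
    have value : ∀ {U : Submodule F V}, ND (polarBilin Q) U → Iso Q U Z → ∀ {S : Submodule F V} {z : V}, S ≤ U →
        (∀ x ∈ S, Q x = 0) → finrank F S = σ → z ∈ perpIn (polarBilin Q) S U → ∃ t, Q z = t * t * Q g₀ := by
      intro U hU hUZ S z hSU hts hSd hz
      obtain ⟨e, he⟩ := hUZ
      let S' := ((S.comap U.subtype).map e.toLinearMap).map Z.subtype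
      have hS'ts : ∀ x ∈ S', Q x = 0 := by
        rintro _ ⟨_, ⟨u, hu, rfl⟩, rfl⟩
        exact (he u).trans (hts _ hu)
      have hS'd : finrank F S' = σ := by
        rw [Submodule.finrank_map_subtype_eq, LinearEquiv.finrank_map_eq,
          (Submodule.comapSubtypeEquivOfLe hSU).finrank_eq, hSd]
      obtain ⟨t, ht⟩ := frame_value hZn hZd hS₀ (Submodule.map_subtype_le _ _) hS₀ts hS'ts hS₀d hS'd hg₀
        (g' := (e ⟨z, hz.1⟩ : V)) ⟨(e _).2, by
          rintro _ ⟨_, ⟨u, hu, rfl⟩, rfl⟩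
          show polar Q (e u : V) (e ⟨z, hz.1⟩ : V) = 0
          have h5 : polar Q (e u : V) (e ⟨z, hz.1⟩ : V) = polar Q (u : V) z := by
            have h6 := he (u + ⟨z, hz.1⟩)
            rw [map_add] at h6
            simp only [Submodule.coe_add] at h6
            simp only [polar, h6, he u, he ⟨z, hz.1⟩]
          rw [h5]
          exact hz.2 _ hu⟩ hQg₀
      exact ⟨t, by rw [← ht, he]⟩
    refine ⟨a1, fun ho => ⟨fun w hw hne => ?_, a3 ho⟩, b1, fun he ho => ⟨fun w hw hne => ?_, b3 ho⟩⟩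
    · obtain ⟨S, hSW, hts, hSd, hz, hne'⟩ := a2 ho w hw hne
      rcases hZ with ⟨-, hZe⟩ | ⟨he, -⟩
      · obtain ⟨t, ht⟩ := value hWn (hZe.symm ▸ hWW) hSW hts (by
          have := hWW.finrank_eq; rw [← hZe, hZd] at this; omega) hz
        exact ⟨t, ht, hne'⟩
      · exact absurd ho (Nat.not_odd_iff_even.mpr he)
    · obtain ⟨S, hSW, hts, hSd, hz, hne'⟩ := b2 ho w hw hne
      rcases hZ with ⟨ho', -⟩ | ⟨-, hZe, hσ⟩
      · exact absurd ho' (Nat.not_odd_iff_even.mpr he)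
      · obtain ⟨t, ht⟩ := value hW'n (hZe.symm ▸ perp_iso hQ hWn hWW) hSW hts (hSd.trans hσ.symm) hz
        exact ⟨t, ht, hne'⟩
  by_cases hcase : Odd d ∧ Odd s
  · obtain ⟨T, hiso, hper, -, -, ⟨S, -, hSd, hS⟩, hN3, hN2, -⟩ :=
      unipotent_block (p := p) hp2 hQ hYn (a := d - 1) (by omega) (by omega)
    have hev : Even (d - 1) := by obtain ⟨k, hk⟩ := hcase.1; exact ⟨k, by omega⟩
    refine ⟨T, hiso, hper, fun e => ?_, fun W hW hWW => ?_⟩
    · subst e
      have := Submodule.finrank_mono hS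
      rw [sub_self, LinearMap.range_zero, bot_inf_eq, finrank_bot] at this
      omega
    · obtain ⟨-, hodd, -, -⟩ := inv2 T hiso hper hN3 (hSd ▸ Submodule.finrank_mono hS) W hW hWW
      obtain ⟨-, w, -, hne⟩ := hodd hcase.2
      rw [hN2 hev] at hne
      exact hne rfl
  -- a three-dimensional block of prescribed value
  obtain ⟨P₂, hP₂, hP₂n, hP₂d, hP₂p⟩ := exists_type hYn (K := 1) one_pos (by omega) True
  obtain ⟨S₁, hS₁, hS₁ts, hS₁d⟩ := hP₂p.mpr trivial
  have hGP : ∀ x ∈ G, ∀ y ∈ P₂, polar Q x y = 0 := fun x hx y hy => (hP₂ hy).2 x hx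
  obtain ⟨-, hX₁d, hX₁n⟩ := sup_dims hGn hP₂n hGP
  set X₁ := G ⊔ P₂ with hX₁
  rw [hGd, hP₂d] at hX₁d
  obtain ⟨hX₂n, hX₂d⟩ := hperpd X₁ hX₁n
  set X₂ := perpIn (polarBilin Q) X₁ ⊤ with hX₂
  obtain ⟨T₁, hi₁, hp₁, hX₁T, hfix₁, ⟨A₁, hA₁, hA₁d, hA₁S⟩, hN₁3, -, hz₁⟩ :=
    unipotent_block (p := p) hp2 hQ hX₁n (a := 1) le_rfl (by omega)
  obtain ⟨T₂, hi₂, hp₂, hX₂T, hfix₂, ⟨A₂, hA₂, hA₂d, hA₂S⟩, hN₂3, hN₂2, -⟩ :=
    unipotent_block (p := p) hp2 hQ hX₂n (a := d - 2) (by omega) (by omega)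
  have h12 : ∀ x ∈ X₁, T₂ x = x := fun x hx => hfix₂ x ⟨trivial, fun y hy => by
    show polar Q y x = 0
    rw [polar_comm]; exact hy.2 x hx⟩
  set T := T₁ * T₂ with hT
  have hT1 : ∀ x ∈ X₁, T x = T₁ x := fun x hx => by rw [hT, Module.End.mul_apply, h12 x hx]
  have hT2 : ∀ y ∈ X₂, T y = T₂ y := fun y hy => hfix₁ _ (hX₂T y hy)
  have hcomm : Commute T₁ T₂ := LinearMap.ext fun v => by
    obtain ⟨a, ha, b, hb, rfl⟩ := hsp X₁ hX₁n v
    show T₁ (T₂ (a + b)) = T₂ (T₁ (a + b))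
    rw [map_add, map_add, map_add, map_add, h12 a ha, hfix₁ _ (hX₂T b hb), hfix₁ b hb, h12 _ (hX₁T a ha)]
  have hiso : ∀ v, Q (T v) = Q v := fun v => by rw [hT, Module.End.mul_apply, hi₁, hi₂]
  have hper : T ^ p = 1 := by rw [hT, hcomm.mul_pow, hp₁, hp₂, one_mul]
  have hN1 : ∀ n, ∀ x ∈ X₁, ((T - 1) ^ n : Module.End F V) x = ((T₁ - 1) ^ n : Module.End F V) x ∧
      ((T₁ - 1) ^ n : Module.End F V) x ∈ X₁ := fun n => by
    induction n with
    | zero => exact fun x hx => ⟨rfl, hx⟩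
    | succ n ih =>
      intro x hx
      have hstep : (T - 1) x = (T₁ - 1) x := by
        show T x - x = T₁ x - x
        rw [hT1 x hx]
      rw [pow_succ, pow_succ, Module.End.mul_apply, Module.End.mul_apply, hstep]
      exact ih _ (sub_mem (hX₁T x hx) hx)
  have hN2' : ∀ n, ∀ x ∈ X₂, ((T - 1) ^ n : Module.End F V) x = ((T₂ - 1) ^ n : Module.End F V) x ∧
      ((T₂ - 1) ^ n : Module.End F V) x ∈ X₂ := fun n => by
    induction n with
    | zero => exact fun x hx => ⟨rfl, hx⟩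
    | succ n ih =>
      intro x hx
      have hstep : (T - 1) x = (T₂ - 1) x := by
        show T x - x = T₂ x - x
        rw [hT2 x hx]
      rw [pow_succ, pow_succ, Module.End.mul_apply, Module.End.mul_apply, hstep]
      exact ih _ (sub_mem (hX₂T x hx) hx)
  have hN3 : (T - 1) ^ 3 = (0 : Module.End F V) := LinearMap.ext fun v => by
    obtain ⟨a, ha, b, hb, rfl⟩ := hsp X₁ hX₁n v
    rw [map_add, (hN1 3 a ha).1, (hN2' 3 b hb).1, hN₁3, hN₂3]
    simp
  have hsing : d - 1 ≤ finrank F ↥(LinearMap.range (T - 1) ⊓ LinearMap.ker (T - 1)) := by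
    have hle : A₁ ⊔ A₂ ≤ LinearMap.range (T - 1) ⊓ LinearMap.ker (T - 1) := by
      refine sup_le (fun z hz => ?_) (fun z hz => ?_)
      · obtain ⟨⟨v, hv⟩, hk⟩ := hA₁S hz
        obtain ⟨a, ha, b, hb, rfl⟩ := hsp X₁ hX₁n v
        refine ⟨⟨a, ?_⟩, ?_⟩
        · rw [map_add, show (T₁ - 1) b = 0 from sub_eq_zero.mpr (hfix₁ b hb), add_zero] at hv
          rw [← hv]; show T a - a = T₁ a - a; rw [hT1 a ha]
        · show T z - z = 0
          rw [hT1 z (hA₁ hz)]; exact hk
      · obtain ⟨⟨v, hv⟩, hk⟩ := hA₂S hz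
        obtain ⟨a, ha, b, hb, rfl⟩ := hsp X₁ hX₁n v
        refine ⟨⟨b, ?_⟩, ?_⟩
        · rw [map_add, show (T₂ - 1) a = 0 from sub_eq_zero.mpr (h12 a ha), zero_add] at hv
          rw [← hv]; show T b - b = T₂ b - b; rw [hT2 b hb]
        · show T z - z = 0
          rw [hT2 z (hA₂ hz)]; exact hk
    have hinf := (split_perpIn refl_bilin le_top hX₁n hQ).2.1
    have h5 := Submodule.finrank_sup_add_finrank_inf_eq A₁ A₂
    rw [le_bot_iff.mp ((inf_le_inf hA₁ hA₂).trans hinf.le), finrank_bot, hA₁d, hA₂d] at h5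
    have := Submodule.finrank_mono hle
    omega
  obtain ⟨z, hz0, ⟨x₁, hx₁, hx₁z⟩, hzall⟩ := hz₁ odd_one
  have hne1 : ((T - 1) ^ 2 : Module.End F V) x₁ ≠ 0 := by rw [(hN1 2 x₁ hx₁).1, hx₁z]; exact hz0
  refine ⟨T, hiso, hper, fun e => hne1 (by rw [e, sub_self]; simp), fun W hW hWW => ?_⟩
  obtain ⟨he1, ho1, he2, ho2⟩ := inv2 T hiso hper hN3 hsing W hW hWW
  by_cases hde : Odd d
  · have hse : Even s := Nat.not_odd_iff_even.mp fun h => hcase ⟨hde, h⟩
    have hse' : Even (d - s - 1) := by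
      obtain ⟨k, hk⟩ := hde
      obtain ⟨l, hl⟩ := hse
      exact ⟨k - l, by omega⟩
    obtain ⟨a, ha, b, hb, hab⟩ := hsp W (hWW.symm.nd hW₀) x₁
    exact hne1 (by rw [← hab, map_add, he1 hse a ha, he2 hse' b hb, add_zero])
  -- the value of a moved vector
  have hd2 : Even (d - 2) := by
    obtain ⟨k, hk⟩ := Nat.not_odd_iff_even.mp hde
    exact ⟨k - 1, by omega⟩
  have hsing0 : ∀ y, ((T - 1) ^ 2 : Module.End F V) y = 0 → ∀ a, polar Q ((T - 1) a) ((T - 1) y) = 0 := fun y hy a => by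
    have hTz : T ((T - 1) y) = (T - 1) y := by
      rw [pow_two, Module.End.mul_apply] at hy
      exact sub_eq_zero.mp hy
    have h : polar Q (T a) (T ((T - 1) y)) = polar Q a ((T - 1) y) := by simp only [polar, ← map_add, hiso]
    rw [hTz] at h
    show polar Q (T a - a) ((T - 1) y) = 0
    rw [polar_sub_left, h, sub_self]
  have hval : ∀ w, ((T - 1) ^ 2 : Module.End F V) w ≠ 0 → ∃ t, t ≠ 0 ∧ Q ((T - 1) w) = t * t * Q g := by
    intro w hw
    obtain ⟨a, ha, b, hb, rfl⟩ := hsp X₁ hX₁n w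
    have hb0 : ((T - 1) ^ 2 : Module.End F V) b = 0 := by rw [(hN2' 2 b hb).1, hN₂2 hd2]; rfl
    rw [map_add, hb0, add_zero] at hw
    obtain ⟨-, -, hval', -⟩ := sub_invariants (s := 1) hp2 hQ hn (by omega) hiso hper hN3 hsing
      (W := X₁) (fun x hx => by rw [hT1 x hx]; exact hX₁T x hx) hX₁n (by omega)
    obtain ⟨S, hSX, hts, hSd, hz', hne'⟩ := hval' odd_one a ha hw
    have hS₁X : S₁ ≤ X₁ := hS₁.trans le_sup_right
    obtain ⟨t, ht⟩ := frame_value hX₁n (a := 1) (by omega) hS₁X hSX hS₁ts hts (by omega) hSd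
      (g := g) ⟨Submodule.mem_sup_left (Submodule.mem_span_singleton_self g), fun y hy => by
        show polar Q y g = 0
        rw [polar_comm]
        exact hGP g (Submodule.mem_span_singleton_self g) y (hS₁ hy)⟩ hz' hQg
    have hsum : Q ((T - 1) (a + b)) = Q ((T - 1) a) := by
      have h1 := hsing0 b hb0 a
      have h3 := hsing0 b hb0 b
      rw [polar_self, nsmul_eq_mul] at h3
      rw [map_add, q_add, h1, (mul_eq_zero.mp h3).resolve_left (by exact_mod_cast h2), add_zero, add_zero]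
    exact ⟨t, fun e => hne' (by rw [ht, e, zero_mul, zero_mul]), hsum.trans ht⟩
  obtain ⟨w, hw, t, hQw, hQw0⟩ : ∃ w, ((T - 1) ^ 2 : Module.End F V) w ≠ 0 ∧
      ∃ t, Q ((T - 1) w) = t * t * Q g₀ ∧ Q ((T - 1) w) ≠ 0 := by
    rcases Nat.even_or_odd s with hse | hso
    · have hso' : Odd (d - s - 1) := by
        obtain ⟨k, hk⟩ := Nat.not_odd_iff_even.mp hde
        obtain ⟨l, hl⟩ := hse
        exact ⟨k - l - 1, by omega⟩
      obtain ⟨h1, w, hw, hne⟩ := ho2 hse hso'
      exact ⟨w, hne, h1 w hw hne⟩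
    · obtain ⟨h1, w, hw, hne⟩ := ho1 hso
      exact ⟨w, hne, h1 w hw hne⟩
  obtain ⟨u, hu0, hu⟩ := hval w hw
  rw [hu, hg] at hQw
  refine hν ⟨t / u, ?_⟩
  have h7 : u * u * ν = t * t := mul_right_cancel₀ hQg₀ (by linear_combination hQw)
  field_simp
  linear_combination h7

end CfsgLib.OrthIso
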