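/-
Elements of prime order of even-dimensional orthogonal groups and odd-dimensional non-degenerate subspaces.
-/
import Cfsg.Agent.Lib.OrthIso.Quarter
import Cfsg.Agent.Lib.OrthIso.UniOdd

set_option autoImplicit false
set_option linter.unusedSectionVars false
set_option maxHeartbeats 1600000

namespace CfsgLib.OrthIso

open Module Polynomial QuadraticMap CfsgLib.PrimeIso CfsgLib.MaxSub.Elusive CfsgLib.StdQuadForms
open scoped Matrix MatrixGroups

universe u v

variable {F : Type u} [Field F] [Fintype F] {V : Type v} [AddCommGroup V] [Module F V] [FiniteDimensional F V]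
  {Q : QuadraticForm F V} {p r : ℕ} [Fact p.Prime] [CharP F p] [Fact r.Prime]

theorem plus_bot : Plus Q (⊥ : Submodule F V) :=
  ⟨⊥, le_rfl, fun u hu => by rw [(Submodule.mem_bot F).mp hu, QuadraticMap.map_zero], by simp⟩

theorem fix_mem_iff {T : Module.End F V} (x : V) :
    x ∈ LinearMap.ker (aeval T (X - C (1 : F))) ↔ T x = x := by
  simp [sub_eq_zero]

/-- An isometry with prescribed fixed space of an even-dimensional space. -/
theorem exists_even_model (hrp : r ≠ p) (hr2 : r ≠ 2) (hp2 : p ≠ 2)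
    (hQ : ND (polarBilin Q) (⊤ : Submodule F V)) {d i c e k : ℕ} (hn : finrank F V = 2 * d)
    (hi : i = orderOf (Fintype.card F : ZMod r)) (hc : c = if Even i then i else 2 * i) (hek : e * c + k = 2 * d)
    (hmatch : k = 0 → (Plus Q (⊤ : Submodule F V) ↔ (Odd i ∨ Even e))) :
    ∃ T : Module.End F V, (∀ v, Q (T v) = Q v) ∧ T ^ r = 1 ∧
      finrank F (LinearMap.ker (aeval T (X - C (1 : F)))) = k := by
  classical
  have h2 := two_ne (F := F) hp2
  obtain ⟨hcpos, hce⟩ := block_pos (F := F) (p := p) hrp hi hc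
  rcases Nat.eq_zero_or_pos e with rfl | he0
  · refine ⟨1, fun v => rfl, one_pow _, ?_⟩
    rw [show aeval (1 : Module.End F V) (X - C (1 : F)) = 0 by simp, LinearMap.ker_zero, finrank_top, hn]
    omega
  obtain ⟨b, hb⟩ := hce.mul_left e
  have hb0 : 0 < b := by have := Nat.mul_pos he0 hcpos; omega
  obtain ⟨T', hT', hT'r, hT'f⟩ := exists_odd_model (F := F) (p := p) (r := r) (d := b) hrp hr2 hp2 hi hc
    (e := e) (k := 1) (by omega)
  have h' := perIso_of hrp hT' hT'r
  obtain ⟨-, hMn, -⟩ := nd_parts h' (inv_top (T := T')) (qo_nd hp2)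
  have hsum' := finrank_split h' (inv_top (T := T'))
  rw [top_inf_eq, top_inf_eq, finrank_top, finrank_co, hT'f] at hsum'
  rw [top_inf_eq] at hMn
  set M := LinearMap.ker (aeval T' (geom F r)) with hM
  have hMd : finrank F M = 2 * b := by omega
  have hMp : Plus (Qo b) M ↔ (Odd i ∨ Even e) :=
    type_moved hrp hr2 hT' hT'r hi hc (inv_ker _) le_rfl hMn (by omega)
  obtain ⟨U, hUn, hUd, hUp⟩ : ∃ U : Submodule F V, ND (polarBilin Q) U ∧ finrank F U = 2 * b ∧
      (Plus (Qo b) M ↔ Plus Q U) := by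
    rcases Nat.eq_zero_or_pos k with hk | hk
    · exact ⟨⊤, hQ, by rw [finrank_top, hn]; omega, hMp.trans (hmatch hk).symm⟩
    · obtain ⟨U, -, hUn, hUd, hUp⟩ := exists_type hQ hb0 (by rw [finrank_top, hn]; omega) (Plus (Qo b) M)
      exact ⟨U, hUn, hUd, hUp.symm⟩
  obtain ⟨φ, hφ⟩ := exists_iso_of_type hMn hUn hMd hUd hUp
  let Y : Module.End F M := T'.restrict (inv_ker (geom F r) : Inv T' M)
  obtain ⟨T, hT, hTpow, hTφ, hTfix⟩ := exists_transport hQ hUn (Q' := (Qo b).comp M.subtype) φ hφ Y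
    (fun m => hT' m)
  have hY : Y ^ r = 1 := LinearMap.ext fun m => Subtype.ext (by
    have key : ∀ n : ℕ, ((Y ^ n) m : Unit ⊕ (Fin b ⊕ Fin b) → F) = (T' ^ n) (m : Unit ⊕ (Fin b ⊕ Fin b) → F) := by
      intro n
      induction n with
      | zero => rfl
      | succ n ih =>
        rw [pow_succ', pow_succ', Module.End.mul_apply, Module.End.mul_apply, ← ih]
        rfl
    rw [key, hT'r]; rfl)
  refine ⟨T, hT, hTpow r hY, ?_⟩
  obtain ⟨-, -, hsup, hdim⟩ := split_perpIn refl_bilin le_top hUn hQ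
  set P := perpIn (polarBilin Q) U ⊤
  have hker : LinearMap.ker (aeval T (X - C (1 : F))) = P := by
    refine le_antisymm (fun v hv => ?_) fun v hv => (fix_mem_iff v).mpr (hTfix v hv)
    rw [fix_mem_iff] at hv
    obtain ⟨a, ha, z, hz, rfl⟩ := Submodule.mem_sup.mp (hsup.ge (Submodule.mem_top (x := v)))
    rw [map_add, hTfix z hz] at hv
    obtain ⟨m, hm⟩ := φ.surjective ⟨a, ha⟩
    have hTa : T a = a := add_right_cancel hv
    rw [show a = (φ m : V) from (congrArg Subtype.val hm).symm, hTφ] at hTa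
    have hYm : Y m = m := φ.injective (Subtype.ext hTa)
    have hm0 : (m : Unit ⊕ (Fin b ⊕ Fin b) → F) = 0 := by
      refine (fix_perp h' ?_ (show (m : Unit ⊕ (Fin b ⊕ Fin b) → F) ∈ M from m.2)).2 rfl
      exact (fix_mem_iff _).mpr (congrArg Subtype.val hYm)
    have ha0 : a = 0 := by
      rw [show a = (φ m : V) from (congrArg Subtype.val hm).symm, show m = 0 from Subtype.ext hm0, map_zero]
      rfl
    rw [ha0, zero_add]
    exact hz
  rw [finrank_top, hn] at hdim
  rw [hker]
  omega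

omit [Fact r.Prime] in
/-- An invariant non-degenerate subspace of an isometry with square `-1` has even dimension. -/
theorem quarter_even (h2 : (2 : F) ≠ 0) {T : Module.End F V} (hiso : ∀ v, Q (T v) = Q v)
    (hT : ∀ v, T (T v) = -v) {W : Submodule F V} (hW : Inv T W) (hWn : ND (polarBilin Q) W) :
    Even (finrank F W) := by
  let β : W →ₗ[F] W →ₗ[F] F := (polarBilin Q).compl₁₂ (T.comp W.subtype) W.subtype
  refine finrank_even_of_alt h2 β (fun x => ?_) fun x hx => ?_
  · have h : polar Q (T (x : V)) (T (T x)) = polar Q (x : V) (T x) := by simp only [polar, ← map_add, hiso]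
    rw [hT, polar_neg_right, polar_comm Q (x : V) (T x)] at h
    show polar Q (T (x : V)) (x : V) = 0
    exact (mul_eq_zero.mp (show (2 : F) * polar Q (T (x : V)) x = 0 by linear_combination -h)).resolve_left h2
  · have h0 : T (x : V) = 0 := hWn _ (hW x x.2) fun y hy => hx ⟨y, hy⟩
    exact Subtype.ext (neg_eq_zero.mp (by rw [← hT, h0, map_zero]))

omit [Fact r.Prime] in
/-- An involution fixes a member of every small odd-dimensional class. -/
theorem involution_class (hp2 : p ≠ 2) (hQ : ND (polarBilin Q) (⊤ : Submodule F V)) {d m w : ℕ}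
    (hn : finrank F V = 2 * d) {T : Module.End F V} (hiso : ∀ v, Q (T v) = Q v) (hTT : ∀ v, T (T v) = v)
    (hmd : m < d) (hw : m = 2 * w + 1) {W₀ : Submodule F V} (hW₀ : ND (polarBilin Q) W₀)
    (hW₀d : finrank F W₀ = m) : ∃ W, Inv T W ∧ Iso Q W W₀ := by
  have h2 := two_ne (F := F) hp2
  set A := LinearMap.ker (T - 1) with hA
  set C := LinearMap.ker (T + 1) with hC
  have memA : ∀ x, x ∈ A ↔ T x = x := fun x => by simp [hA, sub_eq_zero]
  have memC : ∀ x, x ∈ C ↔ T x = -x := fun x => by simp [hC, add_eq_zero_iff_eq_neg]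
  have hsplit : ∀ x, ∃ a ∈ A, ∃ b ∈ C, a + b = x := fun x =>
    ⟨(2 : F)⁻¹ • (x + T x), (memA _).mpr (by rw [map_smul, map_add, hTT, add_comm]),
      (2 : F)⁻¹ • (x - T x), (memC _).mpr (by rw [map_smul, map_sub, hTT, ← smul_neg, neg_sub]), by
      rw [← smul_add, show x + T x + (x - T x) = (2 : F) • x by rw [two_smul]; abel, smul_smul,
        inv_mul_cancel₀ h2, one_smul]⟩
  have horth : ∀ a ∈ A, ∀ b ∈ C, polar Q a b = 0 := fun a ha b hb => by
    have h : polar Q (T a) (T b) = polar Q a b := by simp only [polar, ← map_add, hiso]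
    rw [(memA a).mp ha, (memC b).mp hb, polar_neg_right] at h
    exact (mul_eq_zero.mp (show (2 : F) * polar Q a b = 0 by linear_combination -h)).resolve_left h2
  have hAn : ND (polarBilin Q) A := fun x hx hp => hQ x trivial fun y _ => by
    obtain ⟨a, ha, b, hb, rfl⟩ := hsplit y
    rw [map_add, hp a ha, show polarBilin Q x b = 0 from horth x hx b hb, add_zero]
  have hCn : ND (polarBilin Q) C := fun x hx hp => hQ x trivial fun y _ => by
    obtain ⟨a, ha, b, hb, rfl⟩ := hsplit y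
    rw [map_add, hp b hb, show polarBilin Q x a = 0 from (polar_comm Q x a).trans (horth a ha x hx), add_zero]
  have hdim : finrank F A + finrank F C = 2 * d := by
    obtain ⟨-, h', -⟩ := sup_dims hAn hCn horth
    rw [← h', show A ⊔ C = ⊤ from eq_top_iff.mpr fun x _ => by
      obtain ⟨a, ha, b, hb, rfl⟩ := hsplit x
      exact Submodule.add_mem_sup ha hb, finrank_top, hn]
  rcases le_total (finrank F C) (finrank F A) with hle | hle
  · obtain ⟨W, hW, -, hWi⟩ := exists_odd_in (p := p) hp2 hAn hW₀ (a := w) (by omega) (by omega)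
    exact ⟨W, fun x hx => by rw [(memA x).mp (hW hx)]; exact hx, hWi⟩
  · obtain ⟨W, hW, -, hWi⟩ := exists_odd_in (p := p) hp2 hCn hW₀ (a := w) (by omega) (by omega)
    exact ⟨W, fun x hx => by rw [(memC x).mp (hW hx)]; exact neg_mem hx, hWi⟩

variable {d m i c : ℕ} (hrp : r ≠ p) (hr2 : r ≠ 2) (hp2 : p ≠ 2)
  (hi : i = orderOf (Fintype.card F : ZMod r)) (hc : c = if Even i then i else 2 * i)
include hrp hr2 hp2 hi hc

/-- The criterion for a class of odd-dimensional subspaces in odd order prime to the characteristic. -/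
theorem fixes_class (hQ : ND (polarBilin Q) (⊤ : Submodule F V)) (hn : finrank F V = 2 * d) (hm : Odd m)
    (hmd : m < d) {W₀ : Submodule F V} (hW₀ : ND (polarBilin Q) W₀) (hW₀d : finrank F W₀ = m)
    (hdvd : r ∣ Nat.card {W : Submodule F V // Iso Q W W₀}) :
    (∀ T : Module.End F V, (∀ v, Q (T v) = Q v) → T ^ r = 1 → T ≠ 1 → ∃ W, Inv T W ∧ Iso Q W W₀) ↔
      (((2 * d) % c = 0 ∧ ¬ (Plus Q (⊤ : Submodule F V) ↔ (Odd i ∨ Even (2 * d / c)))) ∨
        (c ≤ m ∧ m % c < (2 * d) % c)) := by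
  classical
  have h2 := two_ne (F := F) hp2
  obtain ⟨hcpos, hce⟩ := block_pos (F := F) (p := p) hrp hi hc
  have hc' : c = if Even (orderOf (Fintype.card F : ZMod r)) then orderOf (Fintype.card F : ZMod r)
      else 2 * orderOf (Fintype.card F : ZMod r) := by rw [← hi]; exact hc
  obtain ⟨w, hw⟩ := hm
  set k := 2 * d % c with hk
  have hkc : k < c := Nat.mod_lt _ hcpos
  have hdn : 2 * d / c * c + k = 2 * d := Nat.div_add_mod' (2 * d) c
  have hdm : m / c * c + m % c = m := Nat.div_add_mod' m c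
  have hke : Even k := by
    obtain ⟨b, hb⟩ := hce.mul_left (2 * d / c)
    exact ⟨d - b, by omega⟩
  obtain ⟨ck, hck⟩ := hke
  have hmin : m % c < k → c ≤ m := by
    intro hlt
    by_contra hmc
    push Not at hmc
    rw [Nat.mod_eq_of_lt hmc] at hlt
    obtain ⟨T, hT, hTr, hTf⟩ := exists_even_model hrp hr2 hp2 hQ hn hi hc hdn (by omega)
    have hAn := (nd_parts (perIso_of hrp hT hTr) (inv_top (T := T)) hQ).1
    rw [top_inf_eq] at hAn
    obtain ⟨W, hW, -, hWi⟩ := exists_odd_in (p := p) hp2 hAn hW₀ (a := w) (by omega) (by omega)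
    exact class_meets_moved hrp hr2 hp2 hQ hT hTr hc' hW₀ (by omega) (by omega) hdvd ⟨W, hW, hWi⟩
  constructor
  · intro H
    by_cases hmis : k = 0 ∧ ¬ (Plus Q (⊤ : Submodule F V) ↔ (Odd i ∨ Even (2 * d / c)))
    · exact Or.inl hmis
    right
    have hcn : c ≤ 2 * d := by
      by_contra hcn
      push Not at hcn
      have := hmin (by rw [hk, Nat.mod_eq_of_lt hcn, Nat.mod_eq_of_lt (by omega : m < c)]; omega)
      omega
    obtain ⟨T, hT, hTr, hTf⟩ := exists_even_model hrp hr2 hp2 hQ hn hi hc hdn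
      (fun h0 => not_not.mp fun hne => hmis ⟨h0, hne⟩)
    have hT1 : T ≠ 1 := fun e => by
      rw [e, show aeval (1 : Module.End F V) (X - C (1 : F)) = 0 by simp, LinearMap.ker_zero, finrank_top, hn] at hTf
      omega
    obtain ⟨W, hWT, hWi⟩ := H T hT hTr hT1
    obtain ⟨e, -, hsum⟩ := split_dim hrp hr2 hQ hT hTr hc' hWT (hWi.symm.nd hW₀)
    rw [hWi.finrank_eq, hW₀d] at hsum
    set a := finrank F ↥(W ⊓ LinearMap.ker (aeval T (X - C (1 : F))))
    have hak : a ≤ k := hTf ▸ Submodule.finrank_mono inf_le_right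
    obtain ⟨b, hb⟩ := hce.mul_left e
    have hmod : m % c = a := by rw [← hsum, Nat.add_mul_mod_self_right, Nat.mod_eq_of_lt (by omega)]
    have hlt : m % c < k := by omega
    exact ⟨hmin hlt, hlt⟩
  intro hcase T hT hTr _
  have h := perIso_of hrp hT hTr
  obtain ⟨hAn, hRn, hsup⟩ := nd_parts h (inv_top (T := T)) hQ
  obtain ⟨e, he, hsum⟩ := split_dim hrp hr2 hQ hT hTr hc' inv_top hQ
  rw [finrank_top, hn] at hsum
  set A := (⊤ : Submodule F V) ⊓ LinearMap.ker (aeval T (X - C (1 : F))) with hA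
  set R := (⊤ : Submodule F V) ⊓ LinearMap.ker (aeval T (geom F r)) with hR
  set f := finrank F A with hf
  have hfk : f % c = k := by rw [hk, ← hsum, Nat.add_mul_mod_self_right]
  -- the moved piece inside the member
  set j := min (m / c) e with hj
  have hjm : j * c ≤ m := le_trans (Nat.mul_le_mul_right c (min_le_left _ _)) (by omega)
  obtain ⟨b, hb⟩ := hce.mul_left j
  have haf : m - j * c < f := by
    rcases le_total (m / c) e with h1 | h1
    · rw [hj, min_eq_left h1]
      have hfle : f % c ≤ f := Nat.mod_le _ _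
      rcases hcase with ⟨hk0, hne⟩ | ⟨-, hlt⟩
      · have hf0 : f ≠ 0 := fun h0 => hne (by
          have hbot : A = ⊥ := Submodule.finrank_eq_zero.mp h0
          rw [hbot, bot_sup_eq] at hsup
          have he' : 2 * d / c = e := by rw [← hsum, h0, zero_add, Nat.mul_div_cancel _ hcpos]
          rw [he', ← hsup]
          exact type_moved hrp hr2 hT hTr hi hc (inv_top.inf (inv_ker _)) inf_le_right hRn he)
        have := Nat.le_of_dvd (Nat.pos_of_ne_zero hf0) (Nat.dvd_of_mod_eq_zero (hfk.trans hk0))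
        have := Nat.mod_lt m hcpos
        omega
      · omega
    · rw [hj, min_eq_right h1]
      have : e * c ≤ m := le_trans (Nat.mul_le_mul_right c h1) (by omega)
      omega
  obtain ⟨Y, hY, hYT, hYn, hYd⟩ := (exists_moved_dim hrp hr2 hT hTr hc' (inv_top.inf (inv_ker _))
    inf_le_right hRn).2 j (by rw [he]; exact Nat.mul_le_mul_right c (min_le_right _ _))
  obtain ⟨Y', hY', hY'n, hY'd, hY'p⟩ : ∃ Y' ≤ W₀, ND (polarBilin Q) Y' ∧ finrank F Y' = 2 * b ∧
      (Plus Q Y' ↔ Plus Q Y) := by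
    rcases Nat.eq_zero_or_pos b with hb0 | hb0
    · have : Y = ⊥ := Submodule.finrank_eq_zero.mp (by omega)
      exact ⟨⊥, bot_le, fun x hx _ => (Submodule.mem_bot F).mp hx, by rw [finrank_bot]; omega,
        iff_of_true plus_bot (this ▸ plus_bot)⟩
    · exact exists_type hW₀ hb0 (by omega) _
  obtain ⟨hP0n, -, hP0sup, hP0d⟩ := split_perpIn refl_bilin hY' hY'n hW₀
  set P₀ := perpIn (polarBilin Q) Y' W₀
  obtain ⟨W₁, hW₁, hW₁n, hW₁i⟩ := exists_odd_in (p := p) hp2 hAn hP0n (a := w - b) (by omega) (by omega)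
  have horth : ∀ y ∈ Y, ∀ z ∈ W₁, polar Q y z = 0 := fun y hy z hz =>
    (polar_comm Q y z).trans (fix_perp h (hW₁ hz).2 (hY hy).2).1
  obtain ⟨φ, hφ⟩ := exists_iso_of_type hYn hY'n (hYd.trans (by omega)) hY'd hY'p.symm
  have hYY : Iso Q Y Y' := ⟨φ, hφ⟩
  have hW₁T : Inv T W₁ := fun x hx => by
    rw [(fix_mem_iff x).mp (hW₁ hx).2]; exact hx
  refine ⟨Y ⊔ W₁, hYT.sup hW₁T, ?_⟩
  have := iso_sup hYn hW₁n hY'n hP0n horth (fun a ha z hz => hz.2 a ha) hYY hW₁i
  rwa [hP0sup] at this

omit hrp hr2 hp2 hi hc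

section Coord

variable {ι : Type} [Fintype ι] [DecidableEq ι]

theorem toLin'_map_le_iff {x : GL ι F} {W : Submodule F (ι → F)} :
    W.map (Matrix.toLin' (x : Matrix ι ι F)) ≤ W ↔ Inv (Matrix.toLin' (x : Matrix ι ι F)) W :=
  ⟨fun h v hv => h ⟨v, hv, rfl⟩, by rintro h _ ⟨v, hv, rfl⟩; exact h v hv⟩

theorem scalar_sq {Q : QuadraticForm F (ι → F)} {v : ι → F} (hv : Q v ≠ 0) {z : F}
    (h : Q (z • v) = Q v) : z * z = 1 := by
  rw [QuadraticMap.map_smul, smul_eq_mul] at h
  exact mul_right_cancel₀ hv (h.trans (one_mul _).symm)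

/-- The criterion for the classes of odd-dimensional subspaces. -/
theorem even_odd_class (hp2 : p ≠ 2) (Q : QuadraticForm F (ι → F))
    (hQ : ND (polarBilin Q) (⊤ : Submodule F (ι → F))) {d m i c : ℕ} (hn : Fintype.card ι = 2 * d) (hd : 4 ≤ d)
    (hm : Odd m) (hmd : m < d) {W₀ : Submodule F (ι → F)} (hW₀ : ND (polarBilin Q) W₀) (hW₀d : finrank F W₀ = m)
    (hdvd : r ∣ Nat.card {W : Submodule F (ι → F) // Iso Q W W₀})
    (hi : i = orderOf (Fintype.card F : ZMod r)) (hc : c = if Even i then i else 2 * i) :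
    (∀ x : GL ι F, x ∈ Cfsg.Geo.omegaGL ⇑Q →
      (∃ z : F, ((x ^ r : GL ι F) : Matrix ι ι F) = z • (1 : Matrix ι ι F)) →
      (∀ z : F, (x : Matrix ι ι F) ≠ z • (1 : Matrix ι ι F)) →
      ∃ W : Submodule F (ι → F), Iso Q W W₀ ∧ W.map (Matrix.toLin' (x : Matrix ι ι F)) ≤ W) ↔
    ((r = 2 ∧ ¬ (IsSquare ((2 : F) ^ d) ∧
        (Plus Q (⊤ : Submodule F (ι → F)) ↔ (IsSquare (-1 : F) ∨ Even d)))) ∨
      (r ≠ p ∧ 2 < r ∧ (((2 * d) % c = 0 ∧ ¬ (Plus Q (⊤ : Submodule F (ι → F)) ↔ (Odd i ∨ Even (2 * d / c)))) ∨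
        (c ≤ m ∧ 0 < m % c ∧ m % c < (2 * d) % c)))) := by
  classical
  have h2 := two_ne (F := F) hp2
  have hdim : finrank F (ι → F) = 2 * d := by rw [Module.finrank_fintype_fun_eq_card, hn]
  have hr : r.Prime := Fact.out
  obtain ⟨g₀, -, hg₀⟩ := exists_aniso hQ (fun e => by
    have := finrank_top F (ι → F)
    rw [e, finrank_bot, hdim] at this; omega)
  have hzero : g₀ ≠ 0 := fun e => hg₀ (by rw [e, QuadraticMap.map_zero])
  obtain ⟨w, hw⟩ := hm
  by_cases hr2 : r = 2
  · subst hr2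
    rw [← exists_omega_quarter_iff h2 Q hQ (by omega) hn]
    constructor
    · rintro H
      refine Or.inl ⟨rfl, ?_⟩
      rintro ⟨x, hx, hxx⟩
      have hns : ∀ z : F, (x : Matrix ι ι F) ≠ z • (1 : Matrix ι ι F) := fun z hz => h2 (by
        have e1 : ((x : Matrix ι ι F)) *ᵥ g₀ = z • g₀ := by rw [hz, Matrix.smul_mulVec, Matrix.one_mulVec]
        have e2 := hxx g₀
        rw [e1, Matrix.mulVec_smul, e1, smul_smul] at e2
        have hzz := scalar_sq (Q := Q) hg₀ (z := z) (by rw [← e1]; exact omegaGL_le hx g₀)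
        rw [hzz, one_smul, eq_neg_iff_add_eq_zero, ← two_smul F] at e2
        exact (smul_eq_zero.mp e2).resolve_right hzero)
      obtain ⟨W, hWi, hWx⟩ := H x hx ⟨-1, Matrix.toLin'.injective (LinearMap.ext fun v => by
        rw [Units.val_pow_eq_pow_val, pow_two, Matrix.toLin'_apply, ← Matrix.mulVec_mulVec, hxx,
          Matrix.toLin'_apply, Matrix.smul_mulVec, Matrix.one_mulVec, neg_one_smul])⟩ hns
      -- an invariant subspace with square `-1` has even dimension
      have hWT := toLin'_map_le_iff.mp hWx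
      exact absurd (quarter_even h2 (fun v => by rw [Matrix.toLin'_apply]; exact omegaGL_le hx v)
        (fun v => by rw [Matrix.toLin'_apply, Matrix.toLin'_apply, hxx]) hWT (hWi.symm.nd hW₀))
        (by rw [hWi.finrank_eq, hW₀d]; exact Nat.not_even_iff_odd.mpr ⟨w, hw⟩)
    · rintro (⟨-, hno⟩ | ⟨-, h3, -⟩) x hx ⟨z, hz⟩ -
      swap
      · omega
      set T := Matrix.toLin' (x : Matrix ι ι F) with hT
      have hTi : ∀ v, Q (T v) = Q v := fun v => by rw [hT, Matrix.toLin'_apply]; exact omegaGL_le hx v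
      have hTT : ∀ v, T (T v) = z • v := fun v => by
        rw [Units.val_pow_eq_pow_val, pow_two] at hz
        rw [hT, Matrix.toLin'_apply, Matrix.toLin'_apply, Matrix.mulVec_mulVec, hz, Matrix.smul_mulVec,
          Matrix.one_mulVec]
      have hzz := scalar_sq (Q := Q) hg₀ (z := z) (by rw [← hTT, hTi, hTi])
      rcases mul_self_eq_one_iff.mp hzz with rfl | rfl
      · obtain ⟨W, hW, hWi⟩ := involution_class (p := p) hp2 hQ hdim hTi (fun v => by rw [hTT, one_smul]) hmd hw hW₀ hW₀d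
        exact ⟨W, hWi, toLin'_map_le_iff.mpr hW⟩
      · refine absurd ⟨x, hx, fun v => ?_⟩ hno
        have := hTT v
        rwa [hT, Matrix.toLin'_apply, Matrix.toLin'_apply, neg_one_smul] at this
  have hr3 : 2 < r := by have := hr.two_le; omega
  have hodd : Odd r := hr.odd_of_ne_two hr2
  have hlin : (∀ x : GL ι F, x ∈ Cfsg.Geo.omegaGL ⇑Q →
      (∃ z : F, ((x ^ r : GL ι F) : Matrix ι ι F) = z • (1 : Matrix ι ι F)) →
      (∀ z : F, (x : Matrix ι ι F) ≠ z • (1 : Matrix ι ι F)) →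
      ∃ W : Submodule F (ι → F), Iso Q W W₀ ∧ W.map (Matrix.toLin' (x : Matrix ι ι F)) ≤ W) ↔
      ∀ T : Module.End F (ι → F), (∀ v, Q (T v) = Q v) → T ^ r = 1 → T ≠ 1 → ∃ W, Inv T W ∧ Iso Q W W₀ := by
    constructor
    · intro H T hT hTr hT1
      obtain ⟨x, rfl, hxr⟩ := exists_gl T hr.pos hTr
      have hns : ∀ z : F, (x : Matrix ι ι F) ≠ z • (1 : Matrix ι ι F) := fun z hz => hT1 (by
        have e : Matrix.toLin' (x : Matrix ι ι F) = z • (1 : Module.End F (ι → F)) := by
          rw [hz, map_smul, Matrix.toLin'_one]; try rfl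
        have hzz := scalar_sq (Q := Q) hg₀ (z := z) (by
          have := hT g₀
          rwa [e, LinearMap.smul_apply, Module.End.one_apply] at this)
        have hzr : z ^ r = 1 := by
          have := LinearMap.congr_fun hTr g₀
          rw [e, _root_.smul_pow, one_pow, LinearMap.smul_apply, Module.End.one_apply] at this
          exact smul_left_injective F hzero (this.trans (one_smul F g₀).symm)
        obtain ⟨l, hl⟩ := hodd
        have hz1 : z = 1 := by
          rwa [hl, pow_succ, pow_mul, pow_two, hzz, one_pow, one_mul] at hzr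
        rw [e, hz1, one_smul])
      obtain ⟨W, hWi, hWx⟩ := H x (mem_omega_of_odd_order h2 (by omega) Q (nondeg_of hQ)
        (fun u _ => by simpa using hT u) hodd hxr) ⟨1, by rw [hxr, Units.val_one, one_smul]⟩ hns
      exact ⟨W, toLin'_map_le_iff.mp hWx, hWi⟩
    · intro H x hx ⟨z, hz⟩ hns
      set T₀ := Matrix.toLin' (x : Matrix ι ι F) with hT₀
      have hT₀i : ∀ v, Q (T₀ v) = Q v := fun v => by rw [hT₀, Matrix.toLin'_apply]; exact omegaGL_le hx v
      have hpow : (T₀ : Module.End F (ι → F)) ^ r = z • 1 := by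
        have : Matrix.toLinAlgEquiv' ((x : Matrix ι ι F) ^ r) = z • (1 : Module.End F (ι → F)) := by
          rw [← Units.val_pow_eq_pow_val, hz, map_smul, map_one]
        rwa [map_pow] at this
      have hpi : ∀ n, Q ((T₀ ^ n : Module.End F (ι → F)) g₀) = Q g₀ := fun n => by
        induction n with
        | zero => rfl
        | succ n ih => rw [pow_succ', Module.End.mul_apply, hT₀i, ih]
      have hzz := scalar_sq (Q := Q) hg₀ (z := z) (by
        have := hpi r
        rwa [hpow, LinearMap.smul_apply, Module.End.one_apply] at this)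
      have hne : z • T₀ ≠ 1 := fun e => hns z (by
        refine Matrix.toLin'.injective ?_
        rw [map_smul, Matrix.toLin'_one]
        calc T₀ = (z * z) • T₀ := by rw [hzz, one_smul]
          _ = z • (z • T₀) := by rw [smul_smul]
          _ = z • LinearMap.id := by rw [e]; rfl)
      obtain ⟨W, hW, hWi⟩ := H (z • T₀) (fun v => by
        rw [LinearMap.smul_apply, QuadraticMap.map_smul, hzz, one_smul, hT₀i]) (by
        obtain ⟨l, hl⟩ := hodd
        have hzr : z ^ r = z := by rw [hl, pow_succ, pow_mul, pow_two, hzz, one_pow, one_mul]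
        rw [_root_.smul_pow, hpow, hzr, smul_smul, hzz, one_smul]) hne
      refine ⟨W, hWi, toLin'_map_le_iff.mpr fun v hv => ?_⟩
      have := W.smul_mem z (hW v hv)
      rwa [LinearMap.smul_apply, smul_smul, hzz, one_smul] at this
  rw [hlin]
  by_cases hrp : r = p
  · refine iff_of_false (fun H => ?_) ?_
    · subst hrp
      obtain ⟨T, h1, h3, h4, h5⟩ := exists_free_unipotent (p := r) hp2 hQ hdim hd (s := w) (by omega) hW₀ (by omega)
      obtain ⟨W, hW, hWi⟩ := H T h1 h3 h4
      exact h5 W hW hWi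
    · rintro (⟨h, -⟩ | ⟨h, -⟩)
      · exact hr2 h
      · exact h hrp
  rw [fixes_class hrp hr2 hp2 hi hc hQ hdim ⟨w, hw⟩ hmd hW₀ hW₀d hdvd]
  obtain ⟨hcpos, ⟨ch, hch⟩⟩ := block_pos (F := F) (p := p) hrp hi hc
  have hpos : 0 < m % c := by
    rcases Nat.eq_zero_or_pos (m % c) with h0 | h0
    · obtain ⟨t, ht⟩ := Nat.dvd_of_mod_eq_zero h0
      rw [hch, add_mul] at ht
      omega
    · exact h0
  constructor
  · rintro (h | ⟨h3, h4⟩)
    · exact Or.inr ⟨hrp, hr3, Or.inl h⟩
    · exact Or.inr ⟨hrp, hr3, Or.inr ⟨h3, hpos, h4⟩⟩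
  · rintro (⟨h, -⟩ | ⟨-, -, h | ⟨h3, -, h4⟩⟩)
    · exact absurd h hr2
    · exact Or.inl h
    · exact Or.inr ⟨h3, h4⟩

end Coord

end CfsgLib.OrthIso
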