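/-
The number of singular subspaces of a given dimension modulo the characteristic, and the orbit argument.
-/
import Cfsg.Agent.Lib.OrthIso.Class

set_option autoImplicit false
set_option linter.unusedSectionVars false
set_option maxHeartbeats 800000

namespace CfsgLib.OrthIso

open Module Polynomial QuadraticMap CfsgLib.PrimeIso CfsgLib.MaxSub.Elusive

universe u v

/-- The totally singular subspaces of a given dimension. -/
abbrev TSub {F : Type u} [Field F] {V : Type v} [AddCommGroup V] [Module F V] (Q : QuadraticForm F V) (m : ℕ) :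
    Type v :=
  {W : Submodule F V // finrank F ↥W = m ∧ ∀ w ∈ W, Q w = 0}

variable {F : Type u} [Field F] [Fintype F] {p : ℕ} [Fact p.Prime] [CharP F p]

theorem ts_polar {V : Type v} [AddCommGroup V] [Module F V] {Q : QuadraticForm F V} {W : Submodule F V}
    (h : ∀ w ∈ W, Q w = 0) {x y : V} (hx : x ∈ W) (hy : y ∈ W) : polar Q x y = 0 := by
  simp [polar, h x hx, h y hy, h _ (add_mem hx hy)]

theorem ts_span {V : Type v} [AddCommGroup V] [Module F V] {Q : QuadraticForm F V} {v : V} (hv : Q v = 0) :
    ∀ w ∈ Submodule.span F {v}, Q w = 0 := fun w hw => by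
  obtain ⟨c, rfl⟩ := Submodule.mem_span_singleton.mp hw
  rw [QuadraticMap.map_smul, hv, smul_zero]

/-- The singular vectors modulo the characteristic. -/
theorem singular_card {V : Type v} [AddCommGroup V] [Module F V] [FiniteDimensional F V] (Q : QuadraticForm F V)
    (hn : 3 ≤ finrank F V) : p ∣ Nat.card {x : V // Q x = 0} := by
  classical
  let b := Module.finBasis F V
  let B := Q.toBilin b
  let f : MvPolynomial (Fin (finrank F V)) F :=
    ∑ i, ∑ j, MvPolynomial.C (B (b i) (b j)) * MvPolynomial.X i * MvPolynomial.X j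
  have hdeg : f.totalDegree ≤ 2 := by
    refine MvPolynomial.totalDegree_finsetSum_le fun i _ => MvPolynomial.totalDegree_finsetSum_le fun j _ => ?_
    refine (MvPolynomial.totalDegree_mul _ _).trans ?_
    rw [MvPolynomial.totalDegree_X]
    have := MvPolynomial.totalDegree_mul (MvPolynomial.C (B (b i) (b j)) : MvPolynomial (Fin (finrank F V)) F)
      (MvPolynomial.X i)
    rw [MvPolynomial.totalDegree_C, MvPolynomial.totalDegree_X] at this
    omega
  have hdvd := char_dvd_card_solutions p (f := f) (by rw [Fintype.card_fin]; omega)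
  have heval : ∀ c : Fin (finrank F V) → F, MvPolynomial.eval c f = Q (∑ i, c i • b i) := by
    intro c
    conv_rhs => rw [← Q.toQuadraticMap_toBilin b, LinearMap.BilinMap.toQuadraticMap_apply]
    simp only [f, map_sum, map_mul, MvPolynomial.eval_C, MvPolynomial.eval_X, LinearMap.sum_apply, map_smul,
      LinearMap.smul_apply, smul_eq_mul, Finset.mul_sum]
    rw [Finset.sum_comm]
    exact Finset.sum_congr rfl fun i _ => Finset.sum_congr rfl fun j _ => by ring
  rw [Fintype.card_eq_nat_card] at hdvd
  refine hdvd.trans (dvd_of_eq (Nat.card_congr (b.equivFun.toEquiv.symm.subtypeEquiv fun c => ?_)))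
  rw [heval, LinearEquiv.coe_toEquiv_symm, EquivLike.coe_coe, Basis.equivFun_symm_apply]

/-- The number of totally singular subspaces is one modulo the characteristic. -/
theorem ts_count : ∀ (m : ℕ) (V : Type v) [AddCommGroup V] [Module F V] [FiniteDimensional F V]
    (Q : QuadraticForm F V), ND (polarBilin Q) (⊤ : Submodule F V) → 2 * m + 1 ≤ finrank F V →
    (Nat.card (TSub Q m) : ZMod p) = 1 := by
  intro m
  induction m with
  | zero =>
    intro V _ _ _ Q _ _
    have : Unique (TSub Q 0) :=
      ⟨⟨⟨⊥, finrank_bot F V, fun w hw => by rw [(Submodule.mem_bot F).mp hw, QuadraticMap.map_zero]⟩⟩,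
        fun W => Subtype.ext (Submodule.finrank_eq_zero.mp W.2.1)⟩
    rw [Nat.card_unique, Nat.cast_one]
  | succ m ih =>
    intro V _ _ _ Q hQ hn
    classical
    have : Finite V := Module.finite_of_finite F
    have : Fintype V := Fintype.ofFinite V
    have : Fintype (TSub Q (m + 1)) := Fintype.ofFinite _
    set q := Fintype.card F
    have hq0 : (q : ZMod p) = 0 := by
      rw [ZMod.natCast_eq_zero_iff, ← CharP.cast_eq_zero_iff F p]
      exact FiniteField.cast_card_eq_zero F
    let P := {x : V × TSub Q (m + 1) // x.1 ≠ 0 ∧ x.1 ∈ x.2.1}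
    have h1 : (Nat.card P : ZMod p) = -(Nat.card (TSub Q (m + 1)) : ZMod p) := by
      let e : P ≃ Σ W : TSub Q (m + 1), {x : W.1 // x ≠ 0} :=
        { toFun := fun x => ⟨x.1.2, ⟨⟨x.1.1, x.2.2⟩, fun h => x.2.1 (congrArg Subtype.val h)⟩⟩
          invFun := fun x => ⟨(x.2.1.1, x.1), fun h => x.2.2 (Subtype.ext h), x.2.1.2⟩
          left_inv := fun x => rfl
          right_inv := fun x => rfl }
      rw [Nat.card_congr e, Nat.card_sigma, Nat.cast_sum, Finset.sum_congr rfl fun W _ => (?_ : _ = (-1 : ZMod p)),
        Finset.sum_const, Finset.card_univ, nsmul_eq_mul, mul_neg_one, Nat.card_eq_fintype_card]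
      have hW : Fintype.card W.1 = q ^ (m + 1) := by
        rw [Module.card_eq_pow_finrank (K := F), W.2.1]
      rw [Nat.card_eq_fintype_card, Fintype.card_subtype_compl, Fintype.card_subtype_eq, hW,
        Nat.cast_sub (Nat.one_le_pow _ _ Fintype.card_pos), Nat.cast_pow, hq0, zero_pow (by omega), zero_sub,
        Nat.cast_one]
    have hfib : ∀ v : {x : V // x ≠ 0 ∧ Q x = 0},
        (Nat.card {W : TSub Q (m + 1) // v.1 ∈ W.1} : ZMod p) = 1 := by
      rintro ⟨v, hv0, hv⟩
      have hvv : polar Q v v = 0 := by rw [polar_self, hv, nsmul_zero]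
      obtain ⟨f, hf, hvf⟩ : ∃ f, Q f = 0 ∧ polar Q v f = 1 := by
        obtain ⟨y, hy⟩ : ∃ y, polar Q v y ≠ 0 := by
          by_contra hc
          push Not at hc
          exact hv0 (hQ v trivial fun y _ => hc y)
        set g := (polar Q v y)⁻¹ • y with hg
        have hvg : polar Q v g = 1 := by rw [hg, polar_smul_right, smul_eq_mul, inv_mul_cancel₀ hy]
        clear_value g
        exact ⟨g + (-Q g) • v, by
          rw [q_add, QuadraticMap.map_smul, hv, polar_smul_right, polar_comm Q g v, hvg]; simp, by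
          rw [polar_add_right, polar_smul_right, hvv, smul_zero, add_zero, hvg]⟩
      have hff : polar Q f f = 0 := by rw [polar_self, hf, nsmul_zero]
      set H := Submodule.span F {v, f} with hH
      have hfv : polar Q f v = 1 := by rw [polar_comm, hvf]
      have hHn : ND (polarBilin Q) H := fun x hx hp => by
        obtain ⟨a, b, rfl⟩ := Submodule.mem_span_pair.mp hx
        have e1 : polar Q (a • v + b • f) v = 0 := hp v (Submodule.subset_span (by simp))
        have e2 : polar Q (a • v + b • f) f = 0 := hp f (Submodule.subset_span (by simp))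
        rw [polar_add_left, polar_smul_left, polar_smul_left, hvv, hfv, smul_eq_mul, smul_eq_mul] at e1
        rw [polar_add_left, polar_smul_left, polar_smul_left, hvf, hff, smul_eq_mul, smul_eq_mul] at e2
        simp only [mul_zero, mul_one, zero_add, add_zero] at e1 e2
        rw [e1, e2, zero_smul, zero_smul, add_zero]
      have hHd : finrank F H ≤ 2 := by
        refine (finrank_span_le_card _).trans ?_
        rw [Set.toFinset_insert, Set.toFinset_singleton]
        exact Finset.card_le_two
      obtain ⟨hPn, hinf, hsup, hd⟩ := split_perpIn (B := polarBilin Q) (fun x y hxy => by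
        show polar Q y x = 0
        rw [polar_comm]; exact hxy) le_top hHn hQ
      set P' := perpIn (polarBilin Q) H ⊤
      rw [finrank_top] at hd
      have hdec : ∀ w, polar Q v w = 0 → ∃ a : F, w - a • v ∈ P' := fun w hw => by
        obtain ⟨x, hx, z, hz, rfl⟩ := Submodule.mem_sup.mp (hsup.ge (Submodule.mem_top (x := w)))
        obtain ⟨a, b, rfl⟩ := Submodule.mem_span_pair.mp hx
        have hvz : polar Q v z = 0 := hz.2 v (Submodule.subset_span (by simp))
        rw [polar_add_right, hvz, polar_add_right, polar_smul_right, polar_smul_right, hvv, hvf, smul_eq_mul,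
          smul_eq_mul, mul_zero, zero_add, add_zero, mul_one] at hw
        refine ⟨a, ?_⟩
        rw [hw, zero_smul, add_zero, add_sub_cancel_left]
        exact hz
      let e : {W : TSub Q (m + 1) // v ∈ W.1} ≃ TSub (Q.comp P'.subtype) m :=
        { toFun := fun W => ⟨(W.1.1 ⊓ P').comap P'.subtype, by
            have hle : W.1.1 ≤ Submodule.span F {v} ⊔ (W.1.1 ⊓ P') := fun w hw => by
              obtain ⟨a, ha⟩ := hdec w (ts_polar W.1.2.2 W.2 hw)
              rw [← add_sub_cancel (a • v) w]
              exact Submodule.add_mem_sup (Submodule.smul_mem _ a (Submodule.mem_span_singleton_self v))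
                ⟨sub_mem hw (W.1.1.smul_mem a W.2), ha⟩
            have hsup' : Submodule.span F {v} ⊔ (W.1.1 ⊓ P') = W.1.1 :=
              le_antisymm (sup_le ((Submodule.span_singleton_le_iff_mem _ _).mpr W.2) inf_le_left) hle
            have h := Submodule.finrank_sup_add_finrank_inf_eq (Submodule.span F {v}) (W.1.1 ⊓ P')
            rw [hsup', le_bot_iff.mp ((inf_le_inf ((Submodule.span_singleton_le_iff_mem _ _).mpr
              (Submodule.subset_span (by simp) : v ∈ H)) inf_le_right).trans hinf.le), finrank_bot,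
              finrank_span_singleton hv0, W.1.2.1] at h
            refine ⟨?_, fun x hx => W.1.2.2 _ hx.1⟩
            rw [(Submodule.comapSubtypeEquivOfLe inf_le_right).finrank_eq]
            omega⟩
          invFun := fun U => ⟨⟨Submodule.span F {v} ⊔ U.1.map P'.subtype, by
            refine ⟨?_, fun w hw => ?_⟩
            · have h := Submodule.finrank_sup_add_finrank_inf_eq (Submodule.span F {v}) (U.1.map P'.subtype)
              rw [le_bot_iff.mp ((inf_le_inf ((Submodule.span_singleton_le_iff_mem _ _).mpr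
                (Submodule.subset_span (by simp) : v ∈ H)) (Submodule.map_subtype_le _ _)).trans hinf.le), finrank_bot,
                finrank_span_singleton hv0, Submodule.finrank_map_subtype_eq, U.2.1] at h
              omega
            · obtain ⟨x, hx, _, ⟨u, hu, rfl⟩, rfl⟩ := Submodule.mem_sup.mp hw
              obtain ⟨a, rfl⟩ := Submodule.mem_span_singleton.mp hx
              have hu0 : Q (u : V) = 0 := U.2.2 u hu
              rw [q_add, QuadraticMap.map_smul, hv, smul_zero, zero_add, Submodule.coe_subtype, hu0, zero_add,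
                polar_smul_left, show polar Q v (u : V) = 0 from u.2.2 v (Submodule.subset_span (by simp)),
                smul_zero]⟩, Submodule.mem_sup_left (Submodule.mem_span_singleton_self v)⟩
          left_inv := fun W => by
            refine Subtype.ext (Subtype.ext (le_antisymm (sup_le ((Submodule.span_singleton_le_iff_mem _ _).mpr W.2)
              ((Submodule.map_comap_le _ _).trans inf_le_left)) fun w hw => ?_))
            obtain ⟨a, ha⟩ := hdec w (ts_polar W.1.2.2 W.2 hw)
            rw [← add_sub_cancel (a • v) w]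
            exact Submodule.add_mem_sup (Submodule.smul_mem _ a (Submodule.mem_span_singleton_self v))
              ⟨⟨w - a • v, ha⟩, ⟨sub_mem hw (W.1.1.smul_mem a W.2), ha⟩, rfl⟩
          right_inv := fun U => by
            refine Subtype.ext (Submodule.ext fun u => ⟨fun hu => ?_, fun hu =>
              ⟨Submodule.mem_sup_right ⟨u, hu, rfl⟩, u.2⟩⟩)
            obtain ⟨x, hx, _, ⟨u', hu', rfl⟩, hxu⟩ := Submodule.mem_sup.mp hu.1
            have hxP : x ∈ P' := by
              rw [eq_sub_of_add_eq hxu]; exact sub_mem u.2 u'.2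
            have hx0 : x = 0 := by
              have : x ∈ H ⊓ P' := ⟨(Submodule.span_singleton_le_iff_mem _ _).mpr
                (Submodule.subset_span (by simp) : v ∈ H) hx, hxP⟩
              rwa [hinf, Submodule.mem_bot] at this
            rw [hx0, zero_add] at hxu
            exact (Subtype.ext hxu : u' = u) ▸ hu' }
      rw [Nat.card_congr e]
      exact ih P' _ (fun x _ hx => pn_restrict hPn x fun y => hx y trivial) (by omega)
    have h2 : (Nat.card P : ZMod p) = (Nat.card {x : V // x ≠ 0 ∧ Q x = 0} : ZMod p) := by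
      let e : P ≃ Σ v : {x : V // x ≠ 0 ∧ Q x = 0}, {W : TSub Q (m + 1) // v.1 ∈ W.1} :=
        { toFun := fun x => ⟨⟨x.1.1, x.2.1, x.1.2.2.2 _ x.2.2⟩, ⟨x.1.2, x.2.2⟩⟩
          invFun := fun x => ⟨(x.1.1, x.2.1), x.1.2.1, x.2.2⟩
          left_inv := fun x => rfl
          right_inv := fun x => rfl }
      rw [Nat.card_congr e, Nat.card_sigma, Nat.cast_sum, Finset.sum_congr rfl fun v _ => hfib v, Finset.sum_const,
        Finset.card_univ, nsmul_eq_mul, mul_one, Nat.card_eq_fintype_card]
    have h3 : (Nat.card {x : V // x ≠ 0 ∧ Q x = 0} : ZMod p) = -1 := by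
      have hZ := singular_card (p := p) Q (by omega)
      have hs : Nat.card {x : V // Q x = 0} = Nat.card {x : V // x ≠ 0 ∧ Q x = 0} + 1 := by
        rw [Nat.card_eq_fintype_card, Nat.card_eq_fintype_card, Fintype.card_subtype, Fintype.card_subtype,
          show (Finset.univ.filter fun x : V => x ≠ 0 ∧ Q x = 0) = (Finset.univ.filter fun x : V => Q x = 0).erase 0 by
            ext x; simp [and_comm],
          Finset.card_erase_of_mem (by simp)]
        have : 0 < (Finset.univ.filter fun x : V => Q x = 0).card := Finset.card_pos.mpr ⟨0, by simp⟩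
        omega
      have h4 : (Nat.card {x : V // Q x = 0} : ZMod p) = 0 := (ZMod.natCast_eq_zero_iff _ _).mpr hZ
      rw [hs, Nat.cast_add, Nat.cast_one] at h4
      linear_combination h4
    linear_combination h1 - h2 - h3

/-- The characteristic does not divide the number of totally singular subspaces. -/
theorem ts_ne_char {V : Type v} [AddCommGroup V] [Module F V] [FiniteDimensional F V] {Q : QuadraticForm F V}
    (hQ : ND (polarBilin Q) (⊤ : Submodule F V)) {m r : ℕ} (hn : 2 * m + 1 ≤ finrank F V)
    (hdvd : r ∣ Nat.card (TSub Q m)) : r ≠ p := fun e => by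
  have h := ts_count (p := p) m V Q hQ hn
  rw [(ZMod.natCast_eq_zero_iff _ _).mpr (e ▸ hdvd)] at h
  exact zero_ne_one h

variable {V : Type v} [AddCommGroup V] [Module F V] [FiniteDimensional F V] {Q : QuadraticForm F V}
  {T : Module.End F V} {r : ℕ} [Fact r.Prime]

/-- Small totally singular subspaces are not all moved. -/
theorem ts_meets_moved (hrp : r ≠ p) (hQ : ND (polarBilin Q) (⊤ : Submodule F V)) (hiso : ∀ v, Q (T v) = Q v)
    (hper : T ^ r = 1) {m : ℕ} (hmi : m < orderOf (Fintype.card F : ZMod r))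
    (hno : ∀ T' : Module.End F V, (∀ v, Q (T' v) = Q v) → T' ^ r = 1 →
      (∀ z ∈ LinearMap.ker (aeval T (geom F r)), T' z = z) → T' = 1)
    (hdvd : r ∣ Nat.card (TSub Q m)) :
    ¬ ∃ W ≤ LinearMap.ker (aeval T (X - C (1 : F))), finrank F W = m ∧ ∀ w ∈ W, Q w = 0 := by
  classical
  rintro ⟨W₀, hW₀A, hW₀d, hW₀ts⟩
  have h := perIso_of hrp hiso hper
  have : Finite V := Module.finite_of_finite F
  set A := LinearMap.ker (aeval T (X - C (1 : F))) with hAdef
  set R := LinearMap.ker (aeval T (geom F r)) with hRdef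
  obtain ⟨hAn, hRn, hAR⟩ := nd_parts h (inv_top (T := T)) hQ
  rw [top_inf_eq, top_inf_eq] at hAR
  rw [top_inf_eq] at hAn hRn
  have horth : ∀ a ∈ A, ∀ z ∈ R, polar Q a z = 0 := fun a ha z hz => (fix_perp h ha hz).1
  have hTu : IsUnit T := IsUnit.of_pow_eq_one hper (Fact.out : r.Prime).ne_zero
  let t : V ≃ₗ[F] V := LinearEquiv.ofBijective T ((Module.End.isUnit_iff T).mp hTu)
  have ht : ∀ v, Q (t v) = Q v := hiso
  have htsmap : ∀ {g : V ≃ₗ[F] V}, (∀ v, Q (g v) = Q v) → ∀ W : TSub Q m,
      finrank F ↥(W.1.map (g : V →ₗ[F] V)) = m ∧ ∀ w ∈ W.1.map (g : V →ₗ[F] V), Q w = 0 := fun {g} hg W =>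
    ⟨(LinearEquiv.finrank_map_eq g W.1).trans W.2.1, by
      rintro _ ⟨w, hw, rfl⟩
      exact (hg w).trans (W.2.2 w hw)⟩
  let f : TSub Q m → TSub Q m := fun W => ⟨W.1.map (t : V →ₗ[F] V), htsmap ht W⟩
  have hfinj : Function.Injective f := fun W W' e =>
    Subtype.ext (Submodule.map_injective_of_injective t.injective (congrArg Subtype.val e))
  let σ : Equiv.Perm (TSub Q m) := Equiv.ofBijective f (Finite.injective_iff_bijective.mp hfinj)
  have hσ : σ ^ (r ^ 1) = 1 := by
    have key : ∀ (n : ℕ) (W : TSub Q m), ((σ ^ n) W).1 = W.1.map (T ^ n) := fun n => by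
      induction n with
      | zero => intro W; show W.1 = W.1.map (T ^ 0); rw [pow_zero, Module.End.one_eq_id, Submodule.map_id]
      | succ n ih =>
        intro W
        rw [pow_succ', Equiv.Perm.mul_apply, pow_succ', Module.End.mul_eq_comp, Submodule.map_comp, ← ih]
        rfl
    refine Equiv.ext fun W => Subtype.ext ?_
    rw [key, pow_one, hper, Module.End.one_eq_id, Submodule.map_id]
    rfl
  have : Fintype (TSub Q m) := Fintype.ofFinite _
  have hmod := Equiv.Perm.card_compl_support_modEq (p := r) hσ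
  rw [Nat.card_eq_fintype_card] at hdvd
  have hfix : r ∣ σ.supportᶜ.card := (Nat.modEq_zero_iff_dvd).mp (hmod.trans ((Nat.modEq_zero_iff_dvd).mpr hdvd))
  have hfixed : ∀ W : TSub Q m, σ W = W ↔ W.1 ≤ A := by
    intro W
    constructor
    · intro hW
      have hWT : Inv T W.1 := fun x hx => (congrArg Subtype.val hW).le ⟨x, hx, rfl⟩
      have hsum := finrank_split h hWT
      have hd := (dims_of_ker (fun g h1 h2 h3 => geom_degree (p := p) (Fact.out : r.Prime) hrp h1 h2 h3)
        (hWT.inf (inv_ker _)) (inf_le_right : W.1 ⊓ R ≤ R)).1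
      have h0 : finrank F ↥(W.1 ⊓ R) = 0 := Nat.eq_zero_of_dvd_of_lt hd
        (lt_of_le_of_lt ((Submodule.finrank_mono inf_le_left).trans W.2.1.le) hmi)
      rw [W.2.1] at hsum
      change finrank F ↥(W.1 ⊓ A) + finrank F ↥(W.1 ⊓ R) = m at hsum
      have := Submodule.eq_of_le_of_finrank_le (inf_le_left : W.1 ⊓ A ≤ W.1) (by rw [W.2.1]; omega)
      exact this ▸ inf_le_right
    · intro hW
      refine Subtype.ext (Submodule.eq_of_le_of_finrank_eq ?_ ?_)
      · rintro _ ⟨x, hx, rfl⟩
        have hTx : T x = x := by simpa [hAdef, sub_eq_zero] using hW hx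
        show T x ∈ W.1
        rwa [hTx]
      · exact LinearEquiv.finrank_map_eq t W.1
  let G : Subgroup (V ≃ₗ[F] V) :=
    { carrier := {g | (∀ v, Q (g v) = Q v) ∧ ∀ z ∈ R, g z = z}
      mul_mem' := fun {a b} ha hb => ⟨fun v => by show Q (a (b v)) = _; rw [ha.1, hb.1],
        fun z hz => by show a (b z) = z; rw [hb.2 z hz, ha.2 z hz]⟩
      one_mem' := ⟨fun v => rfl, fun z _ => rfl⟩
      inv_mem' := fun {a} ha => ⟨fun v => by
          rw [← ha.1 (a⁻¹ v)]; exact congrArg Q (a.apply_symm_apply v),
        fun z hz => (LinearEquiv.symm_apply_eq a).mpr (ha.2 z hz).symm⟩ }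
  have : Finite (V ≃ₗ[F] V) := Finite.of_injective (fun g => ((g : V → V))) DFunLike.coe_injective
  let _ : SMul G (Submodule F V) := ⟨fun g W => W.map (g.1 : V →ₗ[F] V)⟩
  let _ : MulAction G (Submodule F V) :=
    { one_smul := fun W => Submodule.map_id W
      mul_smul := fun g g' W => by
        show W.map ((g * g').1 : V →ₗ[F] V) = (W.map (g'.1 : V →ₗ[F] V)).map (g.1 : V →ₗ[F] V)
        rw [← Submodule.map_comp]
        rfl }
  have hgA : ∀ g : G, ∀ a ∈ A, g.1 a ∈ A := by
    intro g a ha
    obtain ⟨x, hx, z, hz, hxz⟩ := Submodule.mem_sup.mp (hAR.ge (Submodule.mem_top (x := g.1 a)))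
    have hz0 : z = 0 := hRn z hz fun y hy => by
      have h1 : polar Q (g.1 a) y = 0 := by
        have e1 : polar Q (g.1 a) (g.1 y) = polar Q a y := by simp only [polar, ← map_add, g.2.1]
        rw [g.2.2 y hy] at e1
        rw [e1]; exact horth a ha y hy
      rw [← hxz, polar_add_left, horth x hx y hy, zero_add] at h1
      exact h1
    rwa [← hxz, hz0, add_zero]
  have horbit : MulAction.orbit G W₀ = {W : Submodule F V | (finrank F W = m ∧ ∀ w ∈ W, Q w = 0) ∧ W ≤ A} := by
    ext W
    constructor
    · rintro ⟨g, rfl⟩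
      refine ⟨htsmap g.2.1 ⟨W₀, hW₀d, hW₀ts⟩, ?_⟩
      rintro _ ⟨x, hx, rfl⟩
      exact hgA g x (hW₀A hx)
    · rintro ⟨⟨hWd, hWts⟩, hle⟩
      have hR0 : ∀ {U : Submodule F V}, U ≤ A → ∀ u ∈ U, ∀ z ∈ R, u + z = 0 → u = 0 ∧ z = 0 := fun {U} hU u hu z hz e => by
        have hu' : u ∈ R := by rw [eq_neg_of_add_eq_zero_left e]; exact neg_mem hz
        have : u = 0 := (fix_perp h (hU hu) hu').2 rfl
        exact ⟨this, by rwa [this, zero_add] at e⟩
      let ψ : W₀ ≃ₗ[F] W := LinearEquiv.ofFinrankEq _ _ (hW₀d.trans hWd.symm)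
      let a : W₀ × R →ₗ[F] V := W₀.subtype.coprod R.subtype
      let b : W₀ × R →ₗ[F] V := (W.subtype.comp ψ.toLinearMap).coprod R.subtype
      have hainj : Function.Injective a := (injective_iff_map_eq_zero a).mpr fun x hx => by
        obtain ⟨e1, e2⟩ := hR0 hW₀A x.1 x.1.2 x.2 x.2.2 (by simpa [a] using hx)
        exact Prod.ext (Subtype.ext e1) (Subtype.ext e2)
      have hbinj : Function.Injective b := (injective_iff_map_eq_zero b).mpr fun x hx => by
        obtain ⟨e1, e2⟩ := hR0 hle (ψ x.1) (ψ x.1).2 x.2 x.2.2 (by simpa [b] using hx)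
        exact Prod.ext (ψ.injective (by rw [Prod.fst_zero, map_zero]; exact Subtype.ext e1)) (Subtype.ext e2)
      let e := LinearEquiv.ofInjective a hainj
      obtain ⟨g, hg, hgX⟩ := CfsgLib.WittExtension.quad_extend Q (nondeg_of hQ) (LinearMap.range a)
        (b.comp e.symm.toLinearMap) (hbinj.comp e.symm.injective) (fun y => by
          conv_rhs => rw [← e.apply_symm_apply y]
          show Q ((ψ (e.symm y).1 : V) + ((e.symm y).2 : V)) = Q (((e.symm y).1 : V) + ((e.symm y).2 : V))
          rw [q_add, q_add, horth _ (hle (ψ _).2) _ (e.symm y).2.2, horth _ (hW₀A (e.symm y).1.2) _ (e.symm y).2.2,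
            hWts _ (ψ _).2, hW₀ts _ (e.symm y).1.2])
      have hga : ∀ x, g (a x) = b x := fun x => by
        have := hgX (e x)
        rw [LinearMap.comp_apply, LinearEquiv.coe_coe, e.symm_apply_apply] at this
        exact this
      refine ⟨⟨g, hg, fun z hz => by simpa [a, b] using hga (0, ⟨z, hz⟩)⟩, Submodule.eq_of_le_of_finrank_eq ?_
        ((LinearEquiv.finrank_map_eq g W₀).trans (hW₀d.trans hWd.symm))⟩
      rintro _ ⟨w, hw, rfl⟩
      have := hga (⟨w, hw⟩, 0)
      simp only [a, b, LinearMap.coprod_apply, map_zero, add_zero, Submodule.subtype_apply] at this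
      show g w ∈ W
      rw [this]
      exact (ψ ⟨w, hw⟩).2
  have hcard : σ.supportᶜ.card = (MulAction.orbit G W₀).ncard := by
    rw [horbit, ← Set.ncard_coe_finset, ← Set.ncard_image_of_injective _ (Subtype.val_injective : Function.Injective
      (fun W : TSub Q m => W.1))]
    congr 1
    ext W
    simp only [Set.mem_image, Finset.mem_coe, Finset.mem_compl, Equiv.Perm.mem_support, not_not, Set.mem_ofPred_eq]
    constructor
    · rintro ⟨W', hW', rfl⟩
      exact ⟨W'.2, (hfixed W').mp hW'⟩
    · rintro ⟨a, hle⟩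
      exact ⟨⟨W, a⟩, (hfixed _).mpr hle, rfl⟩
  rw [hcard, ← MulAction.index_stabilizer] at hfix
  obtain ⟨g, hg⟩ := exists_prime_orderOf_dvd_card' (G := G) r (hfix.trans (Subgroup.index_dvd_card _))
  set T' : Module.End F V := (g.1 : V →ₗ[F] V)
  have hT'pow : ∀ n : ℕ, T' ^ n = (((g ^ n : G) : V ≃ₗ[F] V) : V →ₗ[F] V) := fun n => by
    induction n with
    | zero => rfl
    | succ n ih => rw [pow_succ', ih, pow_succ']; rfl
  have hT'r : T' ^ r = 1 := by
    rw [hT'pow]
    have := pow_orderOf_eq_one g
    rw [hg] at this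
    rw [this]; rfl
  have hg1 : g = 1 := Subtype.ext (LinearEquiv.ext fun v =>
    LinearMap.congr_fun (hno T' g.2.1 hT'r g.2.2) v)
  rw [hg1, orderOf_one] at hg
  exact (Fact.out : r.Prime).one_lt.ne hg

end CfsgLib.OrthIso
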