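/-
Isometries of odd prime order with prescribed fixed space and unbalanced moved components.
-/
import Cfsg.Agent.Lib.OrthIso.Class
import Cfsg.Agent.Lib.PrimeIso.SympNeg

set_option autoImplicit false
set_option linter.unusedSectionVars false
set_option maxHeartbeats 1000000

namespace CfsgLib.OrthIso

open Module Polynomial QuadraticMap CfsgLib.PrimeIso CfsgLib.MaxSub.Elusive
open scoped Matrix

universe u v

variable {F : Type u} [Field F] [Fintype F] {p r : ℕ} [Fact p.Prime] [CharP F p] [Fact r.Prime]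
  {V : Type v} [AddCommGroup V] [Module F V] [FiniteDimensional F V] {Q : QuadraticForm F V}

theorem fix_iff {T : Module.End F V} (x : V) :
    x ∈ LinearMap.ker (aeval T (X - C (1 : F))) ↔ T x = x := by
  simp [sub_eq_zero]

/-- A fixed-point-free orthogonal isometry on a space of the given dimension. -/
theorem exists_moved_model (hrp : r ≠ p) (hr2 : r ≠ 2) {b i c e : ℕ}
    (hi : i = orderOf (Fintype.card F : ZMod r)) (hc : c = if Even i then i else 2 * i) (hb : 2 * b = e * c) :
    ∃ (Q' : QuadraticForm F (Fin b ⊕ Fin b → F)) (T : Module.End F (Fin b ⊕ Fin b → F)),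
      (∀ v, Q' (T v) = Q' v) ∧ T ^ r = 1 ∧ aeval T (geom F r) = 0 ∧
      ND (polarBilin Q') (⊤ : Submodule F (Fin b ⊕ Fin b → F)) ∧
      (Even i → (e ≤ (r - 1) / i ∨ Even (e - (r - 1) / i)) → ∀ W : Submodule F (Fin b ⊕ Fin b → F), Inv T W →
        (∀ w ∈ W, Q' w = 0) → 2 * finrank F W ≤ (e - (r - 1) / i) * i) := by
  classical
  have hr : r.Prime := Fact.out
  obtain ⟨x, hx, hfix, hbound⟩ : ∃ x : Matrix.symplecticGroup (Fin b) F, x ^ r = 1 ∧
      finrank F (LinearMap.ker (aeval (Matrix.toLin' (x : Matrix (Fin b ⊕ Fin b) (Fin b ⊕ Fin b) F))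
        (X - C (1 : F)))) = 0 ∧
      (Even i → (e ≤ (r - 1) / i ∨ Even (e - (r - 1) / i)) → ∀ W : Submodule F (Fin b ⊕ Fin b → F),
        Inv (Matrix.toLin' (x : Matrix (Fin b ⊕ Fin b) (Fin b ⊕ Fin b) F)) W →
        (∀ u ∈ W, ∀ v ∈ W, CfsgLib.IsotropicCount.sympB b F u v = 0) →
        2 * finrank F ↥(W ⊓ LinearMap.ker (aeval (Matrix.toLin' (x : Matrix (Fin b ⊕ Fin b) (Fin b ⊕ Fin b) F))
          (geom F r))) ≤ (e - (r - 1) / i) * i) := by
    by_cases hcase : Even i ∧ (e ≤ (r - 1) / i ∨ Even (e - (r - 1) / i))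
    · rw [if_pos hcase.1] at hc
      obtain ⟨x, hx, hf, hb'⟩ := exists_unbalanced (F := F) (p := p) (d := b) hrp hi hcase.1 (e := e) (k := 0)
        (by subst hc; omega) hcase.2
      exact ⟨x, hx, hf, fun _ _ => hb'⟩
    · obtain ⟨x, hx, hf⟩ := exists_blocks_fix (F := F) (p := p) (d := b) hrp hi hc (e := e) (k := 0) (by omega)
      exact ⟨x, hx, hf, fun h1 h2 => absurd ⟨h1, h2⟩ hcase⟩
  set T := Matrix.toLin' (x : Matrix (Fin b ⊕ Fin b) (Fin b ⊕ Fin b) F) with hTdef
  set B := CfsgLib.IsotropicCount.sympB b F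
  have halt : ∀ v, B v v = 0 := CfsgLib.IsotropicCount.sympB_alt
  have hper : PerIso B T r :=
    perIso_of_symp (CfsgLib.GLClassNumber.natCast_ne_zero_of_prime_ne (p := p) hr hrp) x (by
      simpa using congrArg Subtype.val hx)
  have hsum := finrank_split hper (inv_top (T := T))
  rw [top_inf_eq, top_inf_eq, hfix, zero_add] at hsum
  have hker : LinearMap.ker (aeval T (geom F r)) = ⊤ := Submodule.eq_top_of_finrank_eq (hsum.trans (finrank_top F _))
  let Q' : QuadraticForm F (Fin b ⊕ Fin b → F) := LinearMap.BilinMap.toQuadraticMap (LinearMap.comp B T)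
  have hQ' : ∀ v, Q' v = B (T v) v := fun v => rfl
  have hpol : ∀ u v, polar Q' u v = B (T (T u) - u) (T v) := fun u v => by
    simp only [polar, hQ', map_add, LinearMap.add_apply]
    rw [map_sub, LinearMap.sub_apply, hper.iso, alt_swap halt u (T v)]
    ring
  have hT2 : ∀ u, T (T u) = u → u = 0 := fun u hu => by
    have hk : ∀ n, (T ^ (2 * n)) u = u := fun n => by
      induction n with
      | zero => rfl
      | succ n ih => rw [mul_add, mul_one, pow_add, Module.End.mul_apply, pow_two, Module.End.mul_apply, hu, ih]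
    obtain ⟨k, hk'⟩ := hr.odd_of_ne_two hr2
    have h3 : (T ^ r) u = u := by rw [hper.per, Module.End.one_apply]
    rw [hk', pow_succ', Module.End.mul_apply, hk] at h3
    have h4 : u ∈ LinearMap.ker (aeval T (X - C (1 : F))) := (fix_iff u).mpr h3
    rwa [Submodule.finrank_eq_zero.mp hfix, Submodule.mem_bot] at h4
  refine ⟨Q', T, fun v => ?_, hper.per, LinearMap.ker_eq_top.mp hker, fun u _ hu => hT2 u ?_,
    fun h1 h2 W hW hts => ?_⟩
  · rw [hQ', hQ', hper.iso]
  · refine sub_eq_zero.mp (CfsgLib.IsotropicCount.sympB_nondeg.1 _ fun v => ?_)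
    have h5 := hu ((T ^ (r - 1)) v) trivial
    rw [polarBilin_apply_apply, hpol, ← Module.End.mul_apply (f := T) (g := T ^ (r - 1)), ← pow_succ',
      Nat.sub_add_cancel hr.one_le, hper.per, Module.End.one_apply] at h5
    exact h5
  · refine (?_ : 2 * finrank F W ≤ _)
    have h3 := hbound h1 h2 W hW ?_
    · rwa [hker, inf_top_eq] at h3
    let D : W →ₗ[F] W := (T ^ 2 - 1 : Module.End F _).restrict fun v hv => sub_mem (hW.pow 2 v hv) hv
    let E : W →ₗ[F] W := T.restrict hW
    have hDinj : Function.Injective D := (injective_iff_map_eq_zero D).mpr fun v hv => Subtype.ext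
      (hT2 v.1 (sub_eq_zero.mp (by simpa [D, pow_two] using congrArg Subtype.val hv)))
    have hEinj : Function.Injective E := (injective_iff_map_eq_zero E).mpr fun v hv => Subtype.ext
      (hT2 v.1 (by
        have h5 : T v.1 = 0 := congrArg Subtype.val hv
        have h6 : v.1 = 0 := by
          have := congrArg (fun w => (T ^ (r - 1)) w) h5
          rwa [map_zero, ← Module.End.mul_apply, ← pow_succ, Nat.sub_add_cancel hr.one_le, hper.per,
            Module.End.one_apply] at this
        rw [h6, map_zero, map_zero]))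
    intro u hu v hv
    obtain ⟨u', hu'⟩ := (LinearMap.injective_iff_surjective.mp hDinj) ⟨u, hu⟩
    obtain ⟨v', hv'⟩ := (LinearMap.injective_iff_surjective.mp hEinj) ⟨v, hv⟩
    rw [show u = T (T u'.1) - u'.1 from (by simpa [D, pow_two] using (congrArg Subtype.val hu').symm),
      show v = T v'.1 from (congrArg Subtype.val hv').symm, ← hpol]
    simp [polar, hts _ u'.2, hts _ v'.2, hts _ (add_mem u'.2 v'.2)]

/-- The model inside a given space. -/
theorem exists_ts_model (hrp : r ≠ p) (hr2 : r ≠ 2) (hQ : ND (polarBilin Q) (⊤ : Submodule F V)) {n i c e k : ℕ}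
    (hn : finrank F V = n) (hi : i = orderOf (Fintype.card F : ZMod r)) (hc : c = if Even i then i else 2 * i)
    (hek : e * c + k = n) (hmatch : k = 0 → (Plus Q (⊤ : Submodule F V) ↔ (Odd i ∨ Even e))) :
    ∃ T : Module.End F V, (∀ v, Q (T v) = Q v) ∧ T ^ r = 1 ∧
      finrank F (LinearMap.ker (aeval T (X - C (1 : F)))) = k ∧
      (Even i → (e ≤ (r - 1) / i ∨ Even (e - (r - 1) / i)) → ∀ W : Submodule F V, Inv T W → (∀ w ∈ W, Q w = 0) →
        2 * finrank F ↥(W ⊓ LinearMap.ker (aeval T (geom F r))) ≤ (e - (r - 1) / i) * i) := by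
  classical
  have hce : Even c := by
    rw [hc]; split_ifs with h
    · exact h
    · exact even_two_mul i
  obtain ⟨b, hb⟩ := hce.mul_left e
  obtain ⟨Q', T', hT', hT'r, hgeom, hQ'n, hbound⟩ :=
    exists_moved_model (F := F) (p := p) (r := r) hrp hr2 hi hc (b := b) (e := e) (by omega)
  have hMd : finrank F (⊤ : Submodule F (Fin b ⊕ Fin b → F)) = 2 * b := by
    rw [finrank_top, Module.finrank_fintype_fun_eq_card, Fintype.card_sum, Fintype.card_fin]; omega
  have hMp : Plus Q' (⊤ : Submodule F (Fin b ⊕ Fin b → F)) ↔ (Odd i ∨ Even e) :=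
    type_moved hrp hr2 hT' hT'r hi hc inv_top (fun v _ => by rw [LinearMap.mem_ker, hgeom]; rfl) hQ'n (by omega)
  obtain ⟨U, hUn, hUd, hUp⟩ : ∃ U : Submodule F V, ND (polarBilin Q) U ∧ finrank F U = 2 * b ∧
      (Plus Q' (⊤ : Submodule F (Fin b ⊕ Fin b → F)) ↔ Plus Q U) := by
    rcases Nat.eq_zero_or_pos k with hk | hk
    · exact ⟨⊤, hQ, by rw [finrank_top, hn]; omega, hMp.trans (hmatch hk).symm⟩
    rcases Nat.eq_zero_or_pos b with hb0 | hb0
    · have hM0 : (⊤ : Submodule F (Fin b ⊕ Fin b → F)) = ⊥ := Submodule.finrank_eq_zero.mp (by omega)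
      exact ⟨⊥, fun x hx _ => (Submodule.mem_bot F).mp hx, by rw [finrank_bot]; omega,
        iff_of_true ⟨⊥, bot_le, fun u hu => by rw [(Submodule.mem_bot F).mp hu, QuadraticMap.map_zero],
          by rw [hM0, finrank_bot]⟩
          ⟨⊥, le_rfl, fun u hu => by rw [(Submodule.mem_bot F).mp hu, QuadraticMap.map_zero], by simp⟩⟩
    · obtain ⟨U, -, hUn, hUd, hUp⟩ := exists_type hQ hb0 (by rw [finrank_top, hn]; omega)
        (Plus Q' (⊤ : Submodule F (Fin b ⊕ Fin b → F)))
      exact ⟨U, hUn, hUd, hUp.symm⟩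
  obtain ⟨φ₀, hφ₀⟩ := exists_iso_of_type hQ'n hUn hMd hUd hUp
  let φ : (Fin b ⊕ Fin b → F) ≃ₗ[F] U := Submodule.topEquiv.symm.trans φ₀
  have hφ : ∀ v, Q (φ v : V) = Q' v := fun v => hφ₀ ⟨v, trivial⟩
  obtain ⟨T, hT, hTpow, hTφ, hTfix⟩ := exists_transport hQ hUn (Q' := Q') φ hφ T' hT'
  obtain ⟨-, -, hsup, hdim⟩ := split_perpIn (B := polarBilin Q) (fun x y hxy => by
    show polar Q y x = 0
    rw [polar_comm]; exact hxy) le_top hUn hQ
  set P := perpIn (polarBilin Q) U ⊤
  rw [finrank_top, hn] at hdim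
  have h := perIso_of hrp hT (hTpow r hT'r)
  have hTφn : ∀ (j : ℕ) m, (T ^ j) (φ m : V) = φ ((T' ^ j) m) := fun j => by
    induction j with
    | zero => intro m; rfl
    | succ j ih => intro m; rw [pow_succ', pow_succ', Module.End.mul_apply, Module.End.mul_apply, ih, hTφ]
  have hUR : U ≤ LinearMap.ker (aeval T (geom F r)) := fun v hv => by
    obtain ⟨m, hm⟩ := φ.surjective ⟨v, hv⟩
    rw [LinearMap.mem_ker, show v = (φ m : V) from (congrArg Subtype.val hm).symm]
    have h0 := LinearMap.congr_fun hgeom m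
    simp only [geom, map_sum, map_pow, aeval_X, LinearMap.sum_apply, LinearMap.zero_apply] at h0 ⊢
    simp only [hTφn]
    rw [← Submodule.coe_sum, ← map_sum, h0, map_zero]
    rfl
  have hPA : P ≤ LinearMap.ker (aeval T (X - C (1 : F))) := fun v hv => (fix_iff v).mpr (hTfix v hv)
  have hs := finrank_split h (inv_top (T := T))
  rw [top_inf_eq, top_inf_eq, finrank_top, hn] at hs
  have h1 := Submodule.finrank_mono hUR
  have h2 := Submodule.finrank_mono hPA
  have hR : LinearMap.ker (aeval T (geom F r)) = U := (Submodule.eq_of_le_of_finrank_le hUR (by omega)).symm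
  refine ⟨T, hT, hTpow r hT'r, by omega, fun hi2 hpar W hW hWts => ?_⟩
  let L : (Fin b ⊕ Fin b → F) →ₗ[F] V := U.subtype.comp φ.toLinearMap
  have hLinj : Function.Injective L := Subtype.val_injective.comp φ.injective
  have hb' := hbound hi2 hpar (W.comap L) (fun m hm => by
    show (φ (T' m) : V) ∈ W
    rw [← hTφ]; exact hW _ hm) (fun m hm => by rw [← hφ]; exact hWts _ hm)
  have hmap : (W.comap L).map L = W ⊓ LinearMap.ker (aeval T (geom F r)) := by
    rw [Submodule.map_comap_eq, hR, show LinearMap.range L = U by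
      rw [LinearMap.range_comp, LinearEquiv.range, Submodule.map_top, Submodule.range_subtype], inf_comm]
  rw [← hmap, ← (Submodule.equivMapOfInjective L hLinj _).finrank_eq]
  exact hb'

end CfsgLib.OrthIso
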