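/-
Isometries of odd prime order and invariant totally singular subspaces.
-/
import Cfsg.Agent.Lib.OrthIso.SingCount
import Cfsg.Agent.Lib.OrthIso.SingModels

set_option autoImplicit false
set_option linter.unusedSectionVars false
set_option maxHeartbeats 1000000

namespace CfsgLib.OrthIso

open Module Polynomial QuadraticMap CfsgLib.PrimeIso CfsgLib.MaxSub.Elusive

universe u v

/-- The arithmetic of the positive direction for even degree. -/
theorem pick_even {n i t f e m : ℕ} {P Z : Prop} (hi : Even i) (hipos : 0 < i) (hn : f + e * i = n)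
    (hcond : t + 2 * (m / i) ≤ n / i)
    (hE : 2 * (m % i) < n % i ∨ (2 * (m % i) = n % i ∧ (P ↔ Even (n / i))) ∨
      (n % i = 0 ∧ ¬ (P ↔ Even (n / i)) ∧ 2 * (m % i) ≤ i ∧ t + 2 * (m / i) < n / i))
    (hZ : Even f → (Z ↔ (P ↔ Even e))) (hf0 : f = 0 → (P ↔ Even e)) :
    ∃ k, k * i ≤ m ∧ (k = 0 ∨ 2 * k + t < e + 2) ∧ (2 * (m - k * i) < f ∨ (2 * (m - k * i) = f ∧ Z)) := by
  have hm := Nat.div_add_mod' m i
  have hnd := Nat.div_add_mod' n i
  have hl : m % i < i := Nat.mod_lt _ hipos
  set m' := m / i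
  set l := m % i
  set N := n / i with hN
  set k₀ := n % i
  have heN : e ≤ N := by
    rw [hN, Nat.le_div_iff_mul_le hipos]; omega
  obtain ⟨s, hs⟩ : ∃ s, N = e + s := ⟨N - e, by omega⟩
  have hf : f = k₀ + s * i := by
    rw [hs, add_mul] at hnd
    omega
  set K := (e + 1 - t) / 2 with hK
  set k := min m' K with hk
  obtain ⟨D, hD⟩ : ∃ D, s = D + 2 * (m' - k) := ⟨s - 2 * (m' - k), by omega⟩
  obtain ⟨j, hj⟩ : ∃ j, m' = k + j := ⟨m' - k, by omega⟩
  have hjD : s = D + 2 * j := by omega
  have e1 : m' * i = k * i + j * i := by rw [hj, add_mul]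
  have e2 : s * i = D * i + 2 * (j * i) := by rw [hjD, add_mul, mul_assoc]
  have hsub : m - k * i = l + j * i := by omega
  refine ⟨k, by omega, by omega, ?_⟩
  rw [hsub]
  rcases D with _ | _ | D
  · rw [zero_mul, zero_add] at e2
    rcases hE with h1 | ⟨h1, h2⟩ | ⟨h1, h2, h3, h4⟩
    · exact Or.inl (by omega)
    · refine Or.inr ⟨by omega, ?_⟩
      have hpar : Even N ↔ Even e := by
        rw [hs, Nat.even_add]
        have : Even s := ⟨j, by omega⟩
        tauto
      have hfe : Even f := ⟨l + j * i, by omega⟩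
      rw [hZ hfe]
      tauto
    · exfalso
      rcases Nat.eq_zero_or_pos s with h0 | h0
      · rw [h0, zero_mul] at hf
        exact h2 (by rw [hs, h0, add_zero]; exact hf0 (by omega))
      · omega
  · rw [zero_add, one_mul] at e2
    rw [zero_add] at hjD
    obtain ⟨h, hh⟩ := hi
    rcases hE with h1 | ⟨h1, h2⟩ | ⟨h1, h2, h3, h4⟩
    · exact Or.inl (by omega)
    · exact Or.inl (by omega)
    · rcases lt_or_eq_of_le h3 with h5 | h5
      · exact Or.inl (by omega)
      · refine Or.inr ⟨by omega, ?_⟩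
        have hso : ¬ Even s := fun ⟨a, ha⟩ => by omega
        have hpar : Even N ↔ ¬ Even e := by
          rw [hs, Nat.even_add]
          tauto
        have hfe : Even f := ⟨l + j * i, by omega⟩
        rw [hZ hfe]
        tauto
  · have e3 : (D + 1 + 1) * i = D * i + 2 * i := by ring
    exact Or.inl (by omega)

/-- The arithmetic of the positive direction for odd degree. -/
theorem pick_odd {n i f e m : ℕ} {P Z : Prop} (hipos : 0 < i) (hn : f + e * (2 * i) = n) (hmn : 2 * m < n)
    (hE : 2 * (m % i) < n % (2 * i) ∨ (2 * (m % i) = n % (2 * i) ∧ P) ∨ (n % (2 * i) = 0 ∧ ¬ P))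
    (hZ : Even f → (Z ↔ P)) (hf0 : f = 0 → P) :
    ∃ k, k * i ≤ m ∧ k ≤ e ∧ (2 * (m - k * i) < f ∨ (2 * (m - k * i) = f ∧ Z)) := by
  have hm := Nat.div_add_mod' m i
  have hl : m % i < i := Nat.mod_lt _ hipos
  have e0 : e * (2 * i) = 2 * (e * i) := by ring
  rcases le_total e (m / i) with h1 | h1
  · have := Nat.mul_le_mul_right i h1
    exact ⟨e, by omega, le_rfl, Or.inl (by omega)⟩
  refine ⟨m / i, by omega, h1, ?_⟩
  have hfk : f % (2 * i) = n % (2 * i) := by rw [← hn, Nat.add_mul_mod_self_right]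
  have hle := Nat.mod_le f (2 * i)
  rcases Nat.lt_or_ge f (2 * i) with h2 | h2
  · rw [Nat.mod_eq_of_lt h2] at hfk
    rcases hE with h3 | ⟨h3, h4⟩ | ⟨h3, h4⟩
    · exact Or.inl (by omega)
    · exact Or.inr ⟨by omega, (hZ ⟨m % i, by omega⟩).mpr h4⟩
    · exact absurd (hf0 (by omega)) h4
  · exact Or.inl (by omega)

variable {F : Type u} [Field F] [Fintype F] {V : Type v} [AddCommGroup V] [Module F V] [FiniteDimensional F V]
  {Q : QuadraticForm F V} {p r : ℕ} [Fact p.Prime] [CharP F p] [Fact r.Prime]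

theorem ts_add_smul {W : Submodule F V} (h : ∀ w ∈ W, Q w = 0) {W' : Submodule F V} (h' : ∀ w ∈ W', Q w = 0)
    (horth : ∀ w ∈ W, ∀ w' ∈ W', polar Q w w' = 0) : ∀ x ∈ W ⊔ W', Q x = 0 := fun x hx => by
  obtain ⟨a, ha, b, hb, rfl⟩ := Submodule.mem_sup.mp hx
  rw [q_add, h a ha, h' b hb, horth a ha b hb, add_zero, add_zero]

/-- A piece of a subspace. -/
theorem exists_sub_dim (U : Submodule F V) {b : ℕ} (hb : b ≤ finrank F U) : ∃ X ≤ U, finrank F X = b := by
  let v := Module.finBasis F U
  refine ⟨Submodule.span F (Set.range fun j : Fin b => (v (Fin.castLE hb j) : V)), Submodule.span_le.mpr ?_, ?_⟩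
  · rintro _ ⟨j, rfl⟩; exact (v _).2
  · rw [finrank_span_eq_card, Fintype.card_fin]
    exact (v.linearIndependent.comp _ (Fin.castLE_injective hb)).map' U.subtype (Submodule.ker_subtype U)

/-- Totally singular subspaces of a non-degenerate subspace. -/
theorem exists_ts_in {A : Submodule F V} (hA : ND (polarBilin Q) A) {b : ℕ}
    (hb : 2 * b < finrank F A ∨ (2 * b = finrank F A ∧ Plus Q A)) :
    ∃ W ≤ A, finrank F W = b ∧ ∀ w ∈ W, Q w = 0 := by
  rcases hb with hb | ⟨hb, U, hU, hUts, hUd⟩
  · obtain ⟨e, f, h⟩ := CfsgLib.FiniteForms.exists_hypFam b A (Q.comp A.subtype) (pn_restrict hA) hb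
    refine ⟨(Submodule.span F (Set.range e)).map A.subtype, Submodule.map_subtype_le _ _, ?_, ?_⟩
    · rw [Submodule.finrank_map_subtype_eq,
        finrank_span_eq_card (b := e) (h.linearIndependent.comp Sum.inl Sum.inl_injective), Fintype.card_fin]
    · rintro _ ⟨x, hx, rfl⟩
      obtain ⟨c, rfl⟩ := Submodule.mem_span_range_iff_exists_fun F |>.mp hx
      exact CfsgLib.FiniteForms.quad_sum_eq_zero _ c e h.qe h.ee
  · exact ⟨U, hU, by omega, hUts⟩

theorem ts_in_le {A W : Submodule F V} (hA : ND (polarBilin Q) A) (hW : W ≤ A) (hts : ∀ w ∈ W, Q w = 0) :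
    2 * finrank F W < finrank F A ∨ (2 * finrank F W = finrank F A ∧ Plus Q A) := by
  rcases lt_or_eq_of_le (two_mul_plus_le hA hW hts) with h | h
  · exact Or.inl h
  · exact Or.inr ⟨h, W, hW, hts, h⟩

variable (hrp : r ≠ p) (hr2 : r ≠ 2) (hQ : ND (polarBilin Q) (⊤ : Submodule F V))
include hrp hr2 hQ

/-- The fixed space and the moved part. -/
theorem fix_data {n i c : ℕ} (hn : finrank F V = n) (hi : i = orderOf (Fintype.card F : ZMod r))
    (hc : c = if Even i then i else 2 * i) {T : Module.End F V} (hT : ∀ v, Q (T v) = Q v) (hTr : T ^ r = 1) :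
    ND (polarBilin Q) (LinearMap.ker (aeval T (X - C (1 : F)))) ∧
    ND (polarBilin Q) (LinearMap.ker (aeval T (geom F r))) ∧
    ∃ e, finrank F (LinearMap.ker (aeval T (geom F r))) = e * c ∧
      finrank F (LinearMap.ker (aeval T (X - C (1 : F)))) + e * c = n ∧
      (Even n → (Plus Q (LinearMap.ker (aeval T (X - C (1 : F)))) ↔
        (Plus Q (⊤ : Submodule F V) ↔ (Odd i ∨ Even e)))) ∧
      (finrank F (LinearMap.ker (aeval T (X - C (1 : F)))) = 0 →
        (Plus Q (⊤ : Submodule F V) ↔ (Odd i ∨ Even e))) := by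
  have h := perIso_of hrp hT hTr
  obtain ⟨hAn, hRn, hsup⟩ := nd_parts h (inv_top (T := T)) hQ
  obtain ⟨e, he, hsum⟩ := split_dim hrp hr2 hQ hT hTr (c := c) (by rw [← hi]; exact hc) inv_top hQ
  rw [finrank_top, hn] at hsum
  rw [top_inf_eq] at he hAn hRn hsum
  rw [top_inf_eq, top_inf_eq] at hsup
  set A := LinearMap.ker (aeval T (X - C (1 : F)))
  set R := LinearMap.ker (aeval T (geom F r))
  have hRp : Plus Q R ↔ (Odd i ∨ Even e) := type_moved hrp hr2 hT hTr hi hc (inv_ker _) le_rfl hRn he
  refine ⟨hAn, hRn, e, he, hsum, fun hne => ?_, fun h0 => ?_⟩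
  · have hce : Even (e * c) := by
      refine Nat.even_mul.mpr (Or.inr ?_)
      rw [hc]; split_ifs with h'
      · exact h'
      · exact even_two_mul i
    have hAe : Even (finrank F A) := by
      rw [← hsum] at hne
      exact (Nat.even_add.mp hne).mpr hce
    rw [← hsup, plus_sup_iff hAn hRn (fun a ha z hz => (fix_perp h ha hz).1) hAe (he ▸ hce), hRp]
    tauto
  · have hA0 : A = ⊥ := Submodule.finrank_eq_zero.mp h0
    rw [hA0, bot_sup_eq] at hsup
    rw [← hsup]
    exact hRp

/-- A fixed space too small to be moved. -/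
theorem no_moved {n i c : ℕ} (hn : finrank F V = n) (hi : i = orderOf (Fintype.card F : ZMod r))
    (hc : c = if Even i then i else 2 * i) {T : Module.End F V} (hT : ∀ v, Q (T v) = Q v) (hTr : T ^ r = 1)
    (hsmall : finrank F (LinearMap.ker (aeval T (X - C (1 : F)))) < c ∨
      (finrank F (LinearMap.ker (aeval T (X - C (1 : F)))) = c ∧
        ¬ (Plus Q (LinearMap.ker (aeval T (X - C (1 : F)))) ↔ Odd i)))
    (T' : Module.End F V) (hT' : ∀ v, Q (T' v) = Q v) (hT'r : T' ^ r = 1)
    (hfix : ∀ z ∈ LinearMap.ker (aeval T (geom F r)), T' z = z) : T' = 1 := by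
  have h := perIso_of hrp hT hTr
  have h' := perIso_of hrp hT' hT'r
  obtain ⟨hAn, hRn, e, he, hsum, -⟩ := fix_data hrp hr2 hQ hn hi hc hT hTr
  obtain ⟨-, hR'n, e', he', hsum', -⟩ := fix_data hrp hr2 hQ hn hi hc hT' hT'r
  obtain ⟨-, -, hsup⟩ := nd_parts h (inv_top (T := T)) hQ
  rw [top_inf_eq, top_inf_eq] at hsup
  set A := LinearMap.ker (aeval T (X - C (1 : F)))
  set R := LinearMap.ker (aeval T (geom F r))
  set A' := LinearMap.ker (aeval T' (X - C (1 : F)))
  set R' := LinearMap.ker (aeval T' (geom F r))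
  have hle : R ≤ A' := fun z hz => (fix_iff z).mpr (hfix z hz)
  have h1 := Submodule.finrank_mono hle
  have he0 : e' = 0 := by
    by_contra h0
    have h2 := Nat.le_mul_of_pos_left c (Nat.pos_of_ne_zero h0)
    rcases hsmall with h3 | ⟨h3, h4⟩
    · omega
    have he1 : e' * c = 1 * c := by rw [one_mul]; omega
    have hcpos : 0 < c := by
      have := hi ▸ order_pos (F := F) (p := p) (r := r) hrp
      rw [hc]; split_ifs <;> omega
    have he1' := Nat.eq_of_mul_eq_mul_right hcpos he1
    have hR'A : R' = A := by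
      refine Submodule.eq_of_le_of_finrank_eq (fun x hx => ?_) (by omega)
      obtain ⟨a, ha, z, hz, rfl⟩ := Submodule.mem_sup.mp (hsup.ge (Submodule.mem_top (x := x)))
      have hz0 : z = 0 := hRn z hz fun y hy => by
        show polar Q z y = 0
        have h5 : polar Q y (a + z) = 0 := (fix_perp h' (hle hy) hx).1
        rw [polar_add_right, polar_comm Q y a, show polar Q a y = 0 from (fix_perp h ha hy).1, zero_add,
          polar_comm] at h5
        exact h5
      rw [hz0, add_zero]; exact ha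
    have ht : Plus Q R' ↔ (Odd i ∨ Even e') := type_moved hrp hr2 hT' hT'r hi hc (inv_ker _) le_rfl hR'n he'
    rw [hR'A, he1'] at ht
    exact h4 (by simpa using ht)
  refine LinearMap.ext fun v => ?_
  rw [he0, zero_mul, add_zero] at hsum'
  exact (fix_iff v).mp ((Submodule.eq_top_of_finrank_eq (hsum'.trans hn.symm)).ge trivial)

/-- The criterion for totally singular subspaces in odd order prime to the characteristic. -/
theorem ts_semisimple {n m i c : ℕ} (hn : finrank F V = n) (hm : 1 ≤ m) (hmn : 2 * m < n)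
    (hdvd : r ∣ Nat.card (TSub Q m))
    (hi : i = orderOf (Fintype.card F : ZMod r)) (hc : c = if Even i then i else 2 * i) :
    (∀ T : Module.End F V, (∀ v, Q (T v) = Q v) → T ^ r = 1 → T ≠ 1 →
      ∃ W, Inv T W ∧ finrank F W = m ∧ ∀ w ∈ W, Q w = 0) ↔
    (i ≤ m ∧
      ((Odd i ∧ (2 * (m % i) < n % c ∨ (2 * (m % i) = n % c ∧ Plus Q (⊤ : Submodule F V)) ∨
          (n % c = 0 ∧ ¬ Plus Q (⊤ : Submodule F V)))) ∨
        (Even i ∧ (r - 1) / i + 2 * (m / i) ≤ n / i ∧
          (2 * (m % i) < n % c ∨ (2 * (m % i) = n % c ∧ (Plus Q (⊤ : Submodule F V) ↔ Even (n / i))) ∨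
            (n % c = 0 ∧ ¬ (Plus Q (⊤ : Submodule F V) ↔ Even (n / i)) ∧ 2 * (m % i) ≤ i ∧
              (r - 1) / i + 2 * (m / i) < n / i))))) := by
  classical
  have hr : r.Prime := Fact.out
  have hipos : 0 < i := hi ▸ order_pos (F := F) (p := p) (r := r) hrp
  have hcpos : 0 < c := by rw [hc]; split_ifs <;> omega
  have hci : c ≤ 2 * i := by rw [hc]; split_ifs <;> omega
  have hidvd : i ∣ r - 1 := hi ▸ order_dvd_pred (F := F) hrp
  have ht : 0 < (r - 1) / i :=
    Nat.div_pos (Nat.le_of_dvd (by have := hr.two_le; omega) hidvd) hipos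
  set PV := Plus Q (⊤ : Submodule F V) with hPV
  have hdn := Nat.div_add_mod' n c
  have hdm := Nat.div_add_mod' m i
  have hml : m % i < i := Nat.mod_lt _ hipos
  have hnk : n % c < c := Nat.mod_lt _ hcpos
  set Rm : ℕ → Prop := fun e => Odd i ∨ Even e with hRm
  -- models and their invariant subspaces
  have model : ∀ e, e * c ≤ n → (e * c = n → (PV ↔ Rm e)) → ∃ T : Module.End F V, (∀ v, Q (T v) = Q v) ∧
      T ^ r = 1 ∧ finrank F (LinearMap.ker (aeval T (X - C (1 : F)))) = n - e * c ∧ (0 < e → T ≠ 1) ∧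
      ∀ W, Inv T W → finrank F W = m → (∀ w ∈ W, Q w = 0) → ∃ k, k * i ≤ m ∧
        (Even i → (e ≤ (r - 1) / i ∨ Even (e - (r - 1) / i)) → 2 * k ≤ e - (r - 1) / i) ∧
        (2 * (m - k * i) < n - e * c ∨ (2 * (m - k * i) = n - e * c ∧ (PV ↔ Rm e))) := by
    intro e hle hmatch
    obtain ⟨T, hT, hTr, hTf, hbound⟩ := exists_ts_model hrp hr2 hQ hn hi hc (e := e) (k := n - e * c) (by omega)
      (fun h0 => hmatch (by omega))
    refine ⟨T, hT, hTr, hTf, fun he hT1 => ?_, fun W hW hWd hWts => ?_⟩
    · rw [hT1, show aeval (1 : Module.End F V) (X - C (1 : F)) = 0 by simp, LinearMap.ker_zero, finrank_top, hn] at hTf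
      have := Nat.mul_pos he hcpos
      omega
    obtain ⟨hAn, -, e', he', hsum', hAp, -⟩ := fix_data hrp hr2 hQ hn hi hc hT hTr
    have hee : e' = e := Nat.eq_of_mul_eq_mul_right hcpos (by omega)
    subst hee
    have h := perIso_of hrp hT hTr
    obtain ⟨⟨k, hk⟩, -⟩ := dims_of_ker (fun g h1 h2 h3 => hi ▸ geom_degree (p := p) hr hrp h1 h2 h3)
      (hW.inf (inv_ker (T := T) (geom F r))) inf_le_right
    have hs := finrank_split h hW
    rw [hk, hWd, mul_comm i k] at hs
    refine ⟨k, by omega, fun h1 h2 => ?_, ?_⟩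
    · have h3 := hbound h1 h2 W hW hWts
      rw [hk, mul_comm i k, ← mul_assoc] at h3
      exact Nat.le_of_mul_le_mul_right h3 hipos
    · rw [show m - k * i = finrank F ↥(W ⊓ LinearMap.ker (aeval T (X - C (1 : F)))) by omega, ← hTf]
      rcases ts_in_le hAn inf_le_right (fun w hw => hWts w hw.1 : ∀ w ∈ W ⊓ LinearMap.ker (aeval T (X - C (1 : F))), Q w = 0)
        with h4 | ⟨h4, h5⟩
      · exact Or.inl h4
      · refine Or.inr ⟨h4, (hAp ?_).mp h5⟩
        have hce : Even (e' * c) := by
          refine Nat.even_mul.mpr (Or.inr ?_)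
          rw [hc]; split_ifs with h'
          · exact h'
          · exact even_two_mul i
        rw [← hsum']
        exact Even.add ⟨_, h4.symm.trans (two_mul _)⟩ hce
  constructor
  · intro H
    -- small subspaces
    have him : i ≤ m := by
      by_contra hmi
      push Not at hmi
      obtain ⟨e, hle, hmatch, hsm⟩ : ∃ e, e * c ≤ n ∧ (e * c = n → (PV ↔ Rm e)) ∧
          (n - e * c < c ∨ (n - e * c = c ∧ ¬ ((PV ↔ Rm e) ↔ Odd i))) := by
        by_cases hmis : n % c = 0 ∧ ¬ (PV ↔ Rm (n / c))
        · obtain ⟨E, hE⟩ : ∃ E, n / c = E + 1 := ⟨n / c - 1, by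
            have : c ≤ n := Nat.le_of_dvd (by omega) (Nat.dvd_of_mod_eq_zero hmis.1)
            have := Nat.div_pos this hcpos
            omega⟩
          rw [hE, add_mul, one_mul] at hdn
          refine ⟨E, by omega, fun h0 => absurd h0 (by omega), Or.inr ⟨by omega, fun hiff => hmis.2 ?_⟩⟩
          rw [hE]
          simp only [hRm, Nat.even_add_one] at hiff ⊢
          rcases Nat.even_or_odd i with h' | h'
          · simp only [Nat.not_odd_iff_even.mpr h', false_or, iff_false] at hiff ⊢
            tauto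
          · simp only [h', true_or, iff_true] at hiff ⊢
            exact hiff
        · refine ⟨n / c, by omega, fun h0 => ?_, Or.inl (by omega)⟩
          by_contra hne
          exact hmis ⟨by omega, hne⟩
      obtain ⟨T, hT, hTr, hTf, hT1, hW⟩ := model e hle hmatch
      obtain ⟨hAn, -, e', he', hsum', hAp, -⟩ := fix_data hrp hr2 hQ hn hi hc hT hTr
      have hee : e' = e := Nat.eq_of_mul_eq_mul_right hcpos (by omega)
      subst hee
      have hno := no_moved hrp hr2 hQ hn hi hc hT hTr (by
        rcases hsm with h1 | ⟨h1, h2⟩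
        · exact Or.inl (by omega)
        · refine Or.inr ⟨by omega, ?_⟩
          rw [hAp ?_]
          · exact h2
          · rw [← hsum', hTf, h1]
            refine Even.add ?_ (Nat.even_mul.mpr (Or.inr ?_)) <;>
            · rw [hc]; split_ifs with h'
              · exact h'
              · exact even_two_mul i)
      have hmiss := ts_meets_moved hrp hQ hT hTr (m := m) (hi ▸ hmi) hno hdvd
      rcases Nat.eq_zero_or_pos e' with h0 | h0
      · rw [h0, zero_mul, Nat.sub_zero] at hTf
        obtain ⟨W, hWA, hWd, hWts⟩ := exists_ts_in hAn (b := m) (Or.inl (by omega))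
        exact hmiss ⟨W, hWA, hWd, hWts⟩
      · obtain ⟨W, hWT, hWd, hWts⟩ := H T hT hTr (hT1 h0)
        have h := perIso_of hrp hT hTr
        obtain ⟨⟨k, hk⟩, -⟩ := dims_of_ker (fun g h1 h2 h3 => hi ▸ geom_degree (p := p) hr hrp h1 h2 h3)
          (hWT.inf (inv_ker (T := T) (geom F r))) inf_le_right
        have hs := finrank_split h hWT
        rw [hk, hWd] at hs
        have hk0 : k = 0 := by
          by_contra hk0
          have := Nat.le_mul_of_pos_right i (Nat.pos_of_ne_zero hk0)
          omega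
        rw [hk0, mul_zero, add_zero] at hs
        have hle' := Submodule.eq_of_le_of_finrank_eq
          (inf_le_left : W ⊓ LinearMap.ker (aeval T (X - C (1 : F))) ≤ W) (hs.trans hWd.symm)
        exact hmiss ⟨W, hle' ▸ inf_le_right, hWd, hWts⟩
    refine ⟨him, ?_⟩
    have free : ∀ e, 0 < e → e * c ≤ n → (e * c = n → (PV ↔ Rm e)) →
        (∀ k, k * i ≤ m → (Even i → (e ≤ (r - 1) / i ∨ Even (e - (r - 1) / i)) → 2 * k ≤ e - (r - 1) / i) →
          ¬ (2 * (m - k * i) < n - e * c ∨ (2 * (m - k * i) = n - e * c ∧ (PV ↔ Rm e)))) → False := by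
      intro e he hle hmatch hfree
      obtain ⟨T, hT, hTr, -, hT1, hW⟩ := model e hle hmatch
      obtain ⟨W, hWT, hWd, hWts⟩ := H T hT hTr (hT1 he)
      obtain ⟨k, h1, h2, h3⟩ := hW W hWT hWd hWts
      exact hfree k h1 h2 h3
    have hm' : 1 ≤ m / i := Nat.div_pos him hipos
    have hcn : c ≤ n := by omega
    have hNc : 1 ≤ n / c := Nat.div_pos hcn hcpos
    rcases Nat.even_or_odd i with he | ho
    · right
      rw [if_pos he] at hc
      subst hc
      have hRe : ∀ e, Rm e ↔ Even e := fun e => by simp [hRm, Nat.not_odd_iff_even.mpr he]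
      set t := (r - 1) / c with htdef
      set N := n / c with hN
      set k₀ := n % c with hk₀
      set m' := m / c with hmdef
      set l := m % c with hldef
      -- the three candidate numbers of blocks
      have cand : ∀ s, s ≤ 2 → s < N → (k₀ = 0 → s = 0 → (PV ↔ Even N)) →
          (∀ k, k * c ≤ m → ((N - s ≤ t ∨ Even (N - s - t)) → 2 * k ≤ N - s - t) →
            ¬ (2 * (m - k * c) < k₀ + s * c ∨ (2 * (m - k * c) = k₀ + s * c ∧ (PV ↔ Even (N - s))))) → False := by
        intro s hs2 hsN hmatch hfree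
        obtain ⟨u, hu⟩ : ∃ u, N = u + s := ⟨N - s, by omega⟩
        rw [show N - s = u by omega] at hfree
        rw [hu, add_mul] at hdn
        refine free u (by omega) (by omega) (fun h0 => ?_) fun k h1 h2 => ?_
        · rw [hRe]
          rcases Nat.eq_zero_or_pos s with h4 | h4
          · have := hmatch (by omega) h4
            rwa [hu, h4, add_zero] at this
          · have := Nat.mul_pos h4 hipos
            omega
        · rw [show n - u * c = k₀ + s * c by omega, hRe]
          exact hfree k h1 (h2 he)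
      have hN2 : 2 ≤ N + 1 := by omega
      have hbig : ∀ k, k * c ≤ m → ∀ j, k + j ≤ m' → 2 * (j * c) + 2 * l ≤ 2 * (m - k * c) := fun k _ j hj => by
        have e1 := Nat.mul_le_mul_right c hj
        rw [add_mul] at e1
        omega
      have hkle : ∀ k, k * c ≤ m → k ≤ m' := fun k h1 => (Nat.le_div_iff_mul_le hipos).mpr h1
      refine ⟨he, ?_⟩
      by_cases hlarge : t + 2 * m' ≤ N
      · refine ⟨hlarge, ?_⟩
        by_contra hE
        by_cases hmis : k₀ = 0 ∧ ¬ (PV ↔ Even N)
        · by_cases hstr : t + 2 * m' < N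
          · have hl2 : c < 2 * l := by
              by_contra h'
              exact hE (Or.inr (Or.inr ⟨hmis.1, hmis.2, by omega, hstr⟩))
            refine cand 1 (by omega) (by omega) (fun _ h0 => absurd h0 one_ne_zero) fun k h1 _ h3 => ?_
            have := hbig k h1 0 (by have := hkle k h1; omega)
            rw [zero_mul] at this
            rcases h3 with h3 | ⟨h3, -⟩ <;> omega
          · refine cand 2 le_rfl (by omega) (fun _ h0 => absurd h0 two_ne_zero) fun k h1 h2 h3 => ?_
            obtain ⟨M, hM⟩ : ∃ M, m' = M + 1 := ⟨m' - 1, by omega⟩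
            have hev : Even (N - 2 - t) := ⟨M, by omega⟩
            have h4 := h2 (Or.inr hev)
            have h5 := hbig k h1 1 (by omega)
            rw [one_mul] at h5
            rcases h3 with h3 | ⟨h3, h6⟩
            · omega
            · refine hmis.2 ?_
              obtain ⟨u, hu⟩ : ∃ u, N = u + 2 := ⟨N - 2, by omega⟩
              rw [hu, Nat.add_sub_cancel] at h6
              rw [hu, Nat.even_add]
              simpa using h6
        · refine cand 0 (by omega) (by omega) (fun h0 _ => not_not.mp fun h' => hmis ⟨h0, h'⟩) fun k h1 _ h3 => ?_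
          rw [zero_mul, add_zero, Nat.sub_zero] at h3
          have hk : k = m' := by
            by_contra hne
            have := hbig k h1 1 (by have := hkle k h1; omega)
            rw [one_mul] at this
            rcases h3 with h3 | ⟨h3, -⟩ <;> omega
          rw [hk] at h3
          rcases h3 with h3 | ⟨h3, h6⟩
          · exact hE (Or.inl (by omega))
          · exact hE (Or.inr (Or.inl ⟨by omega, h6⟩))
      · exfalso
        have hcm : c ≤ m' * c := Nat.le_mul_of_pos_left c hm'
        have hN1 : 1 < N := by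
          by_contra hN1
          have : N = 1 := by omega
          rw [this, one_mul] at hdn
          omega
        by_cases hmis : k₀ = 0 ∧ ¬ (PV ↔ Even N)
        · by_cases hp1 : N - 1 ≤ t ∨ Even (N - 1 - t)
          · refine cand 1 (by omega) (by omega) (fun _ h0 => absurd h0 one_ne_zero) fun k h1 h2 h3 => ?_
            have h4 := h2 hp1
            have h5 := hbig k h1 1 (by omega)
            rw [one_mul] at h5
            rcases h3 with h3 | ⟨h3, -⟩ <;> omega
          · push Not at hp1
            obtain ⟨a, ha⟩ := Nat.not_even_iff_odd.mp hp1.2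
            refine cand 2 le_rfl (by omega) (fun _ h0 => absurd h0 two_ne_zero) fun k h1 h2 h3 => ?_
            have h4 := h2 (Or.inr ⟨a, by omega⟩)
            have h5 := hbig k h1 2 (by omega)
            rcases h3 with h3 | ⟨h3, -⟩ <;> omega
        · by_cases hp0 : N ≤ t ∨ Even (N - t)
          · refine cand 0 (by omega) (by omega) (fun h0 _ => not_not.mp fun h' => hmis ⟨h0, h'⟩) fun k h1 h2 h3 => ?_
            rw [zero_mul, add_zero, Nat.sub_zero] at h3
            rw [Nat.sub_zero] at h2
            have h4 := h2 hp0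
            have h5 := hbig k h1 1 (by omega)
            rw [one_mul] at h5
            rcases h3 with h3 | ⟨h3, -⟩ <;> omega
          · push Not at hp0
            obtain ⟨a, ha⟩ := Nat.not_even_iff_odd.mp hp0.2
            refine cand 1 (by omega) (by omega) (fun _ h0 => absurd h0 one_ne_zero) fun k h1 h2 h3 => ?_
            have h4 := h2 (Or.inr ⟨a, by omega⟩)
            have h5 := hbig k h1 1 (by omega)
            rw [one_mul] at h5
            rcases h3 with h3 | ⟨h3, -⟩ <;> omega
    · left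
      refine ⟨ho, ?_⟩
      rw [if_neg (Nat.not_even_iff_odd.mpr ho)] at hc
      subst hc
      by_contra hE
      push Not at hE
      refine free (n / (2 * i)) (by omega) (by omega) (fun h0 => ?_) fun k h1 _ h3 => ?_
      · simp only [hRm, ho, true_or, iff_true]
        exact hE.2.2 (by omega)
      · have hk := (Nat.le_div_iff_mul_le hipos).mpr h1
        obtain ⟨j, hj⟩ := Nat.exists_eq_add_of_le hk
        have e1 : m / i * i = k * i + j * i := by rw [hj, add_mul]
        rcases Nat.eq_zero_or_pos j with hj0 | hj0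
        · rw [hj0, zero_mul] at e1
          rcases h3 with h3 | ⟨h3, h4⟩
          · omega
          · simp only [hRm, ho, true_or, iff_true] at h4
            exact hE.2.1 (by omega) h4
        · have := Nat.mul_le_mul_right i hj0
          rcases h3 with h3 | ⟨h3, -⟩ <;> omega
  · rintro ⟨him, hcase⟩ T hT hTr -
    have h := perIso_of hrp hT hTr
    obtain ⟨hAn, hRn, e, he, hsum, hAp, hf0⟩ := fix_data hrp hr2 hQ hn hi hc hT hTr
    set A := LinearMap.ker (aeval T (X - C (1 : F)))
    set R := LinearMap.ker (aeval T (geom F r))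
    set f := finrank F A
    have hfn : Even f → Even n := fun hf => by
      rw [← hsum]
      refine hf.add (Nat.even_mul.mpr (Or.inr ?_))
      rw [hc]; split_ifs with h'
      · exact h'
      · exact even_two_mul i
    obtain ⟨k, hkm, hkmov, hkfix⟩ : ∃ k, k * i ≤ m ∧
        (k = 0 ∨ 2 * (k * i) + slack (geom F r) i < finrank F R + 2 * i) ∧
        (2 * (m - k * i) < f ∨ (2 * (m - k * i) = f ∧ Plus Q A)) := by
      rcases hcase with ⟨ho, hE⟩ | ⟨hev, hlarge, hE⟩
      · rw [if_neg (Nat.not_even_iff_odd.mpr ho)] at hc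
        subst hc
        obtain ⟨k, h1, h2, h3⟩ := pick_odd (P := PV) (Z := Plus Q A) hipos hsum hmn hE
          (fun hf => by rw [hAp (hfn hf)]; simp [ho, hPV]) (fun h0 => (hf0 h0).mpr (Or.inl ho))
        refine ⟨k, h1, Or.inr ?_, h3⟩
        rw [slack, if_neg (Nat.not_even_iff_odd.mpr ho), he, mul_left_comm e 2 i]
        have := Nat.mul_le_mul_right i h2
        omega
      · rw [if_pos hev] at hc
        subst hc
        obtain ⟨k, h1, h2, h3⟩ := pick_even (P := PV) (Z := Plus Q A) hev hipos hsum hlarge hE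
          (fun hf => by rw [hAp (hfn hf)]; simp [Nat.not_odd_iff_even.mpr hev, hPV])
          (fun h0 => by simpa [Nat.not_odd_iff_even.mpr hev] using hf0 h0)
        refine ⟨k, h1, h2.imp_right fun h2 => ?_, h3⟩
        rw [slack, if_pos hev, geom_natDegree hr.pos, ← Nat.div_mul_cancel hidvd, he]
        calc 2 * (k * c) + (r - 1) / c * c = (2 * k + (r - 1) / c) * c := by ring
          _ < (e + 2) * c := Nat.mul_lt_mul_of_pos_right h2 hipos
          _ = e * c + 2 * c := by ring
    obtain ⟨W₁, hW₁, hW₁T, hW₁ts, hW₁d⟩ := exists_ts_moved hrp hr2 hT hTr hi (inv_ker (geom F r)) le_rfl hkmov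
    obtain ⟨W₂, hW₂, hW₂d, hW₂ts⟩ := exists_ts_in hAn hkfix
    have hW₂T : Inv T W₂ := fun x hx => by rw [(fix_iff x).mp (hW₂ hx)]; exact hx
    refine ⟨W₂ ⊔ W₁, hW₂T.sup hW₁T, ?_,
      ts_add_smul hW₂ts hW₁ts fun a ha z hz => (fix_perp h (hW₂ ha) (hW₁ hz)).1⟩
    have h1 := Submodule.finrank_sup_add_finrank_inf_eq W₂ W₁
    have h2 : W₂ ⊓ W₁ = ⊥ := (Submodule.eq_bot_iff _).mpr fun v hv => (fix_perp h (hW₂ hv.1) (hW₁ hv.2)).2 rfl
    rw [h2, finrank_bot, hW₁d, hW₂d] at h1
    omega

end CfsgLib.OrthIso
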