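/-
Involutions and elements of order four of orthogonal groups, and their invariant totally singular subspaces.
-/
import Cfsg.Agent.Lib.OrthIso.SingTS
import Cfsg.Agent.Lib.OrthIso.EvenOdd
import Cfsg.Agent.Lib.OrthIso.Bridge

set_option autoImplicit false
set_option linter.unusedSectionVars false
set_option maxHeartbeats 1000000

namespace CfsgLib.OrthIso

open Module Polynomial QuadraticMap CfsgLib.PrimeIso CfsgLib.StdQuadForms
open scoped Matrix MatrixGroups

universe u v

variable {F : Type u} [Field F] [Fintype F] {V : Type v} [AddCommGroup V] [Module F V] [FiniteDimensional F V]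
  {Q : QuadraticForm F V} {p : ℕ} [Fact p.Prime] [CharP F p]

theorem refl_self (h2 : (2 : F) ≠ 0) {v : V} (hv : Q v ≠ 0) : reflMap Q v v = -v := by
  rw [reflMap_apply, polar_self, nsmul_eq_mul, Nat.cast_ofNat, mul_div_assoc, div_self hv, mul_one, two_smul]
  abel

theorem span_aniso_nd (h2 : (2 : F) ≠ 0) {v : V} (hv : Q v ≠ 0) :
    ND (polarBilin Q) (Submodule.span F {v}) ∧ finrank F (Submodule.span F {v}) = 1 := by
  refine ⟨fun x hx hp => ?_, finrank_span_singleton fun e => hv (by rw [e, QuadraticMap.map_zero])⟩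
  obtain ⟨c, rfl⟩ := Submodule.mem_span_singleton.mp hx
  have h' : polar Q (c • v) v = 0 := hp v (Submodule.mem_span_singleton_self v)
  rw [polar_smul_left, polar_self, smul_eq_mul, nsmul_eq_mul, Nat.cast_ofNat] at h'
  rw [(mul_eq_zero.mp h').resolve_right (mul_ne_zero h2 hv), zero_smul]

/-- The dimension of an orthogonal. -/
theorem finrank_perp_top (hQ : ND (polarBilin Q) (⊤ : Submodule F V)) (Y : Submodule F V) :
    finrank F Y + finrank F (perpIn (polarBilin Q) Y ⊤) = finrank F V := by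
  have e : perpIn (polarBilin Q) Y ⊤ = LinearMap.BilinForm.orthogonal (polarBilin Q) Y :=
    Submodule.ext fun x => ⟨fun h y hy => h.2 y hy, fun h => ⟨trivial, fun y hy => h y hy⟩⟩
  rw [e, LinearMap.BilinForm.finrank_orthogonal (nondeg_of hQ)]
  have := Submodule.finrank_le Y
  omega

/-- An orthogonal sum negated by two lists of reflections. -/
theorem neg_append {A B : Submodule F V} {va vb : List V} (hva : ∀ v ∈ va, v ∈ A) (hvb : ∀ v ∈ vb, v ∈ B)
    (horth : ∀ a ∈ A, ∀ b ∈ B, polar Q a b = 0) (ha : ∀ u ∈ A, (va.map (reflMap Q)).prod u = -u)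
    (hb : ∀ u ∈ B, (vb.map (reflMap Q)).prod u = -u) :
    ∀ u ∈ A ⊔ B, ((va ++ vb).map (reflMap Q)).prod u = -u := fun u hu => by
  obtain ⟨x, hx, y, hy, rfl⟩ := Submodule.mem_sup.mp hu
  rw [List.map_append, List.prod_append, Module.End.mul_apply, map_add,
    prod_fix vb x (fun v hv => by rw [polar_comm]; exact horth x hx v (hvb v hv)), hb y hy, map_add, ha x hx,
    map_neg, prod_fix va y (fun v hv => horth v (hva v hv) y hy)]
  abel

/-- The negation on an anisotropic line. -/
theorem neg_line (h2 : (2 : F) ≠ 0) {v : V} (hv : Q v ≠ 0) :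
    ∀ u ∈ Submodule.span F {v}, ([v].map (reflMap Q)).prod u = -u := fun u hu => by
  obtain ⟨c, rfl⟩ := Submodule.mem_span_singleton.mp hu
  rw [List.map_singleton, List.prod_singleton, map_smul, refl_self h2 hv, smul_neg]

/-- The negation on a plane. -/
theorem neg_plane (h2 : (2 : F) ≠ 0) {U : Submodule F V} (hU : ND (polarBilin Q) U) (hd : finrank F U = 2) :
    ∃ vs : List V, (∀ v ∈ vs, Q v ≠ 0 ∧ v ∈ U) ∧ vs.length = 2 ∧
      (∀ u ∈ U, (vs.map (reflMap Q)).prod u = -u) ∧
      (Plus Q U ↔ IsSquare (-((vs.map fun v => Q v).prod))) := by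
  obtain ⟨a, ha, hQa⟩ := exists_aniso hU fun e => by rw [e, finrank_bot] at hd; omega
  obtain ⟨hSn, hSd⟩ := span_aniso_nd (Q := Q) h2 hQa
  obtain ⟨hRn, -, hsup, hRd⟩ := split_perpIn refl_bilin ((Submodule.span_singleton_le_iff_mem a U).mpr ha) hSn hU
  set R := perpIn (polarBilin Q) (Submodule.span F {a}) U
  obtain ⟨b, hb, hQb⟩ := exists_aniso hRn fun e => by rw [e, finrank_bot] at hRd; omega
  have hb0 : b ≠ 0 := fun e => hQb (by rw [e, QuadraticMap.map_zero])
  have hR : R = Submodule.span F {b} := (Submodule.eq_of_le_of_finrank_eq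
    ((Submodule.span_singleton_le_iff_mem b R).mpr hb) (by rw [finrank_span_singleton hb0]; omega)).symm
  have hab : polar Q a b = 0 := hb.2 a (Submodule.mem_span_singleton_self a)
  have horth : ∀ x ∈ Submodule.span F {a}, ∀ y ∈ Submodule.span F {b}, polar Q x y = 0 := fun x hx y hy => by
    obtain ⟨c, rfl⟩ := Submodule.mem_span_singleton.mp hx
    obtain ⟨d, rfl⟩ := Submodule.mem_span_singleton.mp hy
    rw [polar_smul_left, polar_smul_right, hab, smul_zero, smul_zero]
  have hval : ∀ x y : F, Q (x • a + y • b) = x * x * Q a + y * y * Q b := fun x y => by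
    rw [q_add, QuadraticMap.map_smul, QuadraticMap.map_smul, polar_smul_left, polar_smul_right, hab]
    simp only [smul_eq_mul]; ring
  rw [hR] at hsup
  refine ⟨[a, b], fun v hv => ?_, rfl, ?_, ?_⟩
  · rcases List.mem_cons.mp hv with rfl | hv
    · exact ⟨hQa, ha⟩
    · rw [List.mem_singleton.mp hv]; exact ⟨hQb, hb.1⟩
  · have := neg_append (Q := Q) (va := [a]) (vb := [b])
      (fun v hv => by rw [List.mem_singleton.mp hv]; exact Submodule.mem_span_singleton_self a)
      (fun v hv => by rw [List.mem_singleton.mp hv]; exact Submodule.mem_span_singleton_self b)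
      horth (neg_line h2 hQa) (neg_line h2 hQb)
    rwa [hsup] at this
  · simp only [List.map_cons, List.map_nil, List.prod_cons, List.prod_nil, mul_one]
    constructor
    · rintro ⟨W, hW, hts, hWd⟩
      obtain ⟨x, hx, hx0⟩ := Submodule.exists_mem_ne_zero_of_ne_bot (p := W) fun e => by
        rw [e, finrank_bot, hd] at hWd; omega
      obtain ⟨_, hs, _, ht, rfl⟩ := Submodule.mem_sup.mp (hsup.ge (hW hx))
      obtain ⟨s, rfl⟩ := Submodule.mem_span_singleton.mp hs
      obtain ⟨t, rfl⟩ := Submodule.mem_span_singleton.mp ht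
      have h0 := hts _ hx
      rw [hval] at h0
      have ht0 : t ≠ 0 := fun e => hx0 (by
        subst e
        rw [mul_zero, zero_mul, add_zero, mul_eq_zero, or_iff_left hQa, mul_self_eq_zero] at h0
        rw [h0, zero_smul, zero_smul, add_zero])
      exact ⟨s * Q a / t, by field_simp; linear_combination -h0⟩
    · rintro ⟨s, hs⟩
      refine ⟨Submodule.span F {s • a + Q a • b}, (Submodule.span_singleton_le_iff_mem _ _).mpr
        (add_mem (U.smul_mem _ ha) (U.smul_mem _ hb.1)), ts_span ?_, ?_⟩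
      · rw [hval, ← hs]; ring
      · rw [finrank_span_singleton fun e => ?_, hd]
        have := congrArg (polar Q b) e
        rw [polar_add_right, polar_smul_right, polar_smul_right, polar_comm Q b a, hab, polar_self,
          polar_zero_right, smul_zero, zero_add, smul_eq_mul, nsmul_eq_mul, Nat.cast_ofNat] at this
        exact mul_ne_zero hQa (mul_ne_zero h2 hQb) this

/-- The negation on a space of even dimension. -/
theorem neg_even (h2 : (2 : F) ≠ 0) (g : ℕ) : ∀ C : Submodule F V, ND (polarBilin Q) C → finrank F C = 2 * g →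
    ∃ vs : List V, (∀ v ∈ vs, Q v ≠ 0 ∧ v ∈ C) ∧ vs.length = 2 * g ∧
      (∀ u ∈ C, (vs.map (reflMap Q)).prod u = -u) ∧
      (IsSquare ((vs.map fun v => Q v).prod) ↔ (Plus Q C ↔ (IsSquare (-1 : F) ∨ Even g))) := by
  classical
  induction g with
  | zero =>
    intro C hC hd
    have hC0 : C = ⊥ := Submodule.finrank_eq_zero.mp (by omega)
    subst hC0
    refine ⟨[], by simp, rfl, fun u hu => ?_, iff_of_true (by simp) (iff_of_true plus_bot (Or.inr Even.zero))⟩
    rw [Submodule.mem_bot] at hu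
    simp [hu]
  | succ g ih =>
    intro C hC hd
    have hsq : ∀ {P : F}, P ≠ 0 → (IsSquare (-P) ↔ (IsSquare (-1 : F) ↔ IsSquare P)) := fun {P} hP => by
      rw [← neg_one_mul P, CfsgLib.OmegaMem.isSquare_mul_iff h2 (neg_ne_zero.mpr one_ne_zero) hP]
    rcases Nat.eq_zero_or_pos g with rfl | hg
    · obtain ⟨vs, hvs, hlen, hneg, hp⟩ := neg_plane h2 hC (by omega)
      refine ⟨vs, hvs, hlen, hneg, ?_⟩
      rw [hp, hsq (List.prod_ne_zero fun h0 => by
        obtain ⟨w, hw, hw0⟩ := List.mem_map.mp h0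
        exact (hvs w hw).1 hw0)]
      simp only [zero_add, Nat.not_even_one, or_false]
      tauto
    obtain ⟨U, hU, hUn, hUd, hUp⟩ := exists_type hC (K := 1) one_pos (by omega) (IsSquare (-1 : F))
    obtain ⟨hRn, -, hsup, hRd⟩ := split_perpIn refl_bilin hU hUn hC
    set R := perpIn (polarBilin Q) U C
    obtain ⟨va, hva, hla, hna, hpa⟩ := neg_plane h2 hUn hUd
    obtain ⟨vb, hvb, hlb, hnb, hpb⟩ := ih R hRn (by omega)
    have hne : ∀ {l : List V}, (∀ v ∈ l, Q v ≠ 0) → (l.map fun v => Q v).prod ≠ 0 := fun {l} hl =>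
      List.prod_ne_zero fun h0 => by
        obtain ⟨w, hw, hw0⟩ := List.mem_map.mp h0
        exact hl w hw hw0
    refine ⟨va ++ vb, fun v hv => ?_, by rw [List.length_append, hla, hlb]; ring, ?_, ?_⟩
    · rcases List.mem_append.mp hv with h | h
      · exact ⟨(hva v h).1, hU (hva v h).2⟩
      · exact ⟨(hvb v h).1, (hvb v h).2.1⟩
    · have := neg_append (fun v hv => (hva v hv).2) (fun v hv => (hvb v hv).2)
        (fun a ha b hb => hb.2 a ha) hna hnb
      rwa [hsup] at this
    · have hsa : IsSquare ((va.map fun v => Q v).prod) := by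
        have h := hUp.symm.trans hpa
        rw [hsq (hne fun v hv => (hva v hv).1)] at h
        tauto
      rw [List.map_append, List.prod_append,
        CfsgLib.OmegaMem.isSquare_mul_iff h2 (hne fun v hv => (hva v hv).1) (hne fun v hv => (hvb v hv).1),
        iff_true_intro hsa, true_iff, hpb, ← hsup,
        plus_sup_iff hUn hRn (fun a ha b hb => hb.2 a ha) ⟨1, hUd⟩ ⟨g, by omega⟩, hUp, Nat.even_add_one]
      by_cases h1 : IsSquare (-1 : F) <;> by_cases h5 : Even g <;> simp [h1, h5]

/-- The negation on any non-degenerate space. -/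
theorem neg_any (h2 : (2 : F) ≠ 0) {C : Submodule F V} (hC : ND (polarBilin Q) C) :
    ∃ vs : List V, (∀ v ∈ vs, Q v ≠ 0 ∧ v ∈ C) ∧ vs.length = finrank F C ∧
      ∀ u ∈ C, (vs.map (reflMap Q)).prod u = -u := by
  rcases Nat.even_or_odd (finrank F C) with ⟨g, hg⟩ | ⟨g, hg⟩
  · obtain ⟨vs, h1, h3, h4, -⟩ := neg_even h2 g C hC (by omega)
    exact ⟨vs, h1, by omega, h4⟩
  · obtain ⟨a, ha, hQa⟩ := exists_aniso hC fun e => by rw [e, finrank_bot] at hg; omega
    obtain ⟨hSn, hSd⟩ := span_aniso_nd (Q := Q) h2 hQa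
    obtain ⟨hRn, -, hsup, hRd⟩ := split_perpIn refl_bilin ((Submodule.span_singleton_le_iff_mem a C).mpr ha) hSn hC
    obtain ⟨vs, h1, h3, h4, -⟩ := neg_even h2 g _ hRn (by omega)
    refine ⟨[a] ++ vs, fun v hv => ?_, by simp [h3]; omega, ?_⟩
    · rcases List.mem_append.mp hv with h | h
      · rw [List.mem_singleton.mp h]; exact ⟨hQa, ha⟩
      · exact ⟨(h1 v h).1, (h1 v h).2.1⟩
    · have := neg_append (va := [a])
        (fun v hv => by rw [List.mem_singleton.mp hv]; exact Submodule.mem_span_singleton_self a)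
        (fun v hv => (h1 v hv).2) (fun a ha b hb => hb.2 a ha) (neg_line h2 hQa) h4
      rwa [hsup] at this

/-- The eigenspaces of an isometric involution. -/
theorem involution_parts (h2 : (2 : F) ≠ 0) (hQ : ND (polarBilin Q) (⊤ : Submodule F V)) {T : Module.End F V}
    (hiso : ∀ v, Q (T v) = Q v) (hTT : ∀ v, T (T v) = v) :
    ∃ A C : Submodule F V, (∀ v, v ∈ A ↔ T v = v) ∧ (∀ v, v ∈ C ↔ T v = -v) ∧ ND (polarBilin Q) A ∧
      ND (polarBilin Q) C ∧ (∀ a ∈ A, ∀ b ∈ C, polar Q a b = 0) ∧ A ⊔ C = ⊤ ∧ A ⊓ C = ⊥ ∧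
      finrank F A + finrank F C = finrank F V ∧
      ∀ W : Submodule F V, Inv T W → finrank F W ≤ finrank F (W ⊓ A : Submodule F V) + finrank F (W ⊓ C : Submodule F V) := by
  have hh : (2 : F)⁻¹ * 2 = 1 := inv_mul_cancel₀ h2
  set A := LinearMap.ker (T - 1) with hA
  set C := LinearMap.ker (T + 1) with hC
  have memA : ∀ x, x ∈ A ↔ T x = x := fun x => by simp [hA, sub_eq_zero]
  have memC : ∀ x, x ∈ C ↔ T x = -x := fun x => by simp [hC, add_eq_zero_iff_eq_neg]
  have hsplit : ∀ W : Submodule F V, Inv T W → W ≤ (W ⊓ A) ⊔ (W ⊓ C) := fun W hW x hx => by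
    have e : x = (2 : F)⁻¹ • (x + T x) + (2 : F)⁻¹ • (x - T x) := by
      rw [← smul_add, show x + T x + (x - T x) = (2 : F) • x by rw [two_smul]; abel, smul_smul, hh, one_smul]
    rw [e]
    exact Submodule.add_mem_sup
      ⟨W.smul_mem _ (add_mem hx (hW x hx)), (memA _).mpr (by rw [map_smul, map_add, hTT, add_comm])⟩
      ⟨W.smul_mem _ (sub_mem hx (hW x hx)), (memC _).mpr (by rw [map_smul, map_sub, hTT, ← smul_neg, neg_sub])⟩
  have horth : ∀ a ∈ A, ∀ b ∈ C, polar Q a b = 0 := fun a ha b hb => by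
    have h : polar Q (T a) (T b) = polar Q a b := by simp only [polar, ← map_add, hiso]
    rw [(memA a).mp ha, (memC b).mp hb, polar_neg_right] at h
    exact (mul_eq_zero.mp (show (2 : F) * polar Q a b = 0 by linear_combination -h)).resolve_left h2
  have htop : A ⊔ C = ⊤ := by
    refine top_le_iff.mp ((hsplit ⊤ inv_top).trans ?_)
    rw [top_inf_eq, top_inf_eq]
  have hAn : ND (polarBilin Q) A := fun x hx hp => hQ x trivial fun y _ => by
    obtain ⟨a, ha, b, hb, rfl⟩ := Submodule.mem_sup.mp (htop.ge (Submodule.mem_top (x := y)))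
    rw [map_add, hp a ha, show polarBilin Q x b = 0 from horth x hx b hb, add_zero]
  have hCn : ND (polarBilin Q) C := fun x hx hp => hQ x trivial fun y _ => by
    obtain ⟨a, ha, b, hb, rfl⟩ := Submodule.mem_sup.mp (htop.ge (Submodule.mem_top (x := y)))
    rw [map_add, hp b hb, show polarBilin Q x a = 0 from (polar_comm Q x a).trans (horth a ha x hx), add_zero]
  obtain ⟨hinf, hdim, -⟩ := sup_dims hAn hCn horth
  rw [htop, finrank_top] at hdim
  refine ⟨A, C, memA, memC, hAn, hCn, horth, htop, hinf, hdim.symm, fun W hW => ?_⟩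
  exact (Submodule.finrank_mono (hsplit W hW)).trans (Submodule.finrank_add_le_finrank_add_finrank _ _)

/-- Totally singular subspaces glued from the two eigenspaces. -/
theorem ts_glue {T : Module.End F V} {A C : Submodule F V} (hA : ∀ v, v ∈ A ↔ T v = v) (hC : ∀ v, v ∈ C ↔ T v = -v)
    (hAn : ND (polarBilin Q) A) (hCn : ND (polarBilin Q) C) (horth : ∀ a ∈ A, ∀ b ∈ C, polar Q a b = 0)
    (hinf : A ⊓ C = ⊥) {a b : ℕ} (ha : 2 * a < finrank F A ∨ (2 * a = finrank F A ∧ Plus Q A))
    (hb : 2 * b < finrank F C ∨ (2 * b = finrank F C ∧ Plus Q C)) :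
    ∃ W, Inv T W ∧ finrank F W = a + b ∧ ∀ w ∈ W, Q w = 0 := by
  obtain ⟨X, hX, hXd, hXts⟩ := exists_ts_in hAn ha
  obtain ⟨Y, hY, hYd, hYts⟩ := exists_ts_in hCn hb
  have hXT : Inv T X := fun x hx => by rw [(hA x).mp (hX hx)]; exact hx
  have hYT : Inv T Y := fun x hx => by rw [(hC x).mp (hY hx)]; exact neg_mem hx
  refine ⟨X ⊔ Y, hXT.sup hYT, ?_, ts_add_smul hXts hYts fun w hw w' hw' => horth w (hX hw) w' (hY hw')⟩
  have h := Submodule.finrank_sup_add_finrank_inf_eq X Y
  rw [le_bot_iff.mp ((inf_le_inf hX hY).trans hinf.le), finrank_bot, hXd, hYd] at h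
  omega

omit [Fintype F] in
/-- Eigenspaces of a square root of `-1` are totally singular. -/
theorem quarter_eigen (h2 : (2 : F) ≠ 0) {T : Module.End F V} (hiso : ∀ v, Q (T v) = Q v)
    (hT : ∀ v, T (T v) = -v) {d : ℕ} (hn : finrank F V = 2 * d) (hQ : ND (polarBilin Q) (⊤ : Submodule F V))
    {s : F} (hs : s * s = -1) :
    ∃ A : Submodule F V, (∀ W ≤ A, Inv T W) ∧ d ≤ finrank F A ∧ ∀ w ∈ A, Q w = 0 := by
  have key : ∀ t : F, t * t = -1 → ∀ w ∈ LinearMap.ker (T - t • 1), Q w = 0 := fun t ht w hw => by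
    rw [LinearMap.mem_ker, LinearMap.sub_apply, sub_eq_zero, LinearMap.smul_apply, Module.End.one_apply] at hw
    have h := hiso w
    rw [hw, QuadraticMap.map_smul, ht, neg_one_smul] at h
    exact (mul_eq_zero.mp (show (2 : F) * Q w = 0 by linear_combination -h)).resolve_left h2
  set A := LinearMap.ker (T - s • 1) with hA
  set C := LinearMap.ker (T - (-s) • 1) with hC
  refine ⟨A, fun W hW x hx => ?_, ?_, key s hs⟩
  · have h := hW hx
    rw [hA, LinearMap.mem_ker, LinearMap.sub_apply, sub_eq_zero, LinearMap.smul_apply, Module.End.one_apply] at h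
    rw [h]; exact W.smul_mem _ hx
  have hh : (2 : F)⁻¹ * 2 = 1 := inv_mul_cancel₀ h2
  have hle : (⊤ : Submodule F V) ≤ A ⊔ C := fun x _ => by
    have e : x = (2 : F)⁻¹ • (x - s • T x) + (2 : F)⁻¹ • (x + s • T x) := by
      rw [← smul_add, show x - s • T x + (x + s • T x) = (2 : F) • x by rw [two_smul]; abel, smul_smul, hh, one_smul]
    rw [e]
    refine Submodule.add_mem_sup ?_ ?_
    · rw [hA, LinearMap.mem_ker]
      simp only [LinearMap.sub_apply, LinearMap.smul_apply, Module.End.one_apply, map_smul, map_sub, hT, smul_neg,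
        sub_neg_eq_add]
      match_scalars <;> first | ring1 | linear_combination (2 : F)⁻¹ * hs
    · rw [hC, LinearMap.mem_ker]
      simp only [LinearMap.sub_apply, LinearMap.smul_apply, Module.End.one_apply, map_smul, map_add, hT, smul_neg]
      match_scalars <;> first | ring1 | linear_combination (2 : F)⁻¹ * hs
  have h1 := Submodule.finrank_mono hle
  rw [finrank_top, hn] at h1
  have h3 := h1.trans (Submodule.finrank_add_le_finrank_add_finrank _ _)
  have h4 := two_mul_plus_le hQ (le_top (a := C)) (key (-s) (by rw [neg_mul_neg, hs]))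
  rw [finrank_top, hn] at h4
  omega

/-- Even-dimensional totally singular subspaces invariant under a square root of `-1`. -/
theorem quarter_ts (h2 : (2 : F) ≠ 0) {T : Module.End F V} (hiso : ∀ v, Q (T v) = Q v)
    (hT : ∀ v, T (T v) = -v) (hs : ¬ IsSquare (-1 : F)) (hQ : ND (polarBilin Q) (⊤ : Submodule F V)) :
    ∀ μ : ℕ, 4 * μ ≤ finrank F V → ∃ W, Inv T W ∧ finrank F W = 2 * μ ∧ ∀ w ∈ W, Q w = 0 := by
  intro μ
  induction μ with
  | zero => exact fun _ => ⟨⊥, fun x hx => by rw [(Submodule.mem_bot F).mp hx, map_zero]; exact zero_mem _,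
      finrank_bot F V, fun w hw => by rw [(Submodule.mem_bot F).mp hw, QuadraticMap.map_zero]⟩
  | succ μ ih =>
    intro hμ
    obtain ⟨W, hWT, hWd, hWts⟩ := ih (by omega)
    have hB : ∀ x y, polar Q (T x) (T y) = polar Q x y := fun x y => by simp only [polar, ← map_add, hiso]
    set P := perpIn (polarBilin Q) W ⊤ with hP
    have hWP : W ≤ P := fun x hx => ⟨trivial, fun y hy => ts_polar hWts hy hx⟩
    have hPT : Inv T P := fun x hx => ⟨trivial, fun y hy => by
      show polar Q y (T x) = 0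
      have h := hB (T y) x
      rw [hT, polar_neg_left, show polar Q (T y) x = 0 from hx.2 _ (hWT y hy), neg_eq_zero] at h
      exact h⟩
    obtain ⟨S, hS⟩ := Submodule.exists_isCompl (W.comap P.subtype)
    set S' := S.map P.subtype with hS'
    have hSP : S' ≤ P := Submodule.map_subtype_le _ _
    have hWS : W ⊔ S' = P := by
      conv_rhs => rw [← Submodule.map_subtype_top P, ← hS.sup_eq_top, Submodule.map_sup,
        Submodule.map_comap_subtype, inf_eq_right.mpr hWP]
    have hWS' : W ⊓ S' = ⊥ := by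
      refine (Submodule.eq_bot_iff _).mpr fun x ⟨hxW, hxS⟩ => ?_
      obtain ⟨y, hy, rfl⟩ := hxS
      have : y ∈ W.comap P.subtype ⊓ S := ⟨hxW, hy⟩
      rw [hS.inf_eq_bot, Submodule.mem_bot] at this
      rw [this, map_zero]
    have hdd : finrank F W + finrank F P = finrank F V := by
      have := finrank_perp_top hQ W
      exact this
    have hSd : finrank F W + finrank F S' = finrank F P := by
      have := Submodule.finrank_sup_add_finrank_inf_eq W S'
      rw [hWS, hWS', finrank_bot, add_zero] at this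
      exact this.symm
    have hSn : ND (polarBilin Q) S' := fun x hx hp => by
      have hxW : x ∈ W := by
        have key : ∀ z ∈ P, polar Q z x = 0 := fun z hz => by
          obtain ⟨a, ha, b, hb, rfl⟩ := Submodule.mem_sup.mp (hWS.ge hz)
          rw [polar_add_left, polar_comm Q b x, show polar Q x b = 0 from hp b hb,
            show polar Q a x = 0 from (hSP hx).2 a ha, add_zero]
        have hPP : W = perpIn (polarBilin Q) P ⊤ := by
          refine Submodule.eq_of_le_of_finrank_eq (fun w hw => ⟨trivial, fun z hz => ?_⟩) ?_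
          · show polar Q z w = 0
            rw [polar_comm]; exact hz.2 w hw
          · have := finrank_perp_top hQ P
            omega
        rw [hPP]
        exact ⟨trivial, key⟩
      exact (Submodule.eq_bot_iff _).mp hWS' x ⟨hxW, hx⟩
    obtain ⟨L, hL, hLd, hLts⟩ := exists_ts_in hSn (b := 1) (Or.inl (by omega))
    obtain ⟨v, hv, hv0⟩ := Submodule.exists_mem_ne_zero_of_ne_bot (p := L) fun e => by
      rw [e, finrank_bot] at hLd; omega
    have hQv : Q v = 0 := hLts v hv
    have hvW : v ∉ W := fun h => hv0 ((Submodule.eq_bot_iff _).mp hWS' v ⟨h, hL hv⟩)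
    have hvv : polar Q v (T v) = 0 := by
      have h := hB v (T v)
      rw [hT, polar_neg_right, polar_comm Q (T v) v] at h
      exact (mul_eq_zero.mp (show (2 : F) * polar Q v (T v) = 0 by linear_combination -h)).resolve_left h2
    have hvP : v ∈ P := hSP (hL hv)
    have hTvP : T v ∈ P := hPT v hvP
    set W₁ := W ⊔ Submodule.span F {v} with hW₁
    have hTv : T v ∉ W₁ := fun h => by
      obtain ⟨a, ha, b, hb, hab⟩ := Submodule.mem_sup.mp h
      obtain ⟨c, rfl⟩ := Submodule.mem_span_singleton.mp hb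
      have e := congrArg T hab
      rw [map_add, map_smul, hT] at e
      rw [← hab] at e
      have : (-1 - c * c) • v ∈ W := by
        have : (-1 - c * c) • v = T a + c • a := by
          rw [sub_smul, neg_one_smul, mul_smul, ← e, smul_add]; abel
        rw [this]
        exact add_mem (hWT a ha) (W.smul_mem _ ha)
      rcases eq_or_ne (-1 - c * c) 0 with h0 | h0
      · exact hs ⟨c, by linear_combination h0⟩
      · exact hvW (by simpa [h0] using W.smul_mem (-1 - c * c)⁻¹ this)
    refine ⟨W₁ ⊔ Submodule.span F {T v}, ?_, ?_, ?_⟩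
    · intro x hx
      obtain ⟨a, ha, b, hb, rfl⟩ := Submodule.mem_sup.mp hx
      obtain ⟨a₁, ha₁, a₂, ha₂, rfl⟩ := Submodule.mem_sup.mp ha
      obtain ⟨c, rfl⟩ := Submodule.mem_span_singleton.mp hb
      obtain ⟨c', rfl⟩ := Submodule.mem_span_singleton.mp ha₂
      rw [map_add, map_add, map_smul, map_smul, hT, smul_neg]
      refine add_mem (add_mem (Submodule.mem_sup_left (Submodule.mem_sup_left (hWT a₁ ha₁)))
        (Submodule.mem_sup_right (Submodule.smul_mem _ _ (Submodule.mem_span_singleton_self _))))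
        (neg_mem (Submodule.mem_sup_left (Submodule.mem_sup_right
          (Submodule.smul_mem _ _ (Submodule.mem_span_singleton_self _)))))
    · have add_one : ∀ (X : Submodule F V) (w : V), w ∉ X →
          finrank F ↥(X ⊔ Submodule.span F {w}) = finrank F X + 1 := fun X w hw => by
        have h := Submodule.finrank_sup_add_finrank_inf_eq X (Submodule.span F {w})
        have hw0 : w ≠ 0 := fun e => hw (e ▸ X.zero_mem)
        have hb : X ⊓ Submodule.span F {w} = ⊥ := (Submodule.eq_bot_iff _).mpr fun x ⟨hx, hxs⟩ => by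
          obtain ⟨c, rfl⟩ := Submodule.mem_span_singleton.mp hxs
          by_contra h0
          have hc : c ≠ 0 := fun e => h0 (by rw [e, zero_smul])
          exact hw (by simpa [hc] using X.smul_mem c⁻¹ hx)
        rw [hb, finrank_bot, finrank_span_singleton hw0] at h
        omega
      rw [add_one _ _ hTv, add_one _ _ hvW, hWd]
      omega
    · have h1 : ∀ w ∈ W₁, Q w = 0 := ts_add_smul hWts (ts_span hQv) fun w hw w' hw' => by
        obtain ⟨c, rfl⟩ := Submodule.mem_span_singleton.mp hw'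
        rw [polar_smul_right, show polar Q w v = 0 from hvP.2 w hw, smul_zero]
      refine ts_add_smul h1 (ts_span (by rw [hiso, hQv])) fun w hw w' hw' => ?_
      obtain ⟨c, rfl⟩ := Submodule.mem_span_singleton.mp hw'
      obtain ⟨a, ha, b, hb, rfl⟩ := Submodule.mem_sup.mp hw
      obtain ⟨e, rfl⟩ := Submodule.mem_span_singleton.mp hb
      rw [polar_smul_right, polar_add_left, show polar Q a (T v) = 0 from hTvP.2 a ha, polar_smul_left, hvv,
        smul_zero, add_zero, smul_zero]

omit [Fintype F] in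
/-- Subspaces invariant under a square root of `-1` have even dimension. -/
theorem quarter_inv_even {T : Module.End F V} (hT : ∀ v, T (T v) = -v) (hs : ¬ IsSquare (-1 : F))
    {W : Submodule F V} (hW : Inv T W) : Even (finrank F W) := by
  let Y : Module.End F W := T.restrict hW
  have hY : Y ^ 2 = (-1 : F) • 1 := LinearMap.ext fun w => Subtype.ext (by
    show T (T (w : V)) = ((-1 : F) • w : W)
    rw [hT]; simp)
  by_contra ho
  have h := congrArg LinearMap.det hY
  rw [map_pow, LinearMap.det_smul, map_one, mul_one, (Nat.not_even_iff_odd.mp ho).neg_one_pow] at h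
  exact hs ⟨LinearMap.det Y, by rw [← h, pow_two]⟩

section Coord

variable {ι : Type} [Fintype ι] [DecidableEq ι]

/-- Membership in the derived group from a product of reflections. -/
theorem omega_of_refl (h2 : (2 : F) ≠ 0) (Q : QuadraticForm F (ι → F))
    (hQ : ND (polarBilin Q) (⊤ : Submodule F (ι → F))) (hn : 2 ≤ Fintype.card ι) {x : GL ι F}
    (hx : x ∈ Cfsg.isometryGroup F ⇑Q) {vs : List (ι → F)} (hvs : ∀ v ∈ vs, Q v ≠ 0)
    (h : ∀ u, (x : Matrix ι ι F) *ᵥ u = (vs.map (reflMap Q)).prod u) :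
    x ∈ Cfsg.Geo.omegaGL ⇑Q ↔ Even vs.length ∧ IsSquare ((vs.map fun v => Q v).prod) := by
  classical
  have hrefl : ∀ (l : List (ι → F)) (u : ι → F),
      (l.map fun v => Cfsg.reflectionMatrix (⇑Q) v).prod *ᵥ u = (l.map (reflMap Q)).prod u := by
    intro l
    induction l with
    | nil => intro u; simp
    | cons a t ih =>
      intro u
      rw [List.map_cons, List.map_cons, List.prod_cons, List.prod_cons, ← Matrix.mulVec_mulVec, ih,
        Module.End.mul_apply, CfsgLib.PolarVec.reflection_mulVec, reflMap_apply, div_eq_inv_mul, neg_smul, ← sub_eq_add_neg]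
  have hg : x.1 = (vs.map fun v => Cfsg.reflectionMatrix (⇑Q) v).prod := by
    refine Matrix.toLin'.injective (LinearMap.ext fun u => ?_)
    rw [Matrix.toLin'_apply (vs.map _).prod, hrefl, Matrix.toLin'_apply, h]
  have hiff := CfsgLib.OmegaMem.omega_iff_prod Q h2 hn (nondeg_of hQ) ⟨x, hx⟩ vs hvs hg
  constructor
  · rintro ⟨g, hgo, hgx⟩
    exact hiff.mp (by rwa [show (⟨x, hx⟩ : Cfsg.isometryGroup F ⇑Q) = g from Subtype.ext hgx.symm])
  · intro h'
    exact ⟨⟨x, hx⟩, hiff.mpr h', rfl⟩

/-- An involution of the derived group negates a subspace of even dimension and square discriminant. -/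
theorem involution_omega (h2 : (2 : F) ≠ 0) (Q : QuadraticForm F (ι → F))
    (hQ : ND (polarBilin Q) (⊤ : Submodule F (ι → F))) (hn : 2 ≤ Fintype.card ι) {x : GL ι F}
    (hxi : x ∈ Cfsg.isometryGroup F ⇑Q) 
    {A C : Submodule F (ι → F)} (hA : ∀ v, v ∈ A ↔ (x : Matrix ι ι F) *ᵥ v = v)
    (hC : ∀ v, v ∈ C ↔ (x : Matrix ι ι F) *ᵥ v = -v) (hCn : ND (polarBilin Q) C)
    (horth : ∀ a ∈ A, ∀ b ∈ C, polar Q a b = 0) (htop : A ⊔ C = ⊤) :
    x ∈ Cfsg.Geo.omegaGL ⇑Q ↔
      Even (finrank F C) ∧ (Plus Q C ↔ (IsSquare (-1 : F) ∨ Even (finrank F C / 2))) := by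
  obtain ⟨vs₀, h1, h3, h4⟩ := neg_any h2 hCn
  have key : ∀ vs : List (ι → F), (∀ v ∈ vs, Q v ≠ 0 ∧ v ∈ C) → (∀ u ∈ C, (vs.map (reflMap Q)).prod u = -u) →
      ∀ u, (x : Matrix ι ι F) *ᵥ u = (vs.map (reflMap Q)).prod u := fun vs hvs hneg u => by
    obtain ⟨a, ha, b, hb, rfl⟩ := Submodule.mem_sup.mp (htop.ge (Submodule.mem_top (x := u)))
    rw [Matrix.mulVec_add, (hA a).mp ha, (hC b).mp hb, map_add, hneg b hb,
      prod_fix vs a fun v hv => by rw [polar_comm]; exact horth a ha v (hvs v hv).2]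
  have hb := omega_of_refl h2 Q hQ hn hxi (fun v hv => (h1 v hv).1) (key vs₀ h1 h4)
  constructor
  · intro hx
    obtain ⟨he, -⟩ := hb.mp hx
    rw [h3] at he
    obtain ⟨g, hg⟩ := he
    obtain ⟨vs, g1, g2, g3, g4⟩ := neg_even h2 g C hCn (by omega)
    refine ⟨⟨g, hg⟩, ?_⟩
    rw [show finrank F C / 2 = g by omega, ← g4]
    exact ((omega_of_refl h2 Q hQ hn hxi (fun v hv => (g1 v hv).1) (key vs g1 g3)).mp hx).2
  · rintro ⟨⟨g, hg⟩, hp⟩
    obtain ⟨vs, g1, g2, g3, g4⟩ := neg_even h2 g C hCn (by omega)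
    refine (omega_of_refl h2 Q hQ hn hxi (fun v hv => (g1 v hv).1) (key vs g1 g3)).mpr ⟨⟨g, by omega⟩, g4.mpr ?_⟩
    rwa [show finrank F C / 2 = g by omega] at hp

/-- The involution negating a plane. -/
theorem exists_plane_involution (h2 : (2 : F) ≠ 0) (Q : QuadraticForm F (ι → F))
    (hQ : ND (polarBilin Q) (⊤ : Submodule F (ι → F))) (hn : 3 ≤ Fintype.card ι) :
    ∃ (x : GL ι F) (A C : Submodule F (ι → F)), x ∈ Cfsg.Geo.omegaGL ⇑Q ∧ x ^ 2 = 1 ∧
      (∀ v, v ∈ A ↔ (x : Matrix ι ι F) *ᵥ v = v) ∧ (∀ v, v ∈ C ↔ (x : Matrix ι ι F) *ᵥ v = -v) ∧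
      ND (polarBilin Q) A ∧ ND (polarBilin Q) C ∧ (∀ a ∈ A, ∀ b ∈ C, polar Q a b = 0) ∧ A ⊔ C = ⊤ ∧
      finrank F C = 2 ∧ finrank F A + 2 = Fintype.card ι ∧ (Plus Q C ↔ IsSquare (-1 : F)) ∧
      ∀ W : Submodule F (ι → F), Inv (Matrix.toLin' (x : Matrix ι ι F)) W →
        finrank F W ≤ finrank F (W ⊓ A : Submodule F (ι → F)) + finrank F (W ⊓ C : Submodule F (ι → F)) := by
  obtain ⟨U, -, hUn, hUd, hUp⟩ := exists_type hQ (K := 1) one_pos
    (by rw [finrank_top, Module.finrank_fintype_fun_eq_card]; omega) (IsSquare (-1 : F))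
  obtain ⟨hPn, -, hsup, hPd⟩ := split_perpIn refl_bilin (le_top (a := U)) hUn hQ
  set P := perpIn (polarBilin Q) U ⊤
  obtain ⟨vs, hvs, hlen, hneg, hpl⟩ := neg_plane h2 hUn hUd
  set T : Module.End F (ι → F) := (vs.map (reflMap Q)).prod with hT
  have hTU : ∀ u ∈ U, T u = -u := hneg
  have hTP : ∀ z ∈ P, T z = z := fun z hz => prod_fix vs z fun v hv => hz.2 v (hvs v hv).2
  have hTT : ∀ v, T (T v) = v := fun v => by
    obtain ⟨a, ha, z, hz, rfl⟩ := Submodule.mem_sup.mp (hsup.ge (Submodule.mem_top (x := v)))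
    rw [map_add, map_add, hTP z hz, hTP z hz, hTU a ha, map_neg, hTU a ha, neg_neg]
  have hiso : ∀ v, Q (T v) = Q v := fun v => by
    obtain ⟨a, ha, z, hz, rfl⟩ := Submodule.mem_sup.mp (hsup.ge (Submodule.mem_top (x := v)))
    rw [map_add, hTP z hz, hTU a ha, q_add, q_add, QuadraticMap.map_neg, polar_neg_left,
      show polar Q a z = 0 from hz.2 a ha, neg_zero]
  obtain ⟨x, hxT, hxx⟩ := exists_gl T two_pos (LinearMap.ext fun v => by rw [pow_two]; exact hTT v)
  have hxv : ∀ v, (x : Matrix ι ι F) *ᵥ v = T v := fun v => by rw [← hxT, Matrix.toLin'_apply]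
  obtain ⟨A, C, hA, hC, hAn, hCn, horth, htop, hinf, hdim, hW⟩ := involution_parts h2 hQ hiso hTT
  have hCU : C = U := by
    refine le_antisymm (fun v hv => ?_) fun v hv => (hC v).mpr (hTU v hv)
    have hv' := (hC v).mp hv
    obtain ⟨a, ha, z, hz, rfl⟩ := Submodule.mem_sup.mp (hsup.ge (Submodule.mem_top (x := v)))
    rw [map_add, hTP z hz, hTU a ha, neg_add, add_right_inj] at hv'
    have : z = 0 := by
      have e : (2 : F) • z = 0 := by rw [two_smul]; nth_rw 1 [hv']; rw [neg_add_cancel]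
      exact (smul_eq_zero.mp e).resolve_left h2
    rw [this, add_zero]; exact ha
  subst hCU
  rw [Module.finrank_fintype_fun_eq_card, hUd] at hdim
  have hxi : x ∈ Cfsg.isometryGroup F ⇑Q := fun u _ => by
    show Q ((x : Matrix ι ι F) *ᵥ u) = Q u
    rw [hxv]; exact hiso u
  refine ⟨x, A, C, ?_, hxx, fun v => by rw [hxv]; exact hA v, fun v => by rw [hxv]; exact hC v, hAn, hCn, horth,
    htop, hUd, hdim, hUp, fun W hWT => hW W fun v hv => by rw [← hxv, ← Matrix.toLin'_apply]; exact hWT v hv⟩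
  refine (involution_omega h2 Q hQ (by omega) hxi (A := A) (C := C)
    (fun v => by rw [hxv]; exact hA v) (fun v => by rw [hxv]; exact hC v) hCn horth htop).mpr ⟨⟨1, hUd⟩, ?_⟩
  rw [hUd, hUp]
  simp

end Coord

end CfsgLib.OrthIso
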