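/-
Elements of order two modulo scalars and non-degenerate subspaces of even dimension, odd characteristic.
-/
import Cfsg.Agent.Lib.OrthIso.SingTwo

set_option autoImplicit false
set_option linter.unusedSectionVars false
set_option maxHeartbeats 1000000

namespace CfsgLib.OrthIso

open Module Polynomial QuadraticMap CfsgLib.PrimeIso
open scoped Matrix MatrixGroups

universe u v

variable {F : Type u} [Field F] [Fintype F] {V : Type v} [AddCommGroup V] [Module F V] [FiniteDimensional F V]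
  {Q : QuadraticForm F V}

/-- Two orthogonal anisotropic vectors span a plane. -/
theorem plane_of_pair (h2 : (2 : F) ≠ 0) {u v : V} (hu : Q u ≠ 0) (hv : Q v ≠ 0) (huv : polar Q u v = 0) :
    ND (polarBilin Q) (Submodule.span F {u} ⊔ Submodule.span F {v}) ∧
      finrank F ↥(Submodule.span F {u} ⊔ Submodule.span F {v}) = 2 ∧
      (Plus Q (Submodule.span F {u} ⊔ Submodule.span F {v}) ↔ IsSquare (-(Q u * Q v))) := by
  have horth : ∀ x ∈ Submodule.span F {u}, ∀ y ∈ Submodule.span F {v}, polar Q x y = 0 := fun x hx y hy => by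
    obtain ⟨c, rfl⟩ := Submodule.mem_span_singleton.mp hx
    obtain ⟨d, rfl⟩ := Submodule.mem_span_singleton.mp hy
    rw [polar_smul_left, polar_smul_right, huv, smul_zero, smul_zero]
  obtain ⟨hun, hud⟩ := span_aniso_nd (Q := Q) h2 hu
  obtain ⟨hvn, hvd⟩ := span_aniso_nd (Q := Q) h2 hv
  obtain ⟨-, hd, hn⟩ := sup_dims hun hvn horth
  rw [hud, hvd] at hd
  refine ⟨hn, hd, ?_⟩
  have hval : ∀ x y : F, Q (x • u + y • v) = x * x * Q u + y * y * Q v := fun x y => by
    rw [q_add, QuadraticMap.map_smul, QuadraticMap.map_smul, polar_smul_left, polar_smul_right, huv]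
    simp only [smul_eq_mul]; ring
  constructor
  · rintro ⟨W, hW, hts, hWd⟩
    obtain ⟨x, hx, hx0⟩ := Submodule.exists_mem_ne_zero_of_ne_bot (p := W) fun e => by
      rw [e, finrank_bot, hd] at hWd; omega
    obtain ⟨_, hs, _, ht, rfl⟩ := Submodule.mem_sup.mp (hW hx)
    obtain ⟨s, rfl⟩ := Submodule.mem_span_singleton.mp hs
    obtain ⟨t, rfl⟩ := Submodule.mem_span_singleton.mp ht
    have h0 := hts _ hx
    rw [hval] at h0
    have ht0 : t ≠ 0 := fun e => hx0 (by
      subst e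
      rw [mul_zero, zero_mul, add_zero, mul_eq_zero, or_iff_left hu, mul_self_eq_zero] at h0
      rw [h0, zero_smul, zero_smul, add_zero])
    exact ⟨s * Q u / t, by field_simp; linear_combination -h0⟩
  · rintro ⟨s, hs⟩
    refine ⟨Submodule.span F {s • u + Q u • v}, (Submodule.span_singleton_le_iff_mem _ _).mpr
      (Submodule.add_mem_sup (Submodule.smul_mem _ _ (Submodule.mem_span_singleton_self u))
        (Submodule.smul_mem _ _ (Submodule.mem_span_singleton_self v))), ts_span ?_, ?_⟩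
    · rw [hval, ← hs]; ring
    · rw [finrank_span_singleton fun e => ?_, hd]
      have := congrArg (polar Q v) e
      rw [polar_add_right, polar_smul_right, polar_smul_right, polar_comm Q v u, huv, polar_self,
        polar_zero_right, smul_zero, zero_add, smul_eq_mul, nsmul_eq_mul, Nat.cast_ofNat] at this
      exact mul_ne_zero hu (mul_ne_zero h2 hv) this

/-- An involution fixes members of both types. -/
theorem involution_member (h2 : (2 : F) ≠ 0) {T : Module.End F V} {A C : Submodule F V}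
    (hA : ∀ v, v ∈ A ↔ T v = v) (hC : ∀ v, v ∈ C ↔ T v = -v) (hAn : ND (polarBilin Q) A)
    (hCn : ND (polarBilin Q) C) (horth : ∀ a ∈ A, ∀ b ∈ C, polar Q a b = 0) {α γ w : ℕ}
    (hAd : finrank F A = 2 * α) (hCd : finrank F C = 2 * γ) (hα : 1 ≤ α) (hγ : 1 ≤ γ) (hw : 1 ≤ w)
    (hwn : w < α + γ) (P : Prop) :
    ∃ W, Inv T W ∧ finrank F W = 2 * w ∧ ND (polarBilin Q) W ∧ (Plus Q W ↔ P) := by
  classical
  have hF : ringChar F ≠ 2 := fun h => h2 (by haveI := ringChar.of_eq h; exact CharTwo.two_eq_zero)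
  obtain ⟨v, hv, hQv⟩ := exists_aniso hCn fun e => by rw [e, finrank_bot] at hCd; omega
  obtain ⟨ν, hν⟩ := FiniteField.exists_nonsquare (F := F) hF
  obtain ⟨s, hs0, hs⟩ : ∃ s : F, s ≠ 0 ∧ (IsSquare (-(s * Q v)) ↔ P) := by
    by_cases hP : P
    · exact ⟨-Q v, neg_ne_zero.mpr hQv, iff_of_true ⟨Q v, by ring⟩ hP⟩
    · have hν0 : ν ≠ 0 := fun e => hν (e ▸ ⟨0, (mul_zero 0).symm⟩)
      refine ⟨-(ν * Q v), neg_ne_zero.mpr (mul_ne_zero hν0 hQv), iff_of_false (fun ⟨t, ht⟩ => hν ⟨t / Q v, ?_⟩) hP⟩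
      field_simp
      linear_combination ht
  obtain ⟨u', hu'⟩ := CfsgLib.SpinorMatrix.universal (Q.comp A.subtype) h2
    (nondeg_of (Q := Q.comp A.subtype) fun x _ hx => Subtype.ext (hAn x x.2 fun y hy => by
      have h9 := hx ⟨y, hy⟩ trivial
      change polar (Q.comp A.subtype) x ⟨y, hy⟩ = 0 at h9
      rwa [polar_comp] at h9))
    (by omega) hs0
  obtain ⟨u, hu, hQu⟩ : ∃ u ∈ A, Q u = s := ⟨u', u'.2, hu'⟩
  have hQu0 : Q u ≠ 0 := hQu ▸ hs0
  obtain ⟨hPn, hPd, hPp⟩ := plane_of_pair h2 hQu0 hQv (horth u hu v hv)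
  rw [hQu, hs] at hPp
  obtain ⟨hun, hud⟩ := span_aniso_nd (Q := Q) h2 hQu0
  obtain ⟨hvn, hvd⟩ := span_aniso_nd (Q := Q) h2 hQv
  have hule := (Submodule.span_singleton_le_iff_mem u A).mpr hu
  have hvle := (Submodule.span_singleton_le_iff_mem v C).mpr hv
  obtain ⟨hRAn, -, -, hRAd⟩ := split_perpIn refl_bilin hule hun hAn
  obtain ⟨hRCn, -, -, hRCd⟩ := split_perpIn refl_bilin hvle hvn hCn
  set RA := perpIn (polarBilin Q) (Submodule.span F {u}) A
  set RC := perpIn (polarBilin Q) (Submodule.span F {v}) C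
  have hpick : ∀ (R : Submodule F V), ND (polarBilin Q) R → ∀ a, 2 * a < finrank F R → ∃ X ≤ R,
      ND (polarBilin Q) X ∧ finrank F X = 2 * a ∧ Plus Q X := fun R hR a ha => by
    rcases Nat.eq_zero_or_pos a with h0 | h0
    · exact ⟨⊥, bot_le, fun x hx _ => (Submodule.mem_bot F).mp hx, by rw [finrank_bot]; omega, plus_bot⟩
    · obtain ⟨X, hX, hXn, hXd, hXp⟩ := exists_type hR h0 ha True
      exact ⟨X, hX, hXn, hXd, hXp.mpr trivial⟩
  obtain ⟨X, hX, hXn, hXd, hXp⟩ := hpick RA hRAn (min (w - 1) (α - 1)) (by omega)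
  obtain ⟨Y, hY, hYn, hYd, hYp⟩ := hpick RC hRCn (w - 1 - min (w - 1) (α - 1)) (by omega)
  have hXY : ∀ x ∈ X, ∀ y ∈ Y, polar Q x y = 0 := fun x hx y hy => horth x (hX hx).1 y (hY hy).1
  obtain ⟨-, hd1, hn1⟩ := sup_dims hXn hYn hXY
  have hZp : Plus Q (X ⊔ Y) := (plus_sup_iff hXn hYn hXY ⟨_, hXd.trans (two_mul _)⟩ ⟨_, hYd.trans (two_mul _)⟩).mpr
    (iff_of_true hXp hYp)
  set Pl := Submodule.span F {u} ⊔ Submodule.span F {v}
  have hPZ : ∀ a ∈ Pl, ∀ z ∈ X ⊔ Y, polar Q a z = 0 := fun a ha z hz => by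
    obtain ⟨a₁, ha₁, a₂, ha₂, rfl⟩ := Submodule.mem_sup.mp ha
    obtain ⟨x, hx, y, hy, rfl⟩ := Submodule.mem_sup.mp hz
    rw [polar_add_left, polar_add_right, polar_add_right, show polar Q a₁ x = 0 from (hX hx).2 a₁ ha₁,
      horth a₁ (hule ha₁) y (hY hy).1, polar_comm Q a₂ x, horth x (hX hx).1 a₂ (hvle ha₂),
      show polar Q a₂ y = 0 from (hY hy).2 a₂ ha₂, add_zero, add_zero]
  obtain ⟨-, hd2, hn2⟩ := sup_dims hPn hn1 hPZ
  have hAI : ∀ W ≤ A, Inv T W := fun W hW x hx => by rw [(hA x).mp (hW hx)]; exact hx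
  have hCI : ∀ W ≤ C, Inv T W := fun W hW x hx => by rw [(hC x).mp (hW hx)]; exact neg_mem hx
  refine ⟨Pl ⊔ (X ⊔ Y), ((hAI _ hule).sup (hCI _ hvle)).sup
    ((hAI _ (hX.trans perpIn_le)).sup (hCI _ (hY.trans perpIn_le))), by omega, hn2, ?_⟩
  rw [plus_sup_iff hPn hn1 hPZ ⟨1, hPd⟩ ⟨w - 1, by omega⟩, iff_true_intro hZp, iff_true, hPp]

/-- Invariant non-degenerate subspaces of a square root of `-1`. -/
theorem quarter_member (h2 : (2 : F) ≠ 0) (hQ : ND (polarBilin Q) (⊤ : Submodule F V)) {T : Module.End F V}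
    (hiso : ∀ v, Q (T v) = Q v) (hT : ∀ v, T (T v) = -v) : ∀ w : ℕ, 2 * w ≤ finrank F V →
      ∃ W, Inv T W ∧ ND (polarBilin Q) W ∧ finrank F W = 2 * w := by
  intro w
  induction w with
  | zero => exact fun _ => ⟨⊥, fun x hx => by rw [(Submodule.mem_bot F).mp hx, map_zero]; exact zero_mem _,
      fun x hx _ => (Submodule.mem_bot F).mp hx, finrank_bot F V⟩
  | succ w ih =>
    intro hw
    obtain ⟨W, hWT, hWn, hWd⟩ := ih (by omega)
    obtain ⟨hRn, -, -, hRd⟩ := split_perpIn refl_bilin (le_top (a := W)) hWn hQ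
    set R := perpIn (polarBilin Q) W ⊤
    rw [finrank_top] at hRd
    obtain ⟨v, hv, hQv⟩ := exists_aniso hRn fun e => by rw [e, finrank_bot] at hRd; omega
    obtain ⟨-, hPn, hPd, -⟩ := quarter_plane h2 hiso hT hQv
    set P := Submodule.span F {v, T v}
    have hTv : ∀ y ∈ W, polar Q y (T v) = 0 := fun y hy => by
      have h : polar Q (T (T y)) (T v) = polar Q (T y) v := by simp only [polar, ← map_add, hiso]
      rw [hT, polar_neg_left, show polar Q (T y) v = 0 from hv.2 _ (hWT y hy), neg_eq_zero] at h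
      exact h
    have horth : ∀ y ∈ W, ∀ z ∈ P, polar Q y z = 0 := fun y hy z hz => by
      obtain ⟨a, b, rfl⟩ := Submodule.mem_span_pair.mp hz
      rw [polar_add_right, polar_smul_right, polar_smul_right, show polar Q y v = 0 from hv.2 y hy, hTv y hy,
        smul_zero, smul_zero, add_zero]
    have hPT : Inv T P := fun x hx => by
      obtain ⟨a, b, rfl⟩ := Submodule.mem_span_pair.mp hx
      rw [map_add, map_smul, map_smul, hT]
      exact Submodule.mem_span_pair.mpr ⟨-b, a, by rw [neg_smul, smul_neg]; abel⟩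
    obtain ⟨-, hd, hn⟩ := sup_dims hWn hPn horth
    exact ⟨W ⊔ P, hWT.sup hPT, hn, by omega⟩

section Coord

variable {ι : Type} [Fintype ι] [DecidableEq ι] {p : ℕ} [Fact p.Prime] [CharP F p]

/-- The criterion at the prime two in odd characteristic. -/
theorem even_nd_two (hp2 : p ≠ 2) (Q : QuadraticForm F (ι → F))
    (hQ : ND (polarBilin Q) (⊤ : Submodule F (ι → F))) {d m w : ℕ} (hn : Fintype.card ι = 2 * d)
    (hm : m = 2 * w) (hw : 1 ≤ w) (hwd : w < d) (P : Prop) :
    (∀ x : GL ι F, x ∈ Cfsg.Geo.omegaGL ⇑Q →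
      (∃ z : F, ((x ^ 2 : GL ι F) : Matrix ι ι F) = z • (1 : Matrix ι ι F)) →
      (∀ z : F, (x : Matrix ι ι F) ≠ z • (1 : Matrix ι ι F)) →
      ∃ W : Submodule F (ι → F), (finrank F ↥W = m ∧ ND (polarBilin Q) W ∧ (Plus Q W ↔ P)) ∧
        W.map (Matrix.toLin' (x : Matrix ι ι F)) ≤ W) ↔
    (¬ (IsSquare ((2 : F) ^ d) ∧ (Plus Q (⊤ : Submodule F (ι → F)) ↔ (IsSquare (-1 : F) ∨ Even d))) ∨
      (P ↔ (IsSquare (-1 : F) ∨ Even w))) := by
  classical
  have h2 := two_ne (F := F) hp2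
  have hdim : finrank F (ι → F) = 2 * d := by rw [Module.finrank_fintype_fun_eq_card, hn]
  obtain ⟨g₀, -, hg₀⟩ := exists_aniso hQ (fun e => by
    have := finrank_top F (ι → F)
    rw [e, finrank_bot, hdim] at this; omega)
  have hzero : g₀ ≠ 0 := fun e => hg₀ (by rw [e, QuadraticMap.map_zero])
  rw [← exists_omega_quarter_iff h2 Q hQ (by omega) hn]
  constructor
  · intro H
    refine or_iff_not_imp_left.mpr fun hex => ?_
    obtain ⟨x, hx, hxx⟩ := not_not.mp hex
    obtain ⟨W, ⟨hWd, hWn, hWp⟩, hWx⟩ := H x hx ⟨-1, Matrix.toLin'.injective (LinearMap.ext fun v => by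
      rw [Units.val_pow_eq_pow_val, pow_two, Matrix.toLin'_apply, ← Matrix.mulVec_mulVec, hxx,
        Matrix.toLin'_apply, Matrix.smul_mulVec, Matrix.one_mulVec, neg_one_smul])⟩ fun z hz => by
      have hv : ∀ v, (x : Matrix ι ι F) *ᵥ v = z • v := fun v => by rw [hz, Matrix.smul_mulVec, Matrix.one_mulVec]
      have hzz := scalar_sq (Q := Q) hg₀ (z := z) (by rw [← hv]; exact omegaGL_le hx g₀)
      have e := hxx g₀
      rw [hv, hv, smul_smul, hzz, one_smul, eq_neg_iff_add_eq_zero, ← two_smul F] at e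
      exact hzero ((smul_eq_zero.mp e).resolve_left h2)
    obtain ⟨hp, -⟩ := quarter_decomp h2 (T := Matrix.toLin' (x : Matrix ι ι F))
      (fun v => by rw [Matrix.toLin'_apply]; exact omegaGL_le hx v)
      (fun v => by rw [Matrix.toLin'_apply, Matrix.toLin'_apply, hxx]) w W (toLin'_map_le_iff.mp hWx) hWn (by omega)
    exact hWp.symm.trans hp
  · intro hcond x hx ⟨z, hz⟩ hns
    set T : Module.End F (ι → F) := Matrix.toLin' (x : Matrix ι ι F) with hT
    have hTi : ∀ v, Q (T v) = Q v := fun v => by rw [hT, Matrix.toLin'_apply]; exact omegaGL_le hx v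
    have hTT : ∀ v, T (T v) = z • v := fun v => by
      rw [Units.val_pow_eq_pow_val, pow_two] at hz
      rw [hT, Matrix.toLin'_apply, Matrix.toLin'_apply, Matrix.mulVec_mulVec, hz, Matrix.smul_mulVec,
        Matrix.one_mulVec]
    have hzz := scalar_sq (Q := Q) hg₀ (z := z) (by rw [← hTT, hTi, hTi])
    have hxi : x ∈ Cfsg.isometryGroup F ⇑Q := fun u _ => omegaGL_le hx u
    rcases mul_self_eq_one_iff.mp hzz with rfl | rfl
    · obtain ⟨A, C, hA, hC, hAn, hCn, horth, htop, hinf, hdimAC, -⟩ :=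
        involution_parts h2 hQ hTi (fun v => by rw [hTT, one_smul])
      rw [hdim] at hdimAC
      obtain ⟨⟨γ, hγ⟩, -⟩ := (involution_omega h2 Q hQ (by omega) hxi
        (fun v => by rw [← Matrix.toLin'_apply]; exact hA v) (fun v => by rw [← Matrix.toLin'_apply]; exact hC v)
        hCn horth htop).mp hx
      have hγ0 : 0 < γ := by
        by_contra h0
        have hC0 : C = ⊥ := Submodule.finrank_eq_zero.mp (by omega)
        rw [hC0, sup_bot_eq] at htop
        refine hns 1 (Matrix.toLin'.injective (LinearMap.ext fun v => ?_))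
        rw [one_smul, Matrix.toLin'_one, LinearMap.id_apply]
        exact (hA v).mp (htop ▸ Submodule.mem_top)
      have hα0 : 0 < finrank F A := by
        by_contra h0
        have hA0 : A = ⊥ := Submodule.finrank_eq_zero.mp (by omega)
        rw [hA0, bot_sup_eq] at htop
        refine hns (-1) (Matrix.toLin'.injective (LinearMap.ext fun v => ?_))
        rw [map_smul, Matrix.toLin'_one, LinearMap.smul_apply, LinearMap.id_apply, neg_one_smul]
        exact (hC v).mp (htop ▸ Submodule.mem_top)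
      obtain ⟨W, hW, hWd, hWn, hWp⟩ := involution_member h2 hA hC hAn hCn horth (α := d - γ) (γ := γ) (w := w)
        (by omega) (by omega) (by omega) hγ0 hw (by omega) P
      exact ⟨W, ⟨hWd.trans hm.symm, hWn, hWp⟩, toLin'_map_le_iff.mpr hW⟩
    · have hT' : ∀ v, T (T v) = -v := fun v => by rw [hTT, neg_one_smul]
      have hp' := hcond.resolve_left fun hne => hne ⟨x, hx, fun v => by
        rw [← Matrix.toLin'_apply, ← Matrix.toLin'_apply]; exact hT' v⟩
      obtain ⟨W, hW, hWn, hWd⟩ := quarter_member h2 hQ hTi hT' w (by omega)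
      obtain ⟨hp, -⟩ := quarter_decomp h2 hTi hT' w W hW hWn hWd
      exact ⟨W, ⟨hWd.trans hm.symm, hWn, hp.trans hp'.symm⟩, toLin'_map_le_iff.mpr hW⟩

end Coord

end CfsgLib.OrthIso
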