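/-
Elements of prime order of orthogonal groups and invariant totally singular subspaces.
-/
import Cfsg.Agent.Lib.OrthIso.SingTwo
import Cfsg.Agent.Lib.OmegaList

set_option autoImplicit false
set_option linter.unusedSectionVars false
set_option maxHeartbeats 1000000

namespace CfsgLib.OrthIso

open Module Polynomial QuadraticMap CfsgLib.PrimeIso CfsgLib.StdQuadForms
open scoped Matrix MatrixGroups

universe u

variable {F : Type u} [Field F] [Fintype F] {ι : Type} [Fintype ι] [DecidableEq ι] {p r : ℕ} [Fact p.Prime]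
  [CharP F p] [Fact r.Prime]

/-- Isometries of odd order lie in the derived group, in every characteristic. -/
theorem mem_omega_odd (Q : QuadraticForm F (ι → F)) (hQ : (polarBilin Q).Nondegenerate)
    (h4 : Fintype.card ι ≠ 4) {x : GL ι F} (hx : x ∈ Cfsg.isometryGroup F ⇑Q) {r : ℕ} (hr : Odd r)
    (hxr : x ^ r = 1) : x ∈ Cfsg.Geo.omegaGL ⇑Q := by
  classical
  obtain ⟨l, hl⟩ := hr
  let g : Cfsg.isometryGroup F ⇑Q := ⟨x, hx⟩
  have h := CfsgLib.OmegaList.sq_mem_commutator Q (CfsgLib.SpinorMatrix.hc_of Q hQ (Or.inr h4)) (g ^ (l + 1))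
  have e : g ^ (l + 1) * g ^ (l + 1) = g := by
    have hg : g ^ r = 1 := Subtype.ext hxr
    rw [← pow_add, show l + 1 + (l + 1) = r + 1 by omega, pow_succ, hg, one_mul]
  rw [e] at h
  exact ⟨g, h, rfl⟩

/-- Removing the scalars from the hypothesis. -/
theorem ts_forall_iff (Q : QuadraticForm F (ι → F)) (hQ : ND (polarBilin Q) (⊤ : Submodule F (ι → F)))
    (hn : 5 ≤ Fintype.card ι) (hr2 : r ≠ 2) (P : Submodule F (ι → F) → Prop) :
    (∀ x : GL ι F, x ∈ Cfsg.Geo.omegaGL ⇑Q →
      (∃ z : F, ((x ^ r : GL ι F) : Matrix ι ι F) = z • (1 : Matrix ι ι F)) →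
      (∀ z : F, (x : Matrix ι ι F) ≠ z • (1 : Matrix ι ι F)) →
      ∃ W : Submodule F (ι → F), P W ∧ W.map (Matrix.toLin' (x : Matrix ι ι F)) ≤ W) ↔
      ∀ T : Module.End F (ι → F), (∀ v, Q (T v) = Q v) → T ^ r = 1 → T ≠ 1 → ∃ W, Inv T W ∧ P W := by
  classical
  have hr : r.Prime := Fact.out
  have hodd : Odd r := hr.odd_of_ne_two hr2
  obtain ⟨g₀, -, hg₀⟩ := exists_aniso hQ (fun e => by
    have := finrank_top F (ι → F)
    rw [e, finrank_bot, Module.finrank_fintype_fun_eq_card] at this; omega)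
  have hzero : g₀ ≠ 0 := fun e => hg₀ (by rw [e, QuadraticMap.map_zero])
  constructor
  · intro H T hT hTr hT1
    obtain ⟨x, rfl, hxr⟩ := exists_gl T hr.pos hTr
    have hns : ∀ z : F, (x : Matrix ι ι F) ≠ z • (1 : Matrix ι ι F) := fun z hz => hT1 (by
      have e : Matrix.toLin' (x : Matrix ι ι F) = z • (1 : Module.End F (ι → F)) := by
        rw [hz, map_smul, Matrix.toLin'_one]; try rfl
      have hzz := scalar_sq (Q := Q) hg₀ (z := z) (by
        have := hT g₀
        rwa [e, LinearMap.smul_apply, Module.End.one_apply] at this)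
      have hzr : z ^ r = 1 := by
        have := LinearMap.congr_fun hTr g₀
        rw [e, _root_.smul_pow, one_pow, LinearMap.smul_apply, Module.End.one_apply] at this
        exact smul_left_injective F hzero (this.trans (one_smul F g₀).symm)
      obtain ⟨l, hl⟩ := hodd
      have hz1 : z = 1 := by
        rwa [hl, pow_succ, pow_mul, pow_two, hzz, one_pow, one_mul] at hzr
      rw [e, hz1, one_smul])
    obtain ⟨W, hWP, hWx⟩ := H x (mem_omega_odd Q (nondeg_of hQ) (by omega)
      (fun u _ => by simpa using hT u) hodd hxr) ⟨1, by rw [hxr, Units.val_one, one_smul]⟩ hns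
    exact ⟨W, toLin'_map_le_iff.mp hWx, hWP⟩
  · intro H x hx ⟨z, hz⟩ hns
    set T₀ := Matrix.toLin' (x : Matrix ι ι F) with hT₀
    have hT₀i : ∀ v, Q (T₀ v) = Q v := fun v => by rw [hT₀, Matrix.toLin'_apply]; exact omegaGL_le hx v
    have hpow : (T₀ : Module.End F (ι → F)) ^ r = z • 1 := by
      have : Matrix.toLinAlgEquiv' ((x : Matrix ι ι F) ^ r) = z • (1 : Module.End F (ι → F)) := by
        rw [← Units.val_pow_eq_pow_val, hz, map_smul, map_one]
      rwa [map_pow] at this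
    have hpi : ∀ n, Q ((T₀ ^ n : Module.End F (ι → F)) g₀) = Q g₀ := fun n => by
      induction n with
      | zero => rfl
      | succ n ih => rw [pow_succ', Module.End.mul_apply, hT₀i, ih]
    have hzz := scalar_sq (Q := Q) hg₀ (z := z) (by
      have := hpi r
      rwa [hpow, LinearMap.smul_apply, Module.End.one_apply] at this)
    have hne : z • T₀ ≠ 1 := fun e => hns z (by
      refine Matrix.toLin'.injective ?_
      rw [map_smul, Matrix.toLin'_one]
      calc T₀ = (z * z) • T₀ := by rw [hzz, one_smul]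
        _ = z • (z • T₀) := by rw [smul_smul]
        _ = z • LinearMap.id := by rw [e]; rfl)
    obtain ⟨W, hW, hWP⟩ := H (z • T₀) (fun v => by
      rw [LinearMap.smul_apply, QuadraticMap.map_smul, hzz, one_smul, hT₀i]) (by
      obtain ⟨l, hl⟩ := hodd
      have hzr : z ^ r = z := by rw [hl, pow_succ, pow_mul, pow_two, hzz, one_pow, one_mul]
      rw [_root_.smul_pow, hpow, hzr, smul_smul, hzz, one_smul]) hne
    refine ⟨W, hWP, toLin'_map_le_iff.mpr fun v hv => ?_⟩
    have := W.smul_mem z (hW v hv)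
    rwa [LinearMap.smul_apply, smul_smul, hzz, one_smul] at this

/-- The criterion for totally singular subspaces in even dimension. -/
theorem even_ts_class (Q : QuadraticForm F (ι → F)) (hQ : ND (polarBilin Q) (⊤ : Submodule F (ι → F)))
    {d m i c : ℕ} (hn : Fintype.card ι = 2 * d) (hd : 4 ≤ d) (hm : 1 ≤ m) (hmd : m < d)
    (hdvd : r ∣ Nat.card (TSub Q m)) (hi : i = orderOf (Fintype.card F : ZMod r))
    (hc : c = if Even i then i else 2 * i) :
    (∀ x : GL ι F, x ∈ Cfsg.Geo.omegaGL ⇑Q →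
      (∃ z : F, ((x ^ r : GL ι F) : Matrix ι ι F) = z • (1 : Matrix ι ι F)) →
      (∀ z : F, (x : Matrix ι ι F) ≠ z • (1 : Matrix ι ι F)) →
      ∃ W : Submodule F (ι → F), (finrank F ↥W = m ∧ ∀ w ∈ W, Q w = 0) ∧
        W.map (Matrix.toLin' (x : Matrix ι ι F)) ≤ W) ↔
    ((r = 2 ∧ p ≠ 2 ∧ (Plus Q (⊤ : Submodule F (ι → F)) → IsSquare (-1 : F) ∨ m + 2 ≤ d) ∧
        (IsSquare (-1 : F) ∨ Even m ∨
          ¬ (IsSquare ((2 : F) ^ d) ∧ (Plus Q (⊤ : Submodule F (ι → F)) ↔ Even d)))) ∨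
      (r ≠ p ∧ 2 < r ∧ i ≤ m ∧
        ((Odd i ∧ (2 * (m % i) < (2 * d) % c ∨ (2 * (m % i) = (2 * d) % c ∧ Plus Q (⊤ : Submodule F (ι → F))) ∨
            ((2 * d) % c = 0 ∧ ¬ Plus Q (⊤ : Submodule F (ι → F))))) ∨
          (Even i ∧ (r - 1) / i + 2 * (m / i) ≤ (2 * d) / i ∧
            (2 * (m % i) < (2 * d) % c ∨
              (2 * (m % i) = (2 * d) % c ∧ (Plus Q (⊤ : Submodule F (ι → F)) ↔ Even ((2 * d) / i))) ∨
              ((2 * d) % c = 0 ∧ ¬ (Plus Q (⊤ : Submodule F (ι → F)) ↔ Even ((2 * d) / i)) ∧ 2 * (m % i) ≤ i ∧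
                (r - 1) / i + 2 * (m / i) < (2 * d) / i)))))) := by
  classical
  have hr : r.Prime := Fact.out
  have hdim : finrank F (ι → F) = 2 * d := by rw [Module.finrank_fintype_fun_eq_card, hn]
  have hrp : r ≠ p := ts_ne_char (p := p) hQ (by omega) hdvd
  by_cases hr2 : r = 2
  swap
  · have hr3 : 2 < r := by have := hr.two_le; omega
    rw [ts_forall_iff Q hQ (by omega) hr2 (fun W => finrank F W = m ∧ ∀ w ∈ W, Q w = 0),
      ts_semisimple hrp hr2 hQ hdim hm (by omega) hdvd hi hc]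
    constructor
    · exact fun h => Or.inr ⟨hrp, hr3, h⟩
    · rintro (⟨h, -⟩ | ⟨-, -, h⟩)
      · exact absurd h hr2
      · exact h
  subst hr2
  have hp2 : p ≠ 2 := fun e => hrp e.symm
  have h2 := two_ne (F := F) hp2
  obtain ⟨g₀, -, hg₀⟩ := exists_aniso hQ (fun e => by
    have := finrank_top F (ι → F)
    rw [e, finrank_bot, hdim] at this; omega)
  have hzero : g₀ ≠ 0 := fun e => hg₀ (by rw [e, QuadraticMap.map_zero])
  have hscal : ∀ {x : GL ι F} {z : F}, (x : Matrix ι ι F) = z • (1 : Matrix ι ι F) →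
      ∀ v, (x : Matrix ι ι F) *ᵥ v = z • v := fun {x z} hz v => by rw [hz, Matrix.smul_mulVec, Matrix.one_mulVec]
  constructor
  · intro H
    refine Or.inl ⟨rfl, hp2, fun hP => ?_, ?_⟩
    · by_contra hcon
      push Not at hcon
      obtain ⟨hsq, hmd'⟩ := hcon
      obtain ⟨x, A, C, hx, hxx, hA, hC, hAn, hCn, horth, htop, hCd, hAd, hCp, hW⟩ :=
        exists_plane_involution h2 Q hQ (by omega)
      obtain ⟨c₁, hc₁, hc0⟩ := Submodule.exists_mem_ne_zero_of_ne_bot (p := C) fun e => by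
        rw [e, finrank_bot] at hCd; omega
      obtain ⟨a₁, ha₁, ha0⟩ := Submodule.exists_mem_ne_zero_of_ne_bot (p := A) fun e => by
        rw [e, finrank_bot] at hAd; omega
      obtain ⟨W, ⟨hWd, hWts⟩, hWx⟩ := H x hx ⟨1, by rw [hxx, Units.val_one, one_smul]⟩ fun z hz => by
        have e1 : z • a₁ = (1 : F) • a₁ := by rw [← hscal hz, (hA a₁).mp ha₁, one_smul]
        have e2 : z • c₁ = (-1 : F) • c₁ := by rw [← hscal hz, (hC c₁).mp hc₁, neg_one_smul]
        exact h2 (by linear_combination (smul_left_injective F hc0 e2) - (smul_left_injective F ha0 e1))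
      have hle := hW W (toLin'_map_le_iff.mp hWx)
      have hAp : ¬ Plus Q A := fun hAp => by
        rw [← htop, plus_sup_iff hAn hCn horth ⟨d - 1, by omega⟩ ⟨1, hCd⟩] at hP
        exact hsq (hCp.mp (hP.mp hAp))
      rcases ts_in_le hAn (inf_le_right : W ⊓ A ≤ A) fun w hw => hWts w hw.1 with h1 | ⟨-, h1⟩
      · rcases ts_in_le hCn (inf_le_right : W ⊓ C ≤ C) fun w hw => hWts w hw.1 with h3 | ⟨-, h3⟩
        · omega
        · exact hsq (hCp.mp h3)
      · exact hAp h1
    · by_contra hcon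
      push Not at hcon
      obtain ⟨hsq, hmo, hq2, hqP⟩ := hcon
      obtain ⟨x, hx, hxx⟩ := (exists_omega_quarter_iff h2 Q hQ (by omega) hn).mpr
        ⟨hq2, by simpa [hsq] using hqP⟩
      obtain ⟨W, ⟨hWd, -⟩, hWx⟩ := H x hx ⟨-1, Matrix.toLin'.injective (LinearMap.ext fun v => by
        rw [Units.val_pow_eq_pow_val, pow_two, Matrix.toLin'_apply, ← Matrix.mulVec_mulVec, hxx,
          Matrix.toLin'_apply, Matrix.smul_mulVec, Matrix.one_mulVec, neg_one_smul])⟩ fun z hz => by
        have e := hxx g₀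
        rw [hscal hz, hscal hz, smul_smul, ← neg_one_smul F g₀] at e
        exact hsq ⟨z, (smul_left_injective F hzero e).symm⟩
      have he := quarter_inv_even (T := Matrix.toLin' (x : Matrix ι ι F))
        (fun v => by rw [Matrix.toLin'_apply, Matrix.toLin'_apply, hxx]) hsq (toLin'_map_le_iff.mp hWx)
      rw [hWd] at he
      exact hmo he
  · rintro (⟨-, -, hinv, hquart⟩ | ⟨-, h3, -⟩) x hx ⟨z, hz⟩ hns
    swap
    · omega
    set T : Module.End F (ι → F) := Matrix.toLin' (x : Matrix ι ι F) with hT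
    have hTi : ∀ v, Q (T v) = Q v := fun v => by rw [hT, Matrix.toLin'_apply]; exact omegaGL_le hx v
    have hTT : ∀ v, T (T v) = z • v := fun v => by
      rw [Units.val_pow_eq_pow_val, pow_two] at hz
      rw [hT, Matrix.toLin'_apply, Matrix.toLin'_apply, Matrix.mulVec_mulVec, hz, Matrix.smul_mulVec,
        Matrix.one_mulVec]
    have hzz := scalar_sq (Q := Q) hg₀ (z := z) (by rw [← hTT, hTi, hTi])
    rcases mul_self_eq_one_iff.mp hzz with rfl | rfl
    · have hTT' : ∀ v, T (T v) = v := fun v => by rw [hTT, one_smul]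
      obtain ⟨A, C, hA, hC, hAn, hCn, horth, htop, hinf, hdimAC, -⟩ := involution_parts h2 hQ hTi hTT'
      rw [hdim] at hdimAC
      have hxi : x ∈ Cfsg.isometryGroup F ⇑Q := fun u _ => omegaGL_le hx u
      obtain ⟨⟨γ, hγ⟩, hCp⟩ := (involution_omega h2 Q hQ (by omega) hxi
        (fun v => by rw [← Matrix.toLin'_apply]; exact hA v) (fun v => by rw [← Matrix.toLin'_apply]; exact hC v)
        hCn horth htop).mp hx
      rw [show finrank F C / 2 = γ by omega] at hCp
      have hγ0 : 0 < γ := by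
        by_contra h0
        have hC0 : C = ⊥ := Submodule.finrank_eq_zero.mp (by omega)
        rw [hC0, sup_bot_eq] at htop
        refine hns 1 (Matrix.toLin'.injective (LinearMap.ext fun v => ?_))
        rw [one_smul, Matrix.toLin'_one, LinearMap.id_apply]
        exact (hA v).mp (htop ▸ Submodule.mem_top)
      have hα0 : 0 < finrank F A := by
        by_contra h0
        have hA0 : A = ⊥ := Submodule.finrank_eq_zero.mp (by omega)
        rw [hA0, bot_sup_eq] at htop
        refine hns (-1) (Matrix.toLin'.injective (LinearMap.ext fun v => ?_))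
        rw [map_smul, Matrix.toLin'_one, LinearMap.smul_apply, LinearMap.id_apply, neg_one_smul]
        exact (hC v).mp (htop ▸ Submodule.mem_top)
      have hglob : Plus Q (⊤ : Submodule F (ι → F)) ↔ (Plus Q A ↔ Plus Q C) := by
        rw [← htop, plus_sup_iff hAn hCn horth ⟨d - γ, by omega⟩ ⟨γ, hγ⟩]
      have hmA : finrank F A = 2 * (d - γ) := by omega
      obtain ⟨a, b, hab, ha, hb⟩ : ∃ a b, a + b = m ∧ (2 * a < finrank F A ∨ (2 * a = finrank F A ∧ Plus Q A)) ∧
          (2 * b < finrank F C ∨ (2 * b = finrank F C ∧ Plus Q C)) := by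
        by_cases hAp : Plus Q A
        · refine ⟨min m (d - γ), m - min m (d - γ), by omega, ?_, ?_⟩
          · rcases lt_or_eq_of_le (show min m (d - γ) ≤ d - γ by omega) with h | h
            · exact Or.inl (by omega)
            · exact Or.inr ⟨by omega, hAp⟩
          · exact Or.inl (by omega)
        · by_cases hCp' : Plus Q C
          · refine ⟨min m (d - γ - 1), m - min m (d - γ - 1), by omega, Or.inl (by omega), ?_⟩
            rcases lt_or_eq_of_le (show m - min m (d - γ - 1) ≤ γ by omega) with h | h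
            · exact Or.inl (by omega)
            · exact Or.inr ⟨by omega, hCp'⟩
          · have hsq : ¬ IsSquare (-1 : F) := fun h => hCp' (hCp.mpr (Or.inl h))
            have := (hinv (hglob.mpr (iff_of_false hAp hCp'))).resolve_left hsq
            exact ⟨min m (d - γ - 1), m - min m (d - γ - 1), by omega, Or.inl (by omega), Or.inl (by omega)⟩
      obtain ⟨W, hWT, hWd, hWts⟩ := ts_glue hA hC hAn hCn horth hinf ha hb
      exact ⟨W, ⟨hWd.trans hab, hWts⟩, toLin'_map_le_iff.mpr hWT⟩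
    · have hT' : ∀ v, T (T v) = -v := fun v => by rw [hTT, neg_one_smul]
      by_cases hsq : IsSquare (-1 : F)
      · obtain ⟨s, hs⟩ := hsq
        obtain ⟨A, hAI, hAd, hAts⟩ := quarter_eigen h2 hTi hT' hdim hQ hs.symm
        obtain ⟨W, hW, hWd⟩ := exists_sub_dim A (b := m) (by omega)
        exact ⟨W, ⟨hWd, fun w hw => hAts w (hW hw)⟩, toLin'_map_le_iff.mpr (hAI W hW)⟩
      · have hex := (exists_omega_quarter_iff h2 Q hQ (by omega) hn).mp ⟨x, hx, fun v => by
          rw [← Matrix.toLin'_apply, ← Matrix.toLin'_apply]; exact hT' v⟩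
        have hme : Even m := by
          rcases hquart with h | h | h
          · exact absurd h hsq
          · exact h
          · exact absurd (by simpa [hsq] using hex) h
        obtain ⟨μ, hμ⟩ := hme
        obtain ⟨W, hWT, hWd, hWts⟩ := quarter_ts h2 hTi hT' hsq hQ μ (by omega)
        exact ⟨W, ⟨by omega, hWts⟩, toLin'_map_le_iff.mpr hWT⟩

/-- The criterion for totally singular subspaces in odd dimension. -/
theorem odd_ts_class {d m i c : ℕ} (hp2 : p ≠ 2) (hd : 3 ≤ d) (hm : 1 ≤ m) (hmd : m ≤ d)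
    (hdvd : r ∣ Nat.card (TSub (Qo (F := F) d) m)) (hi : i = orderOf (Fintype.card F : ZMod r))
    (hc : c = if Even i then i else 2 * i) :
    (∀ x : GL (Unit ⊕ (Fin d ⊕ Fin d)) F, x ∈ Cfsg.Geo.omegaGL (Cfsg.quadFormOdd d F) → orderOf x = r →
      ∃ W : Submodule F (Unit ⊕ (Fin d ⊕ Fin d) → F), (finrank F ↥W = m ∧ ∀ w ∈ W, Qo d w = 0) ∧
        W.map (Matrix.toLin' (x : Matrix (Unit ⊕ (Fin d ⊕ Fin d)) (Unit ⊕ (Fin d ⊕ Fin d)) F)) ≤ W) ↔
    ((r = 2 ∧ (m < d ∨ IsSquare (-1 : F))) ∨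
      (r ≠ p ∧ 2 < r ∧ i ≤ m ∧ 2 * (m % i) < (2 * d + 1) % c ∧
        (Odd i ∨ (r - 1) / i + 2 * (m / i) ≤ (2 * d + 1) / i))) := by
  classical
  have hr : r.Prime := Fact.out
  have h2 := two_ne (F := F) hp2
  have hQ := qo_nd (F := F) (d := d) hp2
  have hdim := finrank_co (F := F) (d := d)
  have hcard : Fintype.card (Unit ⊕ (Fin d ⊕ Fin d)) = 2 * d + 1 := by simp; omega
  have hrp : r ≠ p := ts_ne_char (p := p) hQ (by omega) hdvd
  by_cases hr2 : r = 2
  swap
  · have hr3 : 2 < r := by have := hr.two_le; omega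
    rw [odd_forall_iff (p := p) hp2 (by omega) hr2 (fun T => ∃ W : Submodule F (Unit ⊕ (Fin d ⊕ Fin d) → F),
      (finrank F ↥W = m ∧ ∀ w ∈ W, Qo d w = 0) ∧ W.map T ≤ W)]
    have hss := ts_semisimple hrp hr2 hQ hdim hm (by omega) hdvd hi hc
    have hodd : (2 * d + 1) % c % 2 = 1 := by
      obtain ⟨-, hce⟩ := block_pos (F := F) (p := p) hrp hi hc
      obtain ⟨b, hb⟩ := hce.mul_left ((2 * d + 1) / c)
      have := Nat.div_add_mod' (2 * d + 1) c
      omega
    constructor
    · intro H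
      obtain ⟨him, h⟩ := hss.mp fun T h1 h3 h4 => by
        obtain ⟨W, hW, hWT⟩ := H T h1 h3 h4
        exact ⟨W, fun v hv => hWT ⟨v, hv, rfl⟩, hW⟩
      refine Or.inr ⟨hrp, hr3, him, ?_⟩
      rcases h with ⟨ho, h⟩ | ⟨he, hl, h⟩
      · rcases h with h | ⟨h, -⟩ | ⟨h, -⟩
        · exact ⟨h, Or.inl ho⟩
        · omega
        · omega
      · rcases h with h | ⟨h, -⟩ | ⟨h, -⟩
        · exact ⟨h, Or.inr hl⟩
        · omega
        · omega
    · rintro (⟨h, -⟩ | ⟨-, -, him, hlt, hor⟩) T h1 h3 h4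
      · exact absurd h hr2
      obtain ⟨W, hWT, hW⟩ := hss.mpr ⟨him, by
        rcases Nat.even_or_odd i with he | ho
        · exact Or.inr ⟨he, hor.resolve_left (Nat.not_odd_iff_even.mpr he), Or.inl hlt⟩
        · exact Or.inl ⟨ho, Or.inl hlt⟩⟩ T h1 h3 h4
      exact ⟨W, hW, by rintro _ ⟨v, hv, rfl⟩; exact hWT v hv⟩
  subst hr2
  constructor
  · intro H
    refine Or.inl ⟨rfl, ?_⟩
    by_contra hcon
    push Not at hcon
    obtain ⟨hdm, hsq⟩ := hcon
    obtain ⟨x, A, C, hx, hxx, hA, hC, hAn, hCn, horth, htop, hCd, hAd, hCp, hW⟩ :=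
      exists_plane_involution h2 (Qo d) hQ (by omega)
    have hx1 : x ≠ 1 := fun e => by
      obtain ⟨c₁, hc₁, hc0⟩ := Submodule.exists_mem_ne_zero_of_ne_bot (p := C) fun e => by
        rw [e, finrank_bot] at hCd; omega
      have := (hC c₁).mp hc₁
      rw [e, Units.val_one, Matrix.one_mulVec, eq_neg_iff_add_eq_zero, ← two_smul F] at this
      exact hc0 ((smul_eq_zero.mp this).resolve_left h2)
    obtain ⟨W, ⟨hWd, hWts⟩, hWx⟩ := H x (by rw [quadFormOdd_eq]; exact hx) (orderOf_eq_prime hxx hx1)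
    have hle := hW W (toLin'_map_le_iff.mp hWx)
    rcases ts_in_le hCn (inf_le_right : W ⊓ C ≤ C) fun w hw => hWts w hw.1 with h3 | ⟨-, h3⟩
    · have := two_mul_plus_le hAn (inf_le_right : W ⊓ A ≤ A) fun w hw => hWts w hw.1
      omega
    · exact hsq (hCp.mp h3)
  · rintro (⟨-, hcond⟩ | ⟨-, h3, -⟩) x hx hxr
    swap
    · omega
    rw [quadFormOdd_eq] at hx
    set T : Module.End F (Unit ⊕ (Fin d ⊕ Fin d) → F) := Matrix.toLin' (x : Matrix _ _ F) with hT
    have hTi : ∀ v, Qo d (T v) = Qo d v := fun v => by rw [hT, Matrix.toLin'_apply]; exact omegaGL_le hx v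
    have hTp : T ^ 2 = 1 := toLin'_pow_eq (by rw [← hxr]; exact pow_orderOf_eq_one x)
    have hTT : ∀ v, T (T v) = v := fun v => by rw [← Module.End.mul_apply, ← pow_two, hTp, Module.End.one_apply]
    obtain ⟨A, C, hA, hC, hAn, hCn, horth, htop, hinf, hdimAC, -⟩ := involution_parts h2 hQ hTi hTT
    rw [hdim] at hdimAC
    have hxi : x ∈ Cfsg.isometryGroup F ⇑(Qo (F := F) d) := fun u _ => omegaGL_le hx u
    obtain ⟨⟨γ, hγ⟩, hCp⟩ := (involution_omega h2 (Qo d) hQ (by omega) hxi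
      (fun v => by rw [← Matrix.toLin'_apply]; exact hA v) (fun v => by rw [← Matrix.toLin'_apply]; exact hC v)
      hCn horth htop).mp hx
    rw [show finrank F C / 2 = γ by omega] at hCp
    obtain ⟨a, b, hab, ha, hb⟩ : ∃ a b, a + b = m ∧
        (2 * a < finrank F A ∨ (2 * a = finrank F A ∧ Plus (Qo d) A)) ∧
        (2 * b < finrank F C ∨ (2 * b = finrank F C ∧ Plus (Qo d) C)) := by
      rcases Nat.eq_zero_or_pos γ with hγ0 | hγ0
      · exact ⟨m, 0, rfl, Or.inl (by omega), Or.inr ⟨by omega, by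
          rw [Submodule.finrank_eq_zero.mp (show finrank F C = 0 by omega)]; exact plus_bot⟩⟩
      refine ⟨min m (d - γ), m - min m (d - γ), by omega, Or.inl (by omega), ?_⟩
      rcases lt_or_eq_of_le (show m - min m (d - γ) ≤ γ by omega) with h | h
      · exact Or.inl (by omega)
      · exact Or.inr ⟨by omega, hCp.mpr (Or.inl (hcond.resolve_left (by omega)))⟩
    obtain ⟨W, hWT, hWd, hWts⟩ := ts_glue hA hC hAn hCn horth hinf ha hb
    exact ⟨W, ⟨hWd.trans hab, hWts⟩, toLin'_map_le_iff.mpr hWT⟩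

end CfsgLib.OrthIso
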