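/-
The classes of the statements about even-dimensional orthogonal groups.
-/
import Cfsg.Agent.Lib.OrthIso.EvenOdd
import Cfsg.Prelude.Def_GeometricClasses

set_option autoImplicit false
set_option linter.unusedSectionVars false

namespace CfsgLib.OrthIso

open Module Polynomial QuadraticMap CfsgLib.PrimeIso CfsgLib.StdQuadForms
open scoped Matrix MatrixGroups

universe u

variable {F : Type u} [Field F] [Fintype F] {ι : Type} [Fintype ι] [DecidableEq ι]

theorem nd_on_iff (Q : QuadraticForm F (ι → F)) (W : Submodule F (ι → F)) :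
    Cfsg.Geo.IsNondegenerateOn (QuadraticMap.polar ⇑Q) W ↔ ND (polarBilin Q) W := by
  constructor
  · intro h x hx hp
    by_contra h0
    obtain ⟨-, y, hy, hne⟩ := h x hx h0
    exact hne (hp y hy)
  · intro h w hw hw0
    obtain ⟨y, hy, hne⟩ : ∃ y ∈ W, polar (⇑Q) w y ≠ 0 := by
      by_contra hc
      push Not at hc
      exact hw0 (h w hw hc)
    exact ⟨⟨y, hy, by rwa [polar_comm]⟩, y, hy, hne⟩

theorem iso_class_iff (Q : QuadraticForm F (ι → F)) {W₀ : Submodule F (ι → F)} {m : ℕ}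
    (hW₀ : finrank F W₀ = m ∧ Cfsg.Geo.IsNondegenerateOn (QuadraticMap.polar ⇑Q) W₀) (W : Submodule F (ι → F)) :
    (finrank F ↥W = m ∧ Cfsg.Geo.IsNondegenerateOn (QuadraticMap.polar ⇑Q) W ∧ Cfsg.Geo.AreIsometricFor ⇑Q W W₀) ↔
      Iso Q W W₀ :=
  ⟨fun h => h.2.2, fun h =>
    ⟨h.finrank_eq.trans hW₀.1, (nd_on_iff Q W).mpr (h.symm.nd ((nd_on_iff Q W₀).mp hW₀.2)), h⟩⟩

theorem isSquare_two_pow_iff (hF : Fintype.card F % 2 = 1) (d : ℕ) :
    IsSquare ((2 : F) ^ d) ↔ (Even d ∨ (Fintype.card F % 8 = 1 ∨ Fintype.card F % 8 = 7)) := by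
  rcases Nat.even_or_odd d with he | ⟨k, hk⟩
  · exact iff_of_true (he.isSquare_pow 2) (Or.inl he)
  · have : IsSquare ((2 : F) ^ d) ↔ IsSquare (2 : F) := by
      have h2 : (2 : F) ≠ 0 := Ring.two_ne_zero fun h => by
        have := FiniteField.even_card_iff_char_two.mp h
        omega
      constructor
      · rintro ⟨t, ht⟩
        refine ⟨t / 2 ^ k, ?_⟩
        field_simp
        rw [hk] at ht
        linear_combination ht
      · rintro ⟨t, ht⟩
        exact ⟨t * 2 ^ k, by rw [hk]; linear_combination (2 ^ k * 2 ^ k : F) * ht⟩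
    rw [this, FiniteField.isSquare_two_iff]
    have : ¬ Even d := Nat.not_even_iff_odd.mpr ⟨k, hk⟩
    simp only [this, false_or]
    omega

end CfsgLib.OrthIso
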