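/-
Isometries `1 + N` with `N ^ 2 = 0`: invariant non-degenerate subspaces and their types.
-/
import Cfsg.Agent.Lib.OrthIso.SingTwo

set_option autoImplicit false
set_option linter.unusedSectionVars false
set_option maxHeartbeats 1000000

namespace CfsgLib.OrthIso

open Module QuadraticMap CfsgLib.PrimeIso

universe u v

variable {F : Type u} [Field F] [Fintype F] {V : Type v} [AddCommGroup V] [Module F V] [FiniteDimensional F V]
  {Q : QuadraticForm F V}

/-- The nilpotent part of a unipotent isometry of alternating kind. -/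
structure ANil (Q : QuadraticForm F V) (N : Module.End F V) : Prop where
  sing : ∀ x, Q (N x) = 0
  self : ∀ x, polar Q x (N x) = 0
  sq : ∀ x, N (N x) = 0

variable {N : Module.End F V}

theorem ANil.skew (h : ANil Q N) (x y : V) : polar Q (N x) y = -polar Q x (N y) := by
  have e := h.self (x + y)
  rw [map_add, polar_add_left, polar_add_right, polar_add_right, h.self x, h.self y, polar_comm Q y (N x)] at e
  linear_combination e

theorem ANil.iso (h : ANil Q N) (x : V) : Q (x + N x) = Q x := by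
  rw [q_add, h.sing, h.self, add_zero, add_zero]

theorem ANil.inv_perp (h : ANil Q N) {Y U : Submodule F V} (hY : Inv N Y) (hU : Inv N U) :
    Inv N (perpIn (polarBilin Q) Y U) := fun x hx => ⟨hU x hx.1, fun y hy => by
  show polar Q y (N x) = 0
  rw [← neg_neg (polar Q y (N x)), ← h.skew, show polar Q (N y) x = 0 from hx.2 _ (hY y hy), neg_zero]⟩

/-- A block of dimension four. -/
theorem ANil.block (h : ANil Q N) {U : Submodule F V} (hUI : Inv N U) (hUn : ND (polarBilin Q) U)
    {v : V} (hv : v ∈ U) (hNv : N v ≠ 0) :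
    ∃ B ≤ U, Inv N B ∧ ND (polarBilin Q) B ∧ finrank F B = 4 ∧ Plus Q B := by
  obtain ⟨u₀, hu₀, hne⟩ : ∃ y ∈ U, polar Q (N v) y ≠ 0 := by
    by_contra hc
    push Not at hc
    exact hNv (hUn (N v) (hUI v hv) hc)
  set u := (polar Q (N v) u₀)⁻¹ • u₀ with hu'
  have hu : u ∈ U := U.smul_mem _ hu₀
  have huv : polar Q (N v) u = 1 := by
    rw [hu', polar_smul_right, smul_eq_mul, inv_mul_cancel₀ hne]
  have hvu : polar Q v (N u) = -1 := by rw [← huv, h.skew, neg_neg]
  have p11 : polar Q (N v) v = 0 := (polar_comm Q (N v) v).trans (h.self v)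
  have p33 : polar Q (N u) u = 0 := (polar_comm Q (N u) u).trans (h.self u)
  have p24 : polar Q (N v) (N u) = 0 := by rw [h.skew, h.sq, polar_zero_right, neg_zero]
  have p22 : ∀ y, polar Q (N y) (N y) = 0 := fun y => by rw [h.skew, h.sq, polar_zero_right, neg_zero]
  let g : Fin 4 → V := ![v, N v, u, N u]
  set B := Submodule.span F (Set.range g) with hB
  have hgB : ∀ j, g j ∈ B := fun j => Submodule.subset_span ⟨j, rfl⟩
  have hvB : v ∈ B := hgB 0
  have hNvB : N v ∈ B := hgB 1
  have huB : u ∈ B := hgB 2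
  have hNuB : N u ∈ B := hgB 3
  have key : ∀ c : Fin 4 → F,
      polar Q (∑ j, c j • g j) (N v) = c 2 ∧ polar Q (∑ j, c j • g j) (N u) = -c 0 ∧
      ((c 0 = 0 ∧ c 2 = 0) → polar Q (∑ j, c j • g j) v = -c 3 ∧ polar Q (∑ j, c j • g j) u = c 1) := fun c => by
    rw [Fin.sum_univ_four]
    simp only [g, Matrix.cons_val_zero, Matrix.cons_val_one, Matrix.cons_val, polar_add_left, polar_smul_left,
      smul_eq_mul]
    refine ⟨?_, ?_, fun ⟨h0, h2⟩ => ⟨?_, ?_⟩⟩
    · rw [polar_comm Q v (N v), p11, p22, polar_comm Q u (N v), huv, polar_comm Q (N u) (N v), p24]; ring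
    · rw [hvu, p24, polar_comm Q u (N u), p33, p22]; ring
    · rw [h0, h2, p11, polar_comm Q (N u) v, hvu]; ring
    · rw [h0, h2, huv, p33]; ring
  have hzero : ∀ c : Fin 4 → F, (∀ y ∈ B, polar Q (∑ j, c j • g j) y = 0) → ∀ j, c j = 0 := fun c hc => by
    obtain ⟨k1, k2, k3⟩ := key c
    have c2 : c 2 = 0 := by rw [← k1]; exact hc _ hNvB
    have c0 : c 0 = 0 := by rw [← neg_eq_zero, ← k2]; exact hc _ hNuB
    obtain ⟨k4, k5⟩ := k3 ⟨c0, c2⟩
    have c1 : c 1 = 0 := by rw [← k5]; exact hc _ huB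
    have c3 : c 3 = 0 := by rw [← neg_eq_zero, ← k4]; exact hc _ hvB
    intro j; fin_cases j <;> assumption
  have hli : LinearIndependent F g := Fintype.linearIndependent_iff.mpr fun c hc =>
    hzero c fun y _ => by rw [hc, polar_zero_left]
  have hBd : finrank F B = 4 := by rw [hB, finrank_span_eq_card hli, Fintype.card_fin]
  refine ⟨B, Submodule.span_le.mpr ?_, fun x hx => ?_, fun x hx hp => ?_, hBd, ?_⟩
  · rintro _ ⟨j, rfl⟩
    fin_cases j
    · exact hv
    · exact hUI v hv
    · exact hu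
    · exact hUI u hu
  · obtain ⟨c, rfl⟩ := (Submodule.mem_span_range_iff_exists_fun F).mp hx
    rw [map_sum]
    refine Submodule.sum_mem _ fun j _ => ?_
    rw [map_smul]
    refine B.smul_mem _ ?_
    fin_cases j
    · exact hNvB
    · show N (N v) ∈ B
      rw [h.sq]; exact zero_mem _
    · exact hNuB
    · show N (N u) ∈ B
      rw [h.sq]; exact zero_mem _
  · obtain ⟨c, rfl⟩ := (Submodule.mem_span_range_iff_exists_fun F).mp hx
    rw [Finset.sum_eq_zero fun j _ => by rw [hzero c hp j, zero_smul]]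
  · let g' : Fin 2 → V := ![N v, N u]
    refine ⟨Submodule.span F (Set.range g'), Submodule.span_le.mpr ?_, fun x hx => ?_, ?_⟩
    · rintro _ ⟨j, rfl⟩; fin_cases j
      · exact hNvB
      · exact hNuB
    · obtain ⟨c, rfl⟩ := (Submodule.mem_span_range_iff_exists_fun F).mp hx
      rw [Fin.sum_univ_two]
      simp only [g', Matrix.cons_val_zero, Matrix.cons_val_one]
      rw [← map_smul, ← map_smul, ← map_add]
      exact h.sing _
    · have : LinearIndependent F g' := by
        convert hli.comp ![1, 3] (by decide) using 1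
        funext j; fin_cases j <;> rfl
      rw [finrank_span_eq_card this, Fintype.card_fin, hBd]

/-- The decomposition into blocks and a fixed part. -/
theorem ANil.decomp (h : ANil Q N) : ∀ (e : ℕ) (U : Submodule F V), Inv N U → ND (polarBilin Q) U →
    finrank F U = 2 * e → ∃ X ≤ U, (∀ x ∈ X, N x = 0) ∧ ND (polarBilin Q) X ∧
      ∃ t, finrank F X + 4 * t = 2 * e ∧ (Plus Q U ↔ Plus Q X) := by
  intro e
  induction e using Nat.strong_induction_on with
  | _ e ih =>
    intro U hUI hUn hUd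
    by_cases h0 : ∀ x ∈ U, N x = 0
    · exact ⟨U, le_rfl, h0, hUn, 0, by omega, Iff.rfl⟩
    push Not at h0
    obtain ⟨v, hv, hNv⟩ := h0
    obtain ⟨B, hB, hBI, hBn, hBd, hBp⟩ := h.block hUI hUn hv hNv
    obtain ⟨hRn, -, hsup, hRd⟩ := split_perpIn refl_bilin hB hBn hUn
    obtain ⟨X, hX, hX0, hXn, t, ht, hp⟩ := ih (e - 2) (by omega) _ (h.inv_perp hBI hUI) hRn (by omega)
    refine ⟨X, hX.trans perpIn_le, hX0, hXn, t + 1, by omega, ?_⟩
    rw [← hsup, plus_sup_iff hBn hRn (fun y hy z hz => hz.2 y hy) ⟨2, hBd⟩ ⟨e - 2, by omega⟩,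
      iff_true_intro hBp, true_iff, hp]

/-- Invariant subspaces when the range is as large as possible. -/
theorem ANil.invariant (h : ANil Q N) (hQ : ND (polarBilin Q) (⊤ : Submodule F V)) {d : ℕ}
    (hn : finrank F V = 2 * d) (hs : d ≤ finrank F (LinearMap.range N) + 1) {W : Submodule F V} (hWI : Inv N W)
    (hWn : ND (polarBilin Q) W) {w : ℕ} (hWd : finrank F W = 2 * w) :
    (Even w ∧ Plus Q W) ∨
      (Odd w ∧ finrank F (LinearMap.range N) + 1 = d ∧ (Plus Q W ↔ Plus Q (⊤ : Submodule F V))) := by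
  obtain ⟨X, -, hX0, hXn, t, ht, hp⟩ := h.decomp w W hWI hWn hWd
  have hperp : ∀ u, ∀ x ∈ X, polar Q x (N u) = 0 := fun u x hx => by
    rw [polar_comm, h.skew, hX0 x hx, polar_zero_right, neg_zero]
  have hinf : X ⊓ LinearMap.range N = ⊥ := (Submodule.eq_bot_iff _).mpr fun x ⟨hx, u, hu⟩ =>
    hXn x hx fun y hy => by
      show polar Q x y = 0
      rw [polar_comm, ← hu]; exact hperp u y hy
  have hle : X ⊔ LinearMap.range N ≤ LinearMap.ker N := sup_le (fun x hx => hX0 x hx) (by
    rintro _ ⟨u, rfl⟩; exact h.sq u)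
  have h1 := Submodule.finrank_sup_add_finrank_inf_eq X (LinearMap.range N)
  rw [hinf, finrank_bot] at h1
  have h2 := Submodule.finrank_mono hle
  have h3 := LinearMap.finrank_range_add_finrank_ker N
  rw [hn] at h3
  rcases Nat.even_or_odd w with ⟨k, hk⟩ | ⟨k, hk⟩
  · refine Or.inl ⟨⟨k, hk⟩, ?_⟩
    have hX : X = ⊥ := Submodule.finrank_eq_zero.mp (by omega)
    rw [hp, hX]; exact plus_bot
  · refine Or.inr ⟨⟨k, hk⟩, by omega, ?_⟩
    obtain ⟨hPn, -, hsup, hPd⟩ := split_perpIn refl_bilin (le_top (a := X)) hXn hQ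
    rw [finrank_top, hn] at hPd
    have hPp : Plus Q (perpIn (polarBilin Q) X ⊤) := by
      refine ⟨LinearMap.range N, ?_, ?_, ?_⟩
      · rintro _ ⟨u, rfl⟩; exact ⟨trivial, fun x hx => hperp u x hx⟩
      · rintro _ ⟨u, rfl⟩; exact h.sing u
      · omega
    rw [hp, ← hsup, plus_sup_iff hXn hPn (fun y hy z hz => hz.2 y hy) ⟨finrank F X / 2, by omega⟩ ⟨d - 1, by omega⟩,
      iff_true_intro hPp, iff_true]

/-- Invariant subspaces of the type of the whole. -/
theorem ANil.exists_invariant (h : ANil Q N) : ∀ (e : ℕ) (U : Submodule F V), Inv N U → ND (polarBilin Q) U →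
    finrank F U = 2 * e → ∀ w, w ≤ e → (Plus Q U → Odd e ∨ Even w) → (¬ Plus Q U → 1 ≤ w ∧ (Even e ∨ Odd w)) →
    ∃ W ≤ U, Inv N W ∧ ND (polarBilin Q) W ∧ finrank F W = 2 * w ∧ (Plus Q W ↔ Plus Q U) := by
  intro e
  induction e using Nat.strong_induction_on with
  | _ e ih =>
    intro U hUI hUn hUd w hw hplus hminus
    rcases Nat.eq_zero_or_pos w with hw0 | hw0
    · subst hw0
      have hU : Plus Q U := by
        by_contra hU
        have := (hminus hU).1
        omega
      exact ⟨⊥, bot_le, fun x hx => by rw [(Submodule.mem_bot F).mp hx, map_zero]; exact zero_mem _,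
        fun x hx _ => (Submodule.mem_bot F).mp hx, finrank_bot F V, iff_of_true plus_bot hU⟩
    by_cases h0 : ∀ x ∈ U, N x = 0
    · rcases lt_or_eq_of_le hw with hlt | heq
      · obtain ⟨W, hW, hWn, hWd, hWp⟩ := exists_type hUn (K := w) hw0 (by omega) (Plus Q U)
        exact ⟨W, hW, fun x hx => by rw [h0 x (hW hx)]; exact zero_mem _, hWn, hWd, hWp⟩
      · exact ⟨U, le_rfl, hUI, hUn, by omega, Iff.rfl⟩
    push Not at h0
    obtain ⟨v, hv, hNv⟩ := h0
    obtain ⟨B, hB, hBI, hBn, hBd, hBp⟩ := h.block hUI hUn hv hNv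
    obtain ⟨hRn, -, hsup, hRd⟩ := split_perpIn refl_bilin hB hBn hUn
    set R := perpIn (polarBilin Q) B U
    have hRI : Inv N R := h.inv_perp hBI hUI
    have hRp : Plus Q U ↔ Plus Q R := by
      rw [← hsup, plus_sup_iff hBn hRn (fun y hy z hz => hz.2 y hy) ⟨2, hBd⟩ ⟨e - 2, by omega⟩, iff_true_intro hBp,
        true_iff]
    by_cases hbig : 3 ≤ w ∨ (w = 2 ∧ Plus Q U)
    · have he : ∀ {a : ℕ}, 2 ≤ a → (Even (a - 2) ↔ Even a) ∧ (Odd (a - 2) ↔ Odd a) := fun {a} ha => by
        rw [Nat.even_iff, Nat.even_iff, Nat.odd_iff, Nat.odd_iff]; omega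
      have hwe := he (show 2 ≤ w by omega)
      have hee := he (show 2 ≤ e by omega)
      obtain ⟨W, hW, hWI, hWn, hWd, hWp⟩ := ih (e - 2) (by omega) R hRI hRn (by omega) (w - 2) (by omega)
        (fun hR => by rw [hee.2, hwe.1]; exact hplus (hRp.mpr hR))
        (fun hR => by
          rw [hee.1, hwe.2]
          refine ⟨?_, (hminus (mt hRp.mp hR)).2⟩
          rcases hbig with h3 | ⟨-, h3⟩
          · omega
          · exact absurd (hRp.mp h3) hR)
      have horth : ∀ y ∈ B, ∀ z ∈ W, polar Q y z = 0 := fun y hy z hz => (hW hz).2 y hy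
      obtain ⟨-, hd', hn'⟩ := sup_dims hBn hWn horth
      refine ⟨B ⊔ W, sup_le hB (hW.trans perpIn_le), hBI.sup hWI, hn', by omega, ?_⟩
      rw [plus_sup_iff hBn hWn horth ⟨2, hBd⟩ ⟨w - 2, by omega⟩, iff_true_intro hBp, true_iff, hWp, hRp]
    · have hw2 : w ≤ e - 2 := by
        by_cases hU : Plus Q U
        · have hw1 : w = 1 := by
            by_contra h1
            rcases (show w = 2 ∨ 3 ≤ w by omega) with h2 | h2
            · exact hbig (Or.inr ⟨h2, hU⟩)
            · exact hbig (Or.inl h2)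
          rcases hplus hU with ⟨k, hk⟩ | ⟨k, hk⟩ <;> omega
        · obtain ⟨-, h5⟩ := hminus hU
          have hw3 : w ≤ 2 := by
            by_contra h2
            exact hbig (Or.inl (by omega))
          by_contra hlt
          have hR0 : finrank F R ≠ 0 := fun h6 => by
            refine hU (hRp.mpr ?_)
            rw [Submodule.finrank_eq_zero.mp h6]; exact plus_bot
          rcases h5 with ⟨k, hk⟩ | ⟨k, hk⟩ <;> omega
      have he : (Even (e - 2) ↔ Even e) ∧ (Odd (e - 2) ↔ Odd e) := by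
        rw [Nat.even_iff, Nat.even_iff, Nat.odd_iff, Nat.odd_iff]; omega
      obtain ⟨W, hW, hWI, hWn, hWd, hWp⟩ := ih (e - 2) (by omega) R hRI hRn (by omega) w hw2
        (fun hR => by rw [he.2]; exact hplus (hRp.mpr hR)) (fun hR => by rw [he.1]; exact hminus (mt hRp.mp hR))
      exact ⟨W, hW.trans perpIn_le, hWI, hWn, hWd, hWp.trans hRp.symm⟩

/-- A nilpotent part with prescribed range. -/
theorem exists_anil (hQ : ND (polarBilin Q) (⊤ : Submodule F V)) {t : ℕ}
    (ht : 4 * t < finrank F V ∨ (4 * t = finrank F V ∧ Plus Q (⊤ : Submodule F V))) :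
    ∃ N : Module.End F V, ANil Q N ∧ finrank F (LinearMap.range N) = 2 * t := by
  obtain ⟨L, -, hLd, hLts⟩ := exists_ts_in hQ (b := 2 * t)
    (by rw [finrank_top]; rcases ht with h | ⟨h, hp⟩
        · exact Or.inl (by omega)
        · exact Or.inr ⟨by omega, hp⟩)
  let bb := (Module.finBasisOfFinrankEq F L (hLd.trans (two_mul t))).reindex finSumFinEquiv.symm
  let l : Fin t ⊕ Fin t → V := fun s => (bb s : V)
  have hl : LinearIndependent F l := bb.linearIndependent.map' L.subtype (Submodule.ker_subtype L)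
  have hlp : ∀ s s', polar Q (l s) (l s') = 0 := fun s s' => ts_polar hLts (bb s).2 (bb s').2
  let P : V → V →ₗ[F] F := fun a => polarBilin Q a
  let N : Module.End F V :=
    ∑ j : Fin t, ((P (l (Sum.inl j))).smulRight (l (Sum.inr j)) - (P (l (Sum.inr j))).smulRight (l (Sum.inl j)))
  have hN : ∀ x, N x = ∑ j : Fin t,
      (polar Q (l (Sum.inl j)) x • l (Sum.inr j) - polar Q (l (Sum.inr j)) x • l (Sum.inl j)) := fun x => by
    simp [N, P, LinearMap.sum_apply]
  have hNL : ∀ x, N x ∈ L := fun x => by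
    rw [hN]
    exact Submodule.sum_mem _ fun j _ => sub_mem (L.smul_mem _ (bb _).2) (L.smul_mem _ (bb _).2)
  refine ⟨N, ⟨fun x => hLts _ (hNL x), fun x => ?_, fun x => ?_⟩, ?_⟩
  · show polarBilin Q x (N x) = 0
    rw [hN, map_sum]
    refine Finset.sum_eq_zero fun j _ => ?_
    rw [map_sub, map_smul, map_smul, polarBilin_apply_apply, polarBilin_apply_apply, smul_eq_mul, smul_eq_mul,
      polar_comm Q x (l (Sum.inl j)), polar_comm Q x (l (Sum.inr j))]
    ring
  · rw [hN (N x)]
    refine Finset.sum_eq_zero fun j _ => ?_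
    rw [ts_polar hLts (bb _).2 (hNL x), ts_polar hLts (bb _).2 (hNL x), zero_smul, zero_smul, sub_zero]
  · have hK : LinearMap.range N = L := by
      refine le_antisymm (by rintro _ ⟨x, rfl⟩; exact hNL x) ?_
      let Φ : V →ₗ[F] (Fin t ⊕ Fin t → F) := LinearMap.pi fun s => P (l s)
      have hΦ : Function.Surjective Φ := by
        rw [← LinearMap.range_eq_top]
        by_contra hne
        obtain ⟨φ, hφ0, hφ⟩ := Submodule.exists_le_ker_of_lt_top _ (Ne.lt_top hne)
        refine hφ0 (LinearMap.ext fun c => ?_)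
        have hz : ∑ s, φ (Pi.single s 1) • l s = 0 := hQ _ trivial fun y _ => by
          have := LinearMap.mem_ker.mp (hφ ⟨y, rfl⟩)
          rw [pi_eq_sum_univ' (Φ y), map_sum] at this
          simp only [map_smul, Φ, LinearMap.pi_apply, P] at this
          show polarBilin Q (∑ s, φ (Pi.single s 1) • l s) y = 0
          rw [map_sum, LinearMap.sum_apply, ← this]
          refine Finset.sum_congr rfl fun s _ => ?_
          rw [map_smul, LinearMap.smul_apply, smul_eq_mul, smul_eq_mul, mul_comm]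
        have hc := Fintype.linearIndependent_iff.mp hl _ hz
        rw [pi_eq_sum_univ' c, map_sum, LinearMap.zero_apply]
        exact Finset.sum_eq_zero fun s _ => by rw [map_smul, hc s, smul_zero]
      intro z hz
      set c := bb.repr ⟨z, hz⟩ with hc
      have hz' : z = ∑ j : Fin t, (c (Sum.inl j) • l (Sum.inl j) + c (Sum.inr j) • l (Sum.inr j)) := by
        rw [Finset.sum_add_distrib, ← Fintype.sum_sum_type (fun s => c s • l s)]
        have := congrArg Subtype.val (bb.sum_repr ⟨z, hz⟩)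
        rw [AddSubmonoidClass.coe_finsetSum] at this
        exact this.symm
      obtain ⟨y, hy⟩ := hΦ (Sum.elim (fun j => c (Sum.inr j)) fun j => -c (Sum.inl j))
      refine ⟨y, ?_⟩
      rw [hN, hz']
      refine Finset.sum_congr rfl fun j _ => ?_
      have e1 : polar Q (l (Sum.inl j)) y = c (Sum.inr j) := congrFun hy (Sum.inl j)
      have e2 : polar Q (l (Sum.inr j)) y = -c (Sum.inl j) := congrFun hy (Sum.inr j)
      rw [e1, e2, neg_smul, sub_neg_eq_add, add_comm]
    rw [hK, hLd]

end CfsgLib.OrthIso
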