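/-
Involutions in characteristic two and invariant non-degenerate subspaces of even dimension.
-/
import Cfsg.Agent.Lib.OrthIso.NilBlocks
import Cfsg.Agent.Lib.SympInvolution.OrthForm

set_option autoImplicit false
set_option linter.unusedSectionVars false
set_option maxHeartbeats 1000000

namespace CfsgLib.OrthIso

open Module QuadraticMap CfsgLib.PrimeIso
open scoped Matrix MatrixGroups

universe u v

variable {F : Type u} [Field F] [Fintype F] {V : Type v} [AddCommGroup V] [Module F V] [FiniteDimensional F V]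
  {Q : QuadraticForm F V}

/-- The nilpotent part of an involution in characteristic two. -/
structure CInv (Q : QuadraticForm F V) (N : Module.End F V) : Prop where
  skew : ∀ x y, polar Q (N x) y = polar Q x (N y)
  sq : ∀ x, N (N x) = 0
  val : ∀ x, Q (N x) = polar Q x (N x)

variable [CharP F 2] {N : Module.End F V}

theorem CInv.inv_perp (h : CInv Q N) {Y U : Submodule F V} (hY : Inv N Y) (hU : Inv N U) :
    Inv N (perpIn (polarBilin Q) Y U) := fun x hx => ⟨hU x hx.1, fun y hy => by
  show polar Q y (N x) = 0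
  rw [← h.skew]; exact hx.2 _ (hY y hy)⟩

theorem CInv.self_add (h : CInv Q N) (x y : V) :
    polar Q (x + y) (N (x + y)) = polar Q x (N x) + polar Q y (N y) := by
  rw [map_add, polar_add_left, polar_add_right, polar_add_right, polar_comm Q y (N x), h.skew]
  have : polar Q x (N y) + polar Q x (N y) = 0 := CharTwo.add_self_eq_zero _
  linear_combination this

theorem CInv.self_smul (c : F) (x : V) : polar Q (c • x) (N (c • x)) = c * c * polar Q x (N x) := by
  rw [map_smul, polar_smul_left, polar_smul_right, smul_eq_mul, smul_eq_mul, mul_assoc]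

/-- The vector representing the values `polar x (N x)`. -/
theorem CInv.exists_vec (h : CInv Q N) {U : Submodule F V} (hUn : ND (polarBilin Q) U) :
    ∃ z ∈ U, ∀ x ∈ U, polar Q x (N x) = polar Q x z ^ 2 := by
  classical
  haveI : ExpChar F 2 := ExpChar.prime Nat.prime_two
  let φ : U →ₗ[F] F :=
    { toFun := fun x => (frobeniusEquiv F 2).symm (polar Q (x : V) (N x))
      map_add' := fun x y => by rw [Submodule.coe_add, h.self_add, map_add]
      map_smul' := fun c x => by
        rw [Submodule.coe_smul, CInv.self_smul, map_mul, RingHom.id_apply, smul_eq_mul]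
        congr 1
        rw [RingEquiv.symm_apply_eq, frobeniusEquiv_apply, frobenius_def, pow_two] }
  let Φ : U →ₗ[F] Module.Dual F U := (polarBilin Q).compl₁₂ U.subtype U.subtype
  have hΦ : Function.Injective Φ := (injective_iff_map_eq_zero Φ).mpr fun x hx => Subtype.ext
    (hUn x x.2 fun y hy => LinearMap.congr_fun hx ⟨y, hy⟩)
  obtain ⟨z, hz⟩ := (LinearMap.injective_iff_surjective_of_finrank_eq_finrank Subspace.dual_finrank_eq.symm).mp hΦ φ
  refine ⟨z, z.2, fun x hx => ?_⟩
  have e : polar Q (z : V) x = (frobeniusEquiv F 2).symm (polar Q x (N x)) := LinearMap.congr_fun hz ⟨x, hx⟩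
  rw [polar_comm Q x (z : V), e]
  exact (frobeniusEquiv_symm_pow_p F 2 (polar Q x (N x))).symm

/-- An invariant plane. -/
theorem CInv.plane (h : CInv Q N) {v : V} (hb : polar Q v (N v) ≠ 0) :
    ND (polarBilin Q) (Submodule.span F {v, N v}) ∧ finrank F (Submodule.span F {v, N v}) = 2 ∧
      Inv N (Submodule.span F {v, N v}) ∧
      (Plus Q (Submodule.span F {v, N v}) ↔ CfsgLib.SympOrth.P2 (Q v / polar Q v (N v))) := by
  set b := polar Q v (N v) with hbdef
  have hself : ∀ y, polar Q y y = 0 := fun y => by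
    rw [polar_self, nsmul_eq_mul, Nat.cast_ofNat, CharTwo.two_eq_zero, zero_mul]
  have e : ∀ a c : F, polar Q (a • v + c • N v) (N v) = a * b ∧ polar Q (a • v + c • N v) v = c * b := fun a c => by
    constructor
    · rw [polar_add_left, polar_smul_left, polar_smul_left, hself, smul_zero, add_zero, smul_eq_mul]
    · rw [polar_add_left, polar_smul_left, polar_smul_left, hself, smul_zero, zero_add, smul_eq_mul,
        polar_comm Q (N v) v]
  have hval : ∀ a c : F, Q (a • v + c • N v) = a * a * Q v + c * c * b + a * c * b := fun a c => by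
    rw [q_add, QuadraticMap.map_smul, QuadraticMap.map_smul, polar_smul_left, polar_smul_right, h.val]
    simp only [smul_eq_mul, ← hbdef]
    ring
  have hvS : v ∈ Submodule.span F {v, N v} := Submodule.subset_span (by simp)
  have hNS : N v ∈ Submodule.span F {v, N v} := Submodule.subset_span (by simp)
  have hind : ∀ a c : F, a • v + c • N v = 0 → a = 0 ∧ c = 0 := fun a c h0 => by
    obtain ⟨e1, e2⟩ := e a c
    rw [h0, polar_zero_left] at e1 e2
    exact ⟨(mul_eq_zero.mp e1.symm).resolve_right hb, (mul_eq_zero.mp e2.symm).resolve_right hb⟩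
  have hd : finrank F (Submodule.span F {v, N v}) = 2 := by
    have hli : LinearIndependent F ![v, N v] := LinearIndependent.pair_iff.mpr hind
    have := finrank_span_eq_card hli
    rwa [Matrix.range_cons, Matrix.range_cons, Matrix.range_empty, Set.union_empty, Set.singleton_union,
      Fintype.card_fin] at this
  refine ⟨fun x hx hp => ?_, hd, fun x hx => ?_, ?_⟩
  · obtain ⟨a, c, rfl⟩ := Submodule.mem_span_pair.mp hx
    obtain ⟨e1, e2⟩ := e a c
    have h1 : a * b = 0 := e1.symm.trans (hp _ hNS)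
    have h3 : c * b = 0 := e2.symm.trans (hp _ hvS)
    rw [(mul_eq_zero.mp h1).resolve_right hb, (mul_eq_zero.mp h3).resolve_right hb, zero_smul, zero_smul, add_zero]
  · obtain ⟨a, c, rfl⟩ := Submodule.mem_span_pair.mp hx
    rw [map_add, map_smul, map_smul, h.sq, smul_zero, add_zero]
    exact Submodule.smul_mem _ _ hNS
  · constructor
    · rintro ⟨W, hW, hts, hWd⟩
      obtain ⟨x, hx, hx0⟩ := Submodule.exists_mem_ne_zero_of_ne_bot (p := W) fun e0 => by
        rw [e0, finrank_bot, hd] at hWd; omega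
      obtain ⟨a, c, rfl⟩ := Submodule.mem_span_pair.mp (hW hx)
      have h0 := hts _ hx
      rw [hval] at h0
      have ha : a ≠ 0 := fun e0 => hx0 (by
        subst e0
        rw [mul_zero, zero_mul, zero_mul, zero_mul, zero_add, add_zero, mul_eq_zero, or_iff_left hb,
          mul_self_eq_zero] at h0
        rw [h0, zero_smul, zero_smul, add_zero])
      refine ⟨c / a, CharTwo.add_eq_zero.mp ?_⟩
      field_simp
      linear_combination h0
    · rintro ⟨y, hy⟩
      refine ⟨Submodule.span F {(1 : F) • v + y • N v}, (Submodule.span_singleton_le_iff_mem _ _).mpr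
        (Submodule.mem_span_pair.mpr ⟨1, y, rfl⟩), ts_span ?_, ?_⟩
      · rw [hval]
        have : Q v = (y ^ 2 + y) * b := by rw [hy, div_mul_cancel₀ _ hb]
        rw [this]
        have := CharTwo.add_self_eq_zero ((y ^ 2 + y) * b)
        linear_combination this
      · rw [finrank_span_singleton fun e0 => one_ne_zero (hind _ _ e0).1, hd]

/-- Splitting off a plane of prescribed type. -/
theorem CInv.split (h : CInv Q N) {U : Submodule F V} (hUI : Inv N U) (hUn : ND (polarBilin Q) U)
    (hrk : 2 ≤ finrank F (U.map N)) (hc : ∃ x ∈ U, polar Q x (N x) ≠ 0) (P1 : Prop) :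
    ∃ Y ≤ U, Inv N Y ∧ ND (polarBilin Q) Y ∧ finrank F Y = 2 ∧ (Plus Q Y ↔ P1) ∧
      (∃ x ∈ perpIn (polarBilin Q) Y U, polar Q x (N x) ≠ 0) ∧
      finrank F (U.map N) = finrank F ((perpIn (polarBilin Q) Y U).map N) + 1 := by
  classical
  obtain ⟨z, hzU, hz⟩ := h.exists_vec hUn
  obtain ⟨v, hv, hvz, hzN⟩ : ∃ v ∈ U, polar Q v z ≠ 0 ∧ z ∉ Submodule.span F {N v} := by
    by_contra hcon
    push Not at hcon
    obtain ⟨v₀, hv₀, hb₀⟩ := hc
    have hv₀z : polar Q v₀ z ≠ 0 := fun e0 => hb₀ (by rw [hz v₀ hv₀, e0]; simp)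
    have hz0 : z ≠ 0 := fun e0 => hv₀z (by rw [e0, polar_zero_right])
    have key : ∀ x ∈ U, polar Q x z ≠ 0 → N x ∈ Submodule.span F {z} := fun x hx hxz => by
      obtain ⟨c, hc'⟩ := Submodule.mem_span_singleton.mp (hcon x hx hxz)
      have hc0 : c ≠ 0 := fun e0 => hz0 (by rw [← hc', e0, zero_smul])
      exact Submodule.mem_span_singleton.mpr ⟨c⁻¹, by rw [← hc', smul_smul, inv_mul_cancel₀ hc0, one_smul]⟩
    have hle : U.map N ≤ Submodule.span F {z} := by
      rintro _ ⟨x, hx, rfl⟩
      by_cases hxz : polar Q x z = 0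
      · have := sub_mem (key (x + v₀) (add_mem hx hv₀) (by rw [polar_add_left, hxz, zero_add]; exact hv₀z))
          (key v₀ hv₀ hv₀z)
        rwa [map_add, add_sub_cancel_right] at this
      · exact key x hx hxz
    have := Submodule.finrank_mono hle
    rw [finrank_span_singleton hz0] at this
    omega
  have hb : polar Q v (N v) ≠ 0 := by rw [hz v hv]; exact pow_ne_zero _ hvz
  obtain ⟨v', hv', hNv', hbv', htype⟩ : ∃ v' ∈ U, N v' = N v ∧ polar Q v' (N v') = polar Q v (N v) ∧
      (CfsgLib.SympOrth.P2 (Q v' / polar Q v (N v)) ↔ P1) := by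
    by_cases h0 : CfsgLib.SympOrth.P2 (Q v / polar Q v (N v)) ↔ P1
    · exact ⟨v, hv, rfl, rfl, h0⟩
    obtain ⟨ε, hε⟩ := CfsgLib.SympOrth.exists_not_P2 (F := F)
    set β := polar Q v z with hβ
    have hb2 : polar Q v (N v) = β * β := by rw [hz v hv, pow_two]
    set y := β⁻¹ • z + (β * β)⁻¹ • N v with hy
    have hy0 : y ≠ 0 := fun e0 => hzN (Submodule.mem_span_singleton.mpr ⟨-(β * β)⁻¹ * β, by
      rw [hy, add_eq_zero_iff_eq_neg, ← neg_smul] at e0
      have := congrArg (fun t => β • t) e0
      simp only [smul_smul, mul_inv_cancel₀ hvz, one_smul] at this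
      rw [this, mul_comm]⟩)
    have hyU : y ∈ U := add_mem (U.smul_mem _ hzU) (U.smul_mem _ (hUI v hv))
    obtain ⟨u₀, hu₀, hne⟩ : ∃ u ∈ U, polar Q y u ≠ 0 := by
      by_contra hcon
      push Not at hcon
      exact hy0 (hUn y hyU hcon)
    set u := (ε / polar Q y u₀) • u₀ with hu
    have huU : u ∈ U := U.smul_mem _ hu₀
    have huy : polar Q u y = ε := by
      rw [polar_comm, hu, polar_smul_right, smul_eq_mul, div_mul_cancel₀ _ hne]
    refine ⟨v + N u, add_mem hv (hUI u huU), by rw [map_add, h.sq, add_zero], ?_, ?_⟩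
    · rw [h.self_add, h.sq, polar_zero_right, add_zero]
    have e1 : Q (v + N u) / polar Q v (N v) =
        Q v / polar Q v (N v) + (ε + ((polar Q u z / β) ^ 2 + polar Q u z / β)) := by
      have h5 := CharTwo.add_self_eq_zero (polar Q u z / β)
      rw [q_add, h.val, hz u huU, hb2, ← h.skew v u, polar_comm Q (N v) u, ← huy, hy, polar_add_right,
        polar_smul_right, polar_smul_right, smul_eq_mul, smul_eq_mul]
      field_simp at h5 ⊢
      linear_combination (-1 : F) * β * h5
    rw [e1, CfsgLib.SympOrth.P2_add_iff, CfsgLib.SympOrth.P2_add_iff, iff_true_intro (show CfsgLib.SympOrth.P2 ((polar Q u z / β) ^ 2 + polar Q u z / β) from ⟨_, rfl⟩),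
      iff_false_intro hε]
    tauto
  obtain ⟨hPn, hPd, hPI, hPp⟩ := h.plane (v := v') (by rw [hbv']; exact hb)
  set Y := Submodule.span F {v', N v'} with hY
  have hYU : Y ≤ U := Submodule.span_le.mpr (by
    rintro x (rfl | rfl)
    · exact hv'
    · exact hUI v' hv')
  obtain ⟨hRn, hinf, hsup, -⟩ := split_perpIn refl_bilin hYU hPn hUn
  set R := perpIn (polarBilin Q) Y U
  refine ⟨Y, hYU, hPI, hPn, hPd, by rw [hPp, hbv']; exact htype, ?_, ?_⟩
  · by_contra hcon
    push Not at hcon
    have hv'z : polar Q v' z ≠ 0 := fun e0 => by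
      have := hz v' hv'
      rw [hbv', e0, zero_pow (by norm_num)] at this
      exact hb this
    obtain ⟨zp, hzp, zr, hzr, hzs⟩ := Submodule.mem_sup.mp (hsup.ge hzU)
    have hzr0 : zr = 0 := hRn zr hzr fun x hx => by
      show polar Q zr x = 0
      have h1 : polar Q x z = 0 := by
        have := hz x hx.1
        rw [hcon x hx] at this
        exact pow_eq_zero_iff (two_ne_zero) |>.mp this.symm
      rw [← hzs, polar_add_right, show polar Q x zp = 0 from (polar_comm Q x zp).trans (hx.2 zp hzp), zero_add] at h1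
      rw [polar_comm]; exact h1
    rw [hzr0, add_zero] at hzs
    subst hzs
    obtain ⟨a, c, hac⟩ := Submodule.mem_span_pair.mp hzp
    have h2 : polar Q (N v') zp = 0 := by
      have := hz (N v') (hUI v' hv')
      rw [h.sq, polar_zero_right] at this
      exact pow_eq_zero_iff (two_ne_zero) |>.mp this.symm
    rw [← hac, polar_add_right, polar_smul_right, polar_smul_right, polar_comm Q (N v') v', polar_self, nsmul_eq_mul,
      Nat.cast_ofNat, CharTwo.two_eq_zero, zero_mul, smul_zero, add_zero, smul_eq_mul, hbv', mul_eq_zero,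
      or_iff_left hb] at h2
    rw [h2, zero_smul, zero_add, hNv'] at hac
    exact hzN (Submodule.mem_span_singleton.mpr ⟨c, hac⟩)
  · have hN0 : N v' ≠ 0 := fun e0 => hb (by rw [← hbv', e0, polar_zero_right])
    have hmapY : Y.map N = Submodule.span F {N v'} := by
      refine le_antisymm ?_ ((Submodule.span_singleton_le_iff_mem _ _).mpr ⟨v', Submodule.subset_span (by simp), rfl⟩)
      rintro _ ⟨x, hx, rfl⟩
      obtain ⟨a, c, rfl⟩ := Submodule.mem_span_pair.mp hx
      exact Submodule.mem_span_singleton.mpr ⟨a, by rw [map_add, map_smul, map_smul, h.sq, smul_zero, add_zero]⟩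
    conv_lhs => rw [← hsup, Submodule.map_sup, hmapY]
    have h3 := Submodule.finrank_sup_add_finrank_inf_eq (Submodule.span F {N v'}) (R.map N)
    have hbot : Submodule.span F {N v'} ⊓ R.map N = ⊥ := by
      refine le_bot_iff.mp ((inf_le_inf ?_ ?_).trans hinf.le)
      · exact (Submodule.span_singleton_le_iff_mem _ _).mpr (Submodule.subset_span (by simp))
      · rintro _ ⟨x, hx, rfl⟩; exact (h.inv_perp hPI hUI) x hx
    rw [hbot, finrank_bot, finrank_span_singleton hN0] at h3
    show _ = finrank F (R.map N) + 1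
    omega

/-- Invariant subspaces of both types when the alternating case does not occur. -/
theorem CInv.exists_member (h : CInv Q N) : ∀ (e : ℕ) (U : Submodule F V), Inv N U → ND (polarBilin Q) U →
    finrank F U = 2 * e → 2 ≤ finrank F (U.map N) → (∃ x ∈ U, polar Q x (N x) ≠ 0) → ∀ w, 1 ≤ w → w < e →
      ∀ P : Prop, ∃ W ≤ U, Inv N W ∧ ND (polarBilin Q) W ∧ finrank F W = 2 * w ∧ (Plus Q W ↔ P) := by
  intro e
  induction e using Nat.strong_induction_on with
  | _ e ih =>
    intro U hUI hUn hUd hrk hc w hw hwe P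
    by_cases hw1 : w = 1
    · obtain ⟨Y, hY, hYI, hYn, hYd, hYp, -, -⟩ := h.split hUI hUn hrk hc P
      exact ⟨Y, hY, hYI, hYn, by omega, hYp⟩
    by_cases hwl : w + 1 = e
    · obtain ⟨Y, hY, hYI, hYn, hYd, hYp, -, -⟩ := h.split hUI hUn hrk hc (P ↔ Plus Q U)
      obtain ⟨hRn, -, hsup, hRd⟩ := split_perpIn refl_bilin hY hYn hUn
      refine ⟨_, perpIn_le, h.inv_perp hYI hUI, hRn, by omega, ?_⟩
      have hsum := plus_sup_iff hYn hRn (fun y hy z hz => hz.2 y hy) ⟨1, hYd⟩ ⟨w, by omega⟩
      rw [hsup, hYp] at hsum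
      tauto
    obtain ⟨Y, hY, hYI, hYn, hYd, hYp, hRc, hRk⟩ := h.split hUI hUn hrk hc True
    obtain ⟨hRn, -, hsup, hRd⟩ := split_perpIn refl_bilin hY hYn hUn
    set R := perpIn (polarBilin Q) Y U
    have hRI : Inv N R := h.inv_perp hYI hUI
    obtain ⟨W, hW, hWI, hWn, hWd, hWp⟩ : ∃ W ≤ R, Inv N W ∧ ND (polarBilin Q) W ∧
        finrank F W = 2 * (w - 1) ∧ (Plus Q W ↔ P) := by
      by_cases hs : 3 ≤ finrank F (U.map N)
      · exact ih (e - 1) (by omega) R hRI hRn (by omega) (by omega) hRc (w - 1) (by omega) (by omega) P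
      obtain ⟨x, hx, hbx⟩ := hRc
      obtain ⟨hPn, hPd, hPI, -⟩ := h.plane hbx
      set Y₂ := Submodule.span F {x, N x}
      have hY₂ : Y₂ ≤ R := Submodule.span_le.mpr (by
        rintro t (rfl | rfl)
        · exact hx
        · exact hRI x hx)
      obtain ⟨hR₂n, hinf₂, hsup₂, hR₂d⟩ := split_perpIn refl_bilin hY₂ hPn hRn
      set R₂ := perpIn (polarBilin Q) Y₂ R
      have hR₂0 : ∀ t ∈ R₂, N t = 0 := by
        have hN0 : N x ≠ 0 := fun e0 => hbx (by rw [e0, polar_zero_right])
        have hle : R.map N ≤ Submodule.span F {N x} := by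
          refine (Submodule.eq_of_le_of_finrank_le ((Submodule.span_singleton_le_iff_mem (N x) (R.map N)).mpr ⟨x, hx, rfl⟩) ?_).ge
          rw [finrank_span_singleton hN0]; omega
        intro t ht
        have h4 : N t ∈ Y₂ ⊓ R₂ :=
          ⟨(Submodule.span_singleton_le_iff_mem _ _).mpr (Submodule.subset_span (by simp)) (hle (Submodule.mem_map_of_mem ht.1)),
            h.inv_perp hPI hRI t ht⟩
        rwa [hinf₂, Submodule.mem_bot] at h4
      obtain ⟨X, hX, hXn, hXd, hXp⟩ := exists_type hR₂n (K := w - 1) (by omega) (by omega) P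
      exact ⟨X, hX.trans perpIn_le, fun t ht => by rw [hR₂0 t (hX ht)]; exact zero_mem _, hXn, hXd, hXp⟩
    have horth : ∀ y ∈ Y, ∀ z ∈ W, polar Q y z = 0 := fun y hy z hz => (hW hz).2 y hy
    obtain ⟨-, hd', hn'⟩ := sup_dims hYn hWn horth
    refine ⟨Y ⊔ W, sup_le hY (hW.trans perpIn_le), hYI.sup hWI, hn', by omega, ?_⟩
    rw [plus_sup_iff hYn hWn horth ⟨1, hYd⟩ ⟨w - 1, by omega⟩, hYp, true_iff, hWp]

end CfsgLib.OrthIso
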