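/-
Isometries of odd prime order of even-dimensional spaces and non-degenerate subspaces of even dimension.
-/
import Cfsg.Agent.Lib.OrthIso.SingTS
import Cfsg.Agent.Lib.OrthIso.NondegOdd
import Cfsg.Agent.Lib.OrthIso.EvenOdd

set_option autoImplicit false
set_option linter.unusedSectionVars false
set_option maxHeartbeats 1000000

namespace CfsgLib.OrthIso

open Module Polynomial QuadraticMap CfsgLib.PrimeIso CfsgLib.MaxSub.Elusive

universe u v

variable {F : Type u} [Field F] [Fintype F] {V : Type v} [AddCommGroup V] [Module F V] [FiniteDimensional F V]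
  {Q : QuadraticForm F V} {T : Module.End F V} {p r : ℕ} [Fact p.Prime] [CharP F p] [Fact r.Prime]
  (hrp : r ≠ p) (hr2 : r ≠ 2) (hQ : ND (polarBilin Q) (⊤ : Submodule F V))
include hrp hr2 hQ

/-- A class smaller than a block does not consist of fixed spaces. -/
theorem not_fixed_space (hiso : ∀ v, Q (T v) = Q v) (hper : T ^ r = 1) {c m : ℕ}
    (hc : c = if Even (orderOf (Fintype.card F : ZMod r)) then orderOf (Fintype.card F : ZMod r)
      else 2 * orderOf (Fintype.card F : ZMod r)) (hmc : m < c) (P : Prop)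
    (hA : finrank F (LinearMap.ker (aeval T (X - C (1 : F)))) = m)
    (hAn : ND (polarBilin Q) (LinearMap.ker (aeval T (X - C (1 : F)))))
    (hAp : Plus Q (LinearMap.ker (aeval T (X - C (1 : F)))) ↔ P)
    (hdvd : r ∣ Nat.card {W : Submodule F V // finrank F W = m ∧ ND (polarBilin Q) W ∧ (Plus Q W ↔ P)}) : False := by
  classical
  have : Finite V := Module.finite_of_finite F
  set A := LinearMap.ker (aeval T (X - C (1 : F))) with hAdef
  have hTu : IsUnit T := IsUnit.of_pow_eq_one hper (Fact.out : r.Prime).ne_zero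
  let t : V ≃ₗ[F] V := LinearEquiv.ofBijective T ((Module.End.isUnit_iff T).mp hTu)
  have ht : ∀ v, Q (t v) = Q v := hiso
  set S := {W : Submodule F V // finrank F W = m ∧ ND (polarBilin Q) W ∧ (Plus Q W ↔ P)}
  have hmem : ∀ W : S, finrank F (W.1.map (t : V →ₗ[F] V)) = m ∧ ND (polarBilin Q) (W.1.map (t : V →ₗ[F] V)) ∧
      (Plus Q (W.1.map (t : V →ₗ[F] V)) ↔ P) := fun W =>
    ⟨(iso_map ht W.1).finrank_eq.symm.trans W.2.1, (iso_map ht W.1).nd W.2.2.1,
      ⟨fun h => W.2.2.2.mp ((iso_map ht W.1).symm.plus h), fun h => (iso_map ht W.1).plus (W.2.2.2.mpr h)⟩⟩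
  let f : S → S := fun W => ⟨W.1.map (t : V →ₗ[F] V), hmem W⟩
  have hfinj : Function.Injective f := fun W W' e =>
    Subtype.ext (Submodule.map_injective_of_injective t.injective (congrArg Subtype.val e))
  let σ : Equiv.Perm S := Equiv.ofBijective f (Finite.injective_iff_bijective.mp hfinj)
  have hσ : σ ^ (r ^ 1) = 1 := by
    have key : ∀ (n : ℕ) (W : S), ((σ ^ n) W).1 = W.1.map (T ^ n) := fun n => by
      induction n with
      | zero => intro W; show W.1 = W.1.map (T ^ 0); rw [pow_zero, Module.End.one_eq_id, Submodule.map_id]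
      | succ n ih =>
        intro W
        rw [pow_succ', Equiv.Perm.mul_apply, pow_succ', Module.End.mul_eq_comp, Submodule.map_comp, ← ih]
        rfl
    refine Equiv.ext fun W => Subtype.ext ?_
    rw [key, pow_one, hper, Module.End.one_eq_id, Submodule.map_id]
    rfl
  have : Fintype S := Fintype.ofFinite S
  have hmod := Equiv.Perm.card_compl_support_modEq (p := r) hσ
  rw [Nat.card_eq_fintype_card] at hdvd
  have hfix : r ∣ σ.supportᶜ.card := (Nat.modEq_zero_iff_dvd).mp (hmod.trans ((Nat.modEq_zero_iff_dvd).mpr hdvd))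
  have hfixed : ∀ W : S, σ W = W ↔ W.1 = A := by
    intro W
    constructor
    · intro hW
      have hWT : Inv T W.1 := fun x hx => (congrArg Subtype.val hW).le ⟨x, hx, rfl⟩
      obtain ⟨e, he, hsum⟩ := split_dim hrp hr2 hQ hiso hper hc hWT W.2.2.1
      rw [W.2.1] at hsum
      change finrank F ↥(W.1 ⊓ A) + e * c = m at hsum
      have he0 : e = 0 := by
        by_contra he0
        have := Nat.le_mul_of_pos_left c (Nat.pos_of_ne_zero he0)
        omega
      subst he0
      have h1 := Submodule.eq_of_le_of_finrank_le (inf_le_left : W.1 ⊓ A ≤ W.1) (by rw [W.2.1]; omega)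
      exact Submodule.eq_of_le_of_finrank_le (h1 ▸ inf_le_right) (by rw [W.2.1, hA])
    · intro hW
      refine Subtype.ext (Submodule.eq_of_le_of_finrank_eq ?_ ?_)
      · rintro _ ⟨x, hx, rfl⟩
        have hTx : T x = x := by simpa [hAdef, sub_eq_zero] using hW.le hx
        show T x ∈ W.1
        rwa [hTx]
      · exact LinearEquiv.finrank_map_eq t W.1
  have hone : σ.supportᶜ = {⟨A, hA, hAn, hAp⟩} := by
    ext W
    simp only [Finset.mem_compl, Equiv.Perm.mem_support, not_not, Finset.mem_singleton]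
    exact (hfixed W).trans ⟨fun h => Subtype.ext h, fun h => congrArg Subtype.val h⟩
  rw [hone, Finset.card_singleton, Nat.dvd_one] at hfix
  exact (Fact.out : r.Prime).ne_one hfix

variable {n m i c : ℕ} (hn : finrank F V = n) (hne : Even n)
  (hi : i = orderOf (Fintype.card F : ZMod r)) (hc : c = if Even i then i else 2 * i)
include hn hne hi hc

/-- A member assembled from a fixed and a moved piece. -/
theorem glue_member (hiso : ∀ v, Q (T v) = Q v) (hper : T ^ r = 1) (P : Prop) {e j a : ℕ}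
    (he : finrank F (LinearMap.ker (aeval T (geom F r))) = e * c) (hje : j ≤ e) (ha : a + j * c = m) (hae : Even a)
    (hcase : (0 < a ∧ a < finrank F (LinearMap.ker (aeval T (X - C (1 : F))))) ∨
      (a = 0 ∧ (P ↔ (Odd i ∨ Even j))) ∨
      (a = finrank F (LinearMap.ker (aeval T (X - C (1 : F)))) ∧
        (P ↔ (Plus Q (LinearMap.ker (aeval T (X - C (1 : F)))) ↔ (Odd i ∨ Even j))))) :
    ∃ W, Inv T W ∧ finrank F W = m ∧ ND (polarBilin Q) W ∧ (Plus Q W ↔ P) := by
  classical
  have hc' : c = if Even (orderOf (Fintype.card F : ZMod r)) then orderOf (Fintype.card F : ZMod r)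
      else 2 * orderOf (Fintype.card F : ZMod r) := by rw [← hi]; exact hc
  have h := perIso_of hrp hiso hper
  obtain ⟨hAn, hRn, -⟩ := nd_parts h (inv_top (T := T)) hQ
  rw [top_inf_eq] at hAn hRn
  obtain ⟨Y, hY, hYT, hYn, hYd⟩ := (exists_moved_dim hrp hr2 hiso hper hc' (inv_ker _) le_rfl hRn).2 j
    (by rw [he]; exact Nat.mul_le_mul_right c hje)
  have hYp : Plus Q Y ↔ (Odd i ∨ Even j) := type_moved hrp hr2 hiso hper hi hc hYT hY hYn hYd
  have hjc : Even (j * c) := (block_pos (F := F) (p := p) hrp hi hc).2.mul_left j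
  obtain ⟨W, hW, hWn, hWd, hWp⟩ : ∃ W ≤ LinearMap.ker (aeval T (X - C (1 : F))), ND (polarBilin Q) W ∧
      finrank F W = a ∧ ((Plus Q W ↔ Plus Q Y) ↔ P) := by
    obtain ⟨a', ha'⟩ := hae
    rcases hcase with ⟨h0, hlt⟩ | ⟨h0, hp⟩ | ⟨h0, hp⟩
    · obtain ⟨W, hW, hWn, hWd, hWp⟩ := exists_type hAn (K := a') (by omega) (by omega) (P ↔ Plus Q Y)
      exact ⟨W, hW, hWn, by omega, by tauto⟩
    · refine ⟨⊥, bot_le, fun x hx _ => (Submodule.mem_bot F).mp hx, by rw [finrank_bot]; omega, ?_⟩
      rw [iff_true_intro (plus_bot : Plus Q (⊥ : Submodule F V)), true_iff, hYp, hp]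
    · exact ⟨_, le_rfl, hAn, h0.symm, by rw [hYp, hp]⟩
  have hWY : ∀ x ∈ W, ∀ y ∈ Y, polar Q x y = 0 := fun x hx y hy => (fix_perp h (hW hx) (hY hy)).1
  obtain ⟨-, hd', hn'⟩ := sup_dims hWn hYn hWY
  have hWT : Inv T W := fun x hx => by rw [(fix_iff x).mp (hW hx)]; exact hx
  refine ⟨W ⊔ Y, hWT.sup hYT, by omega, hn', ?_⟩
  rw [plus_sup_iff hWn hYn hWY (hWd ▸ hae) (hYd ▸ hjc)]
  exact hWp

/-- The criterion in odd order prime to the characteristic. -/
theorem fixes_even (hm : 2 ≤ m) (hme : Even m) (hmn : m < n) (P : Prop)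
    (hdvd : r ∣ Nat.card {W : Submodule F V // finrank F W = m ∧ ND (polarBilin Q) W ∧ (Plus Q W ↔ P)}) :
    (∀ T : Module.End F V, (∀ v, Q (T v) = Q v) → T ^ r = 1 → T ≠ 1 →
      ∃ W, Inv T W ∧ finrank F W = m ∧ ND (polarBilin Q) W ∧ (Plus Q W ↔ P)) ↔
    ((n % c = 0 ∧ ¬ (Plus Q (⊤ : Submodule F V) ↔ (Odd i ∨ Even (n / c)))) ∨
      (c ≤ m ∧ ((0 < m % c ∧ (m % c < n % c ∨ (m % c = n % c ∧
          (P ↔ ((Plus Q (⊤ : Submodule F V) ↔ (Odd i ∨ Even (n / c))) ↔ (Odd i ∨ Even (m / c))))))) ∨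
        (m % c = 0 ∧ (P ↔ (Odd i ∨ Even (m / c))))))) := by
  classical
  have hc' : c = if Even (orderOf (Fintype.card F : ZMod r)) then orderOf (Fintype.card F : ZMod r)
      else 2 * orderOf (Fintype.card F : ZMod r) := by rw [← hi]; exact hc
  obtain ⟨hcpos, hce⟩ := block_pos (F := F) (p := p) hrp hi hc
  have hdm : m / c * c + m % c = m := Nat.div_add_mod' m c
  have hdn : n / c * c + n % c = n := Nat.div_add_mod' n c
  set N := n / c with hN
  set μ := m / c with hμ
  set k := n % c with hk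
  set l := m % c with hl
  have hkc : k < c := Nat.mod_lt _ hcpos
  have hlc : l < c := Nat.mod_lt _ hcpos
  constructor
  · intro H
    by_cases hmis : k = 0 ∧ ¬ (Plus Q (⊤ : Submodule F V) ↔ (Odd i ∨ Even N))
    · exact Or.inl hmis
    right
    obtain ⟨T, hT, hTr, hTf, -⟩ := exists_ts_model hrp hr2 hQ hn hi hc hdn
      (fun h0 => not_not.mp fun h' => hmis ⟨h0, h'⟩)
    obtain ⟨hAn, hRn, e, he, hsum, hAp, -⟩ := fix_data hrp hr2 hQ hn hi hc hT hTr
    have hee : e = N := Nat.eq_of_mul_eq_mul_right hcpos (by omega)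
    rw [hee] at hAp
    have hsmall : m < c → ¬ m < k := fun h1 h2 => by
      have := fix_le hrp hr2 hQ hT hTr hc' (by omega) hme h1 (by rw [hTf]; exact hkc) P hdvd
      omega
    have hNpos : 0 < N := by
      by_contra h0
      have h0' : N = 0 := by omega
      rw [h0', zero_mul] at hdn
      exact hsmall (by omega) (by omega)
    have hT1 : T ≠ 1 := fun e' => by
      rw [e', show aeval (1 : Module.End F V) (X - C (1 : F)) = 0 by simp, LinearMap.ker_zero, finrank_top, hn] at hTf
      omega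
    obtain ⟨W, hWT, hWd, hWn, hWp⟩ := H T hT hTr hT1
    have h := perIso_of hrp hT hTr
    obtain ⟨j, hj, hjs⟩ := split_dim hrp hr2 hQ hT hTr hc' hWT hWn
    obtain ⟨hW1n, hW2n, hWsup⟩ := nd_parts h hWT hWn
    set A := LinearMap.ker (aeval T (X - C (1 : F)))
    rw [hWd] at hjs
    have hak : finrank F ↥(W ⊓ A) ≤ k := hTf ▸ Submodule.finrank_mono inf_le_right
    have hla : l = finrank F ↥(W ⊓ A) := by
      rw [hl, ← hjs, Nat.add_mul_mod_self_right, Nat.mod_eq_of_lt (by omega)]
    have hjμ : j = μ := Nat.eq_of_mul_eq_mul_right hcpos (by omega)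
    rw [hjμ] at hj hjs
    have hR : Plus Q (W ⊓ LinearMap.ker (aeval T (geom F r)) : Submodule F V) ↔ (Odd i ∨ Even μ) :=
      type_moved hrp hr2 hT hTr hi hc (hWT.inf (inv_ker _)) inf_le_right hW2n hj
    have hle : Even (l) := by
      rw [hla]
      exact (Nat.even_add.mp (hjs ▸ hme)).mpr (hce.mul_left μ)
    have htype : Plus Q W ↔ (Plus Q (W ⊓ A : Submodule F V) ↔ (Odd i ∨ Even μ)) := by
      conv_lhs => rw [← hWsup]
      rw [plus_sup_iff hW1n hW2n (fun a ha z hz => (fix_perp h ha.2 hz.2).1) (hla ▸ hle) (hj ▸ hce.mul_left μ), hR]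
    rcases Nat.eq_zero_or_pos l with h0 | h0
    · refine ⟨?_, Or.inr ⟨h0, ?_⟩⟩
      · by_contra h5
        rw [hl, Nat.mod_eq_of_lt (by omega)] at h0
        omega
      · rw [← hWp, htype, Submodule.finrank_eq_zero.mp (hla.symm.trans h0),
          iff_true_intro (plus_bot : Plus Q (⊥ : Submodule F V)), true_iff]
    · rcases lt_or_eq_of_le (hla ▸ hak : l ≤ k) with h1 | h1
      · refine ⟨?_, Or.inl ⟨h0, Or.inl h1⟩⟩
        by_contra h5
        rw [hl, Nat.mod_eq_of_lt (by omega)] at h1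
        exact hsmall (by omega) h1
      · have hWA : W ⊓ A = A := Submodule.eq_of_le_of_finrank_le inf_le_right (by omega)
        have key : P ↔ ((Plus Q (⊤ : Submodule F V) ↔ (Odd i ∨ Even N)) ↔ (Odd i ∨ Even μ)) := by
          rw [← hWp, htype, hWA, hAp hne]
        refine ⟨?_, Or.inl ⟨h0, Or.inr ⟨h1, key⟩⟩⟩
        by_contra h5
        have hlm : l = m := Nat.mod_eq_of_lt (by omega)
        have hμ0 : μ = 0 := Nat.div_eq_of_lt (by omega)
        refine not_fixed_space hrp hr2 hQ hT hTr hc' (show m < c by omega) P (by rw [hTf]; omega) hAn ?_ hdvd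
        rw [hAp hne, key, hμ0]
        simp
  · intro hcase T hT hTr _
    obtain ⟨hAn, hRn, e, he, hsum, hAp, hf0⟩ := fix_data hrp hr2 hQ hn hi hc hT hTr
    set f := finrank F (LinearMap.ker (aeval T (X - C (1 : F))))
    rcases lt_or_ge e μ with hlt | hge
    · have := Nat.mul_le_mul_right c hlt
      rw [Nat.succ_mul] at this
      refine glue_member hrp hr2 hQ hn hne hi hc hT hTr P he le_rfl (a := m - e * c) (by omega)
        ((Nat.even_sub (by omega)).mpr (iff_of_true hme (hce.mul_left e))) (Or.inl ⟨by omega, by omega⟩)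
    have hfk : f % c = k := by rw [hk, ← hsum, Nat.add_mul_mod_self_right]
    have hfle := Nat.mod_le f c
    have hmisf : k = 0 ∧ ¬ (Plus Q (⊤ : Submodule F V) ↔ (Odd i ∨ Even N)) → c ≤ f := fun ⟨h1, h2⟩ => by
      rcases Nat.eq_zero_or_pos f with h3 | h3
      · refine absurd ?_ h2
        have hee : e = N := Nat.eq_of_mul_eq_mul_right hcpos (by omega)
        exact hee ▸ hf0 h3
      · exact Nat.le_of_dvd h3 (Nat.dvd_of_mod_eq_zero (hfk.trans h1))
    have hle : Even l := (Nat.even_add.mp (hdm.symm ▸ hme)).mp (hce.mul_left μ)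
    rcases Nat.eq_zero_or_pos l with h0 | h0
    · by_cases hP : P ↔ (Odd i ∨ Even μ)
      · exact glue_member hrp hr2 hQ hn hne hi hc hT hTr P he hge (a := 0) (by omega) Even.zero (Or.inr (Or.inl ⟨rfl, hP⟩))
      have hmis : k = 0 ∧ ¬ (Plus Q (⊤ : Submodule F V) ↔ (Odd i ∨ Even N)) :=
        hcase.resolve_right fun ⟨_, h⟩ => by
          rcases h with ⟨h, -⟩ | ⟨-, h⟩
          · omega
          · exact hP h
      have hcf := hmisf hmis
      obtain ⟨M, hM⟩ : ∃ M, μ = M + 1 := ⟨μ - 1, by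
        rcases Nat.eq_zero_or_pos μ with h' | h'
        · rw [h', zero_mul] at hdm; omega
        · omega⟩
      refine glue_member hrp hr2 hQ hn hne hi hc hT hTr P he (j := M) (by omega) (a := c)
        (by rw [hM, add_mul, one_mul] at hdm; omega) hce ?_
      rcases lt_or_eq_of_le hcf with h1 | h1
      · exact Or.inl ⟨hcpos, h1⟩
      · refine Or.inr (Or.inr ⟨h1, ?_⟩)
        have hee : e + 1 = N := Nat.eq_of_mul_eq_mul_right hcpos (by rw [add_mul, one_mul]; omega)
        have h2 := hmis.2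
        rw [hAp hne]
        rw [hM] at hP
        rw [← hee] at h2
        simp only [Nat.even_add_one, ← Nat.not_even_iff_odd] at hP h2 ⊢
        clear hcase hmis hmisf hAp hf0 hdvd
        by_cases a1 : Even i <;> by_cases a2 : Even e <;> by_cases a3 : Even M <;>
          by_cases a4 : Plus Q (⊤ : Submodule F V) <;> by_cases a5 : P <;> simp [a1, a2, a3, a4, a5] at hP h2 ⊢
    · have hlf : l ≤ f := by
        rcases hcase with h | ⟨-, ⟨-, h | ⟨h, -⟩⟩ | ⟨h, -⟩⟩
        · have := hmisf h; omega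
        · omega
        · omega
        · omega
      refine glue_member hrp hr2 hQ hn hne hi hc hT hTr P he hge (a := l) (by omega) hle ?_
      rcases lt_or_eq_of_le hlf with h1 | h1
      · exact Or.inl ⟨h0, h1⟩
      · refine Or.inr (Or.inr ⟨h1, ?_⟩)
        have hlk : l = k := by rw [← hfk, ← h1, Nat.mod_eq_of_lt hlc]
        have hee : e = N := Nat.eq_of_mul_eq_mul_right hcpos (by omega)
        rw [hAp hne, hee]
        rcases hcase with h | ⟨-, ⟨-, h | ⟨-, h⟩⟩ | ⟨h, -⟩⟩
        · omega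
        · omega
        · exact h
        · omega

end CfsgLib.OrthIso
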