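/-
Elements of prime order of orthogonal groups and non-degenerate subspaces of even dimension.
-/
import Cfsg.Agent.Lib.OrthIso.SingBridge
import Cfsg.Agent.Lib.OrthIso.NondegEven
import Cfsg.Agent.Lib.OrthIso.NondegTwo
import Cfsg.Agent.Lib.OrthIso.InvolTwo

set_option autoImplicit false
set_option linter.unusedSectionVars false
set_option maxHeartbeats 1000000

namespace CfsgLib.OrthIso

open Module Polynomial QuadraticMap CfsgLib.PrimeIso
open scoped Matrix MatrixGroups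

universe u

variable {F : Type u} [Field F] [Fintype F] {ι : Type} [Fintype ι] [DecidableEq ι] {p r : ℕ} [Fact p.Prime]
  [CharP F p] [Fact r.Prime]

/-- A unipotent element with a large range. -/
theorem anil_witness (Q : QuadraticForm F (ι → F)) (hQ : ND (polarBilin Q) (⊤ : Submodule F (ι → F))) {t : ℕ}
    (ht1 : 1 ≤ t) (ht : 4 * t < Fintype.card ι ∨ (4 * t = Fintype.card ι ∧ Plus Q (⊤ : Submodule F (ι → F)))) :
    ∃ (x : GL ι F) (N : Module.End F (ι → F)), x ∈ Cfsg.isometryGroup F ⇑Q ∧ x ^ p = 1 ∧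
      (∀ z : F, (x : Matrix ι ι F) ≠ z • (1 : Matrix ι ι F)) ∧ ANil Q N ∧
      finrank F (LinearMap.range N) = 2 * t ∧ ((x : Matrix ι ι F) - 1).rank = 2 * t ∧
      ∀ W : Submodule F (ι → F), W.map (Matrix.toLin' (x : Matrix ι ι F)) ≤ W → Inv N W := by
  classical
  obtain ⟨N, hN, hNd⟩ := exists_anil hQ (t := t) (by rwa [Module.finrank_fintype_fun_eq_card])
  have hN2 : N * N = 0 := LinearMap.ext fun v => hN.sq v
  have hpow : (1 + N) ^ p = 1 := by
    have key : ∀ k : ℕ, (1 + N) ^ k = 1 + (k : F) • N := fun k => by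
      induction k with
      | zero => simp
      | succ k ih =>
        rw [pow_succ, ih, mul_add, mul_one, add_mul, one_mul, smul_mul_assoc, hN2, smul_zero, add_zero, Nat.cast_succ,
          add_smul, one_smul]
        abel
    rw [key, CharP.cast_eq_zero, zero_smul, add_zero]
  obtain ⟨x, hx, hxp⟩ := exists_gl (1 + N) (Fact.out : p.Prime).pos hpow
  have hxv : ∀ v, (x : Matrix ι ι F) *ᵥ v = v + N v := fun v => by
    rw [← Matrix.toLin'_apply, hx]; rfl
  have hN0 : N ≠ 0 := fun e => by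
    rw [e, LinearMap.range_zero, finrank_bot] at hNd
    omega
  refine ⟨x, N, fun u _ => ?_, hxp, fun z hz => hN0 ?_, hN, hNd, ?_, fun W hW v hv => ?_⟩
  · show Q ((x : Matrix ι ι F) *ᵥ u) = Q u
    rw [hxv, hN.iso]
  · refine LinearMap.ext fun v => ?_
    have hz1 : ∀ v, N v = (z - 1) • v := fun v => by
      have := hxv v
      rw [hz, Matrix.smul_mulVec, Matrix.one_mulVec] at this
      rw [sub_smul, one_smul, this]; abel
    have := hN.sq v
    rw [hz1, hz1, smul_smul] at this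
    rcases smul_eq_zero.mp this with h | h
    · rw [hz1, mul_self_eq_zero.mp h, zero_smul]; rfl
    · rw [h, map_zero]; rfl
  · rw [Matrix.rank, ← Matrix.toLin'_apply', show Matrix.toLin' ((x : Matrix ι ι F) - 1) = N from
      LinearMap.ext fun v => by
        rw [Matrix.toLin'_apply, Matrix.sub_mulVec, Matrix.one_mulVec, hxv, add_sub_cancel_left], hNd]
  · have h1 : v + N v ∈ W := by rw [← hxv, ← Matrix.toLin'_apply]; exact hW ⟨v, hv, rfl⟩
    simpa using sub_mem h1 hv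

/-- The criterion for non-degenerate subspaces of even dimension. -/
theorem even_nd_class (Q : QuadraticForm F (ι → F)) (hQ : ND (polarBilin Q) (⊤ : Submodule F (ι → F)))
    {d m i c : ℕ} (hn : Fintype.card ι = 2 * d) (hd : 4 ≤ d) (hm : 2 ≤ m) (hme : Even m) (hmn : m + 2 ≤ 2 * d)
    (P : Prop) (hP : P → Plus Q (⊤ : Submodule F (ι → F)))
    (hr : r = 2 ∨ r ≠ p ∨ (¬ P ∧ Plus Q (⊤ : Submodule F (ι → F))))
    (hΩ : p = 2 → ∀ x : GL ι F, x ∈ Cfsg.isometryGroup F ⇑Q →
      (x ∈ Cfsg.Geo.omegaGL ⇑Q ↔ Even ((x : Matrix ι ι F) - 1).rank))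
    (hdvd : r ∣ Nat.card {W : Submodule F (ι → F) // finrank F W = m ∧ ND (polarBilin Q) W ∧ (Plus Q W ↔ P)})
    (hi : i = orderOf (Fintype.card F : ZMod r)) (hc : c = if Even i then i else 2 * i) :
    (∀ x : GL ι F, x ∈ Cfsg.Geo.omegaGL ⇑Q →
      (∃ z : F, ((x ^ r : GL ι F) : Matrix ι ι F) = z • (1 : Matrix ι ι F)) →
      (∀ z : F, (x : Matrix ι ι F) ≠ z • (1 : Matrix ι ι F)) →
      ∃ W : Submodule F (ι → F), (finrank F ↥W = m ∧ ND (polarBilin Q) W ∧ (Plus Q W ↔ P)) ∧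
        W.map (Matrix.toLin' (x : Matrix ι ι F)) ≤ W) ↔
    ((r = 2 ∧ p = 2 ∧ (P ↔ Plus Q (⊤ : Submodule F (ι → F))) ∧
        (P → Odd d ∨ Even (m / 2)) ∧ (¬ P → Even d ∨ Odd (m / 2))) ∨
      (r = 2 ∧ p ≠ 2 ∧
        (¬ (IsSquare ((2 : F) ^ d) ∧ (Plus Q (⊤ : Submodule F (ι → F)) ↔ (IsSquare (-1 : F) ∨ Even d))) ∨
          (P ↔ (IsSquare (-1 : F) ∨ Even (m / 2))))) ∨
      (r ≠ p ∧ 2 < r ∧
        (((2 * d) % c = 0 ∧ ¬ (Plus Q (⊤ : Submodule F (ι → F)) ↔ (Odd i ∨ Even ((2 * d) / c)))) ∨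
          (c ≤ m ∧ ((0 < m % c ∧ (m % c < (2 * d) % c ∨ (m % c = (2 * d) % c ∧
              (P ↔ ((Plus Q (⊤ : Submodule F (ι → F)) ↔ (Odd i ∨ Even ((2 * d) / c))) ↔ (Odd i ∨ Even (m / c))))))) ∨
            (m % c = 0 ∧ (P ↔ (Odd i ∨ Even (m / c))))))))) := by
  classical
  have hrpr : r.Prime := Fact.out
  have hdim : finrank F (ι → F) = 2 * d := by rw [Module.finrank_fintype_fun_eq_card, hn]
  obtain ⟨w, rfl⟩ : ∃ w, m = 2 * w := ⟨m / 2, by have := Nat.even_iff.mp hme; omega⟩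
  rw [show 2 * w / 2 = w by omega]
  -- elements of order the characteristic without fixed members
  have hwit : ∀ (hΩ' : ∀ t, 1 ≤ t → ∀ x : GL ι F, x ∈ Cfsg.isometryGroup F ⇑Q → x ^ p = 1 →
        ((x : Matrix ι ι F) - 1).rank = 2 * t → x ∈ Cfsg.Geo.omegaGL ⇑Q) (hrp : r = p),
      (∀ x : GL ι F, x ∈ Cfsg.Geo.omegaGL ⇑Q →
        (∃ z : F, ((x ^ r : GL ι F) : Matrix ι ι F) = z • (1 : Matrix ι ι F)) →
        (∀ z : F, (x : Matrix ι ι F) ≠ z • (1 : Matrix ι ι F)) →
        ∃ W : Submodule F (ι → F), (finrank F ↥W = 2 * w ∧ ND (polarBilin Q) W ∧ (Plus Q W ↔ P)) ∧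
          W.map (Matrix.toLin' (x : Matrix ι ι F)) ≤ W) →
      (P ↔ Plus Q (⊤ : Submodule F (ι → F))) ∧ (P → Odd d ∨ Even w) ∧ (¬ P → Even d ∨ Odd w) := by
    intro hΩ' hrp H
    rcases Nat.even_or_odd d with ⟨k, hk⟩ | ⟨k, hk⟩
    · by_cases hV : Plus Q (⊤ : Submodule F (ι → F))
      · obtain ⟨x, N, hxi, hxp, hns, hN, hNd, hxr, hinv⟩ :=
          anil_witness (p := p) Q hQ (t := k) (by omega) (Or.inr ⟨by omega, hV⟩)
        obtain ⟨W, ⟨hWd, hWn, hWp⟩, hWx⟩ := H x (hΩ' k (by omega) x hxi hxp hxr)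
          ⟨1, by rw [hrp, hxp, Units.val_one, one_smul]⟩ hns
        rcases hN.invariant hQ hdim (by omega) (hinv W hWx) hWn hWd with ⟨hwe, hWp'⟩ | ⟨-, h9, -⟩
        · exact ⟨iff_of_true (hWp.mp hWp') hV, fun _ => Or.inr hwe, fun h => absurd (hWp.mp hWp') h⟩
        · omega
      · exact ⟨iff_of_false (mt hP hV) hV, fun h => absurd (hP h) hV, fun _ => Or.inl ⟨k, hk⟩⟩
    · obtain ⟨x, N, hxi, hxp, hns, hN, hNd, hxr, hinv⟩ :=
        anil_witness (p := p) Q hQ (t := k) (by omega) (Or.inl (by omega))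
      obtain ⟨W, ⟨hWd, hWn, hWp⟩, hWx⟩ := H x (hΩ' k (by omega) x hxi hxp hxr)
        ⟨1, by rw [hrp, hxp, Units.val_one, one_smul]⟩ hns
      rcases hN.invariant hQ hdim (by omega) (hinv W hWx) hWn hWd with ⟨hwe, hWp'⟩ | ⟨hwo, -, hWp'⟩
      · have hP' := hWp.mp hWp'
        exact ⟨iff_of_true hP' (hP hP'), fun _ => Or.inl ⟨k, hk⟩, fun h => absurd hP' h⟩
      · exact ⟨hWp.symm.trans hWp', fun _ => Or.inl ⟨k, hk⟩, fun _ => Or.inr hwo⟩
  by_cases hr2 : r = 2
  swap
  · have hr3 : 2 < r := by have := hrpr.two_le; omega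
    by_cases hrp : r = p
    · obtain ⟨hnP, hV⟩ := (hr.resolve_left hr2).resolve_left (not_not.mpr hrp)
      refine iff_of_false (fun H => ?_) ?_
      · obtain ⟨h1, -, -⟩ := hwit (fun t _ x hxi hxp _ => mem_omega_odd Q (nondeg_of hQ) (by omega) hxi
          (hrp ▸ hrpr.odd_of_ne_two hr2) hxp) hrp H
        exact hnP (h1.mpr hV)
      · rintro (⟨h, -⟩ | ⟨h, -⟩ | ⟨h, -⟩)
        · exact hr2 h
        · exact hr2 h
        · exact h hrp
    rw [ts_forall_iff Q hQ (by omega) hr2 (fun W => finrank F W = 2 * w ∧ ND (polarBilin Q) W ∧ (Plus Q W ↔ P)),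
      fixes_even hrp hr2 hQ hdim (even_two_mul d) hi hc hm hme (by omega) P hdvd]
    constructor
    · exact fun h => Or.inr (Or.inr ⟨hrp, hr3, h⟩)
    · rintro (⟨h, -⟩ | ⟨h, -⟩ | ⟨-, -, h⟩)
      · exact absurd h hr2
      · exact absurd h hr2
      · exact h
  subst hr2
  by_cases hp2 : p = 2
  swap
  · rw [even_nd_two hp2 Q hQ hn rfl (by omega) (by omega) P]
    constructor
    · exact fun h => Or.inr (Or.inl ⟨rfl, hp2, h⟩)
    · rintro (⟨-, h, -⟩ | ⟨-, -, h⟩ | ⟨-, h, -⟩)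
      · exact absurd h hp2
      · exact h
      · omega
  subst hp2
  constructor
  · intro H
    exact Or.inl ⟨rfl, rfl, hwit (fun t _ x hxi _ hxr => (hΩ rfl x hxi).mpr (hxr ▸ even_two_mul t)) rfl H⟩
  · rintro (⟨-, -, hPV, hp1, hp0⟩ | ⟨-, h, -⟩ | ⟨h, -⟩) x hx ⟨z, hz⟩ hns
    rotate_left
    · exact absurd rfl h
    · exact absurd rfl h
    set T : Module.End F (ι → F) := Matrix.toLin' (x : Matrix ι ι F) with hT
    have hTi : ∀ v, Q (T v) = Q v := fun v => by rw [hT, Matrix.toLin'_apply]; exact omegaGL_le hx v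
    obtain ⟨g₀, -, hg₀⟩ := exists_aniso hQ (fun e => by
      have := finrank_top F (ι → F)
      rw [e, finrank_bot, hdim] at this; omega)
    have hTT : ∀ v, T (T v) = z • v := fun v => by
      rw [Units.val_pow_eq_pow_val, pow_two] at hz
      rw [hT, Matrix.toLin'_apply, Matrix.toLin'_apply, Matrix.mulVec_mulVec, hz, Matrix.smul_mulVec,
        Matrix.one_mulVec]
    have hz1 : z = 1 := CharTwo.sq_injective
      (by simpa [pow_two] using scalar_sq (Q := Q) hg₀ (z := z) (by rw [← hTT, hTi, hTi]))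
    set N : Module.End F (ι → F) := T - 1 with hNdef
    have hNv : ∀ v, N v = T v + v := fun v => by
      rw [hNdef, LinearMap.sub_apply, Module.End.one_apply, sub_eq_add_neg, ← neg_one_smul F v, CharTwo.neg_eq, one_smul]
    have hself : ∀ a : F, a + a = 0 := CharTwo.add_self_eq_zero
    have hB : ∀ a b, polar Q (T a) (T b) = polar Q a b := fun a b => by simp only [polar, ← map_add, hTi]
    have hC : CInv Q N := by
      refine ⟨fun a b => ?_, fun a => ?_, fun a => ?_⟩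
      · rw [hNv, hNv, polar_add_left, polar_add_right, ← hB (T a) b, hTT, hz1, one_smul]
      · rw [hNv, hNv, map_add, hTT, hz1, one_smul]
        have : T a + T a = 0 := funext fun j => hself _
        rw [add_comm a (T a), ← add_assoc, add_assoc (T a) a (T a), add_comm a (T a), ← add_assoc, this, zero_add]
        exact funext fun j => hself _
      · rw [hNv, q_add, hTi, polar_add_right, polar_comm Q a (T a), polar_self, nsmul_eq_mul, Nat.cast_ofNat,
          CharTwo.two_eq_zero, zero_mul, add_zero, hself, zero_add]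
    have hrank : Even (finrank F (LinearMap.range N)) := by
      have h := (hΩ rfl x fun u _ => omegaGL_le hx u).mp hx
      rw [Matrix.rank, ← Matrix.toLin'_apply', map_sub, Matrix.toLin'_one] at h
      exact h
    obtain ⟨W, hWI, hWn, hWd, hWp⟩ : ∃ W, Inv N W ∧ ND (polarBilin Q) W ∧ finrank F W = 2 * w ∧ (Plus Q W ↔ P) := by
      by_cases hc0 : ∀ v, polar Q v (N v) = 0
      · have hA : ANil Q N := ⟨fun v => (hC.val v).trans (hc0 v), hc0, hC.sq⟩
        obtain ⟨W, -, hWI, hWn, hWd, hWp⟩ := hA.exists_invariant d ⊤ inv_top hQ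
          (by rw [finrank_top, hdim]) w (by omega) (fun hV => hp1 (hPV.mpr hV))
          (fun hV => ⟨by omega, hp0 (mt hPV.mp hV)⟩)
        exact ⟨W, hWI, hWn, hWd, hWp.trans hPV.symm⟩
      · push Not at hc0
        obtain ⟨v, hv⟩ := hc0
        have hne : finrank F (LinearMap.range N) ≠ 0 := fun e => hv (by
          have : N v = 0 := (Submodule.mem_bot F).mp (Submodule.finrank_eq_zero.mp e ▸ LinearMap.mem_range_self N v)
          rw [this, polar_zero_right])
        obtain ⟨k, hk⟩ := hrank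
        obtain ⟨W, -, hW⟩ := hC.exists_member d ⊤ inv_top hQ (by rw [finrank_top, hdim])
          (by rw [Submodule.map_top]; omega) ⟨v, trivial, hv⟩ w (by omega) (by omega) P
        exact ⟨W, hW⟩
    refine ⟨W, ⟨hWd, hWn, hWp⟩, toLin'_map_le_iff.mpr fun v hv => ?_⟩
    have h1 := sub_mem (hWI v hv) hv
    rwa [hNv, add_sub_cancel_right] at h1

end CfsgLib.OrthIso
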